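import Groth.Agent.BlowPtLib.OneVan

/-!
# Anticanonical twists of the blow-up of projective space at at most one point
-/

set_option autoImplicit false
set_option linter.style.haveILetI false
set_option linter.unusedSectionVars false
set_option maxHeartbeats 1000000
set_option backward.isDefEq.respectTransparency false
set_option backward.isDefEq.respectTransparency.types false

universe u

open CategoryTheory CategoryTheory.Limits AlgebraicGeometry TopologicalSpace Opposite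
open HilbPolyLib (congrLeft congrRight assocIso swapIso unitLeft leftComm)
open KFlatLib (pb)

noncomputable section

namespace BlowPtLib

/-- Inverses of isomorphic modules are isomorphic. -/
theorem nonempty_inverse_congr {X : Scheme.{u}} {A A' B B' : X.Modules}
    (hA : CohB1.tensorMod A' A ≅ Coh.structureModule X) (hB : CohB1.tensorMod B B' ≅ Coh.structureModule X)
    (f : A ≅ B) : Nonempty (A' ≅ B') :=
  ⟨(unitLeft _).symm ≪≫ swapIso _ _ ≪≫ congrRight _ hB.symm ≪≫ (assocIso _ _ _).symm ≪≫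
    congrLeft (congrRight _ f.symm ≪≫ hA) _ ≪≫ unitLeft _⟩

variable {k : Type u} [Field k] [IsAlgClosed k] {m : ℕ} {p : ↥(CohB1.ProjSpace (m + 1) k)}
  {X : Scheme.{u}} {π : X ⟶ CohB1.ProjSpace (m + 1) k}

/-- Powers of the line bundles. -/
theorem nonempty_bd_pow (φ : X ⟶ CohB1.ProjSpace m k) (c e : ℤ) : ∀ t : ℕ,
    Nonempty (CohB1.tensorPow (bd π φ c e) t ≅ bd π φ (c * t) (e * t))
  | 0 => by
    obtain ⟨z⟩ := nonempty_bd_zero (π := π) φ (0 : ℤ)
    obtain ⟨w⟩ := nonempty_pb_twist_zero π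
    exact ⟨w.symm ≪≫ z.symm ≪≫ eqToIso (by simp)⟩
  | t + 1 => by
    obtain ⟨f⟩ := nonempty_bd_pow φ c e t
    obtain ⟨a⟩ := nonempty_bd_add (π := π) φ (c * t) c (e * t) e
    exact ⟨congrLeft f _ ≪≫ a ≪≫ eqToIso (by push_cast; ring_nf)⟩

variable {s : ℕ} {P : Fin s → ↥(CohB1.ProjSpace (m + 1) k)}
  (hP : Function.Injective P) (hPc : ∀ i, IsClosed ({P i} : Set ↥(CohB1.ProjSpace (m + 1) k)))
  (hZ : IsClosed (Set.range P))
  (hπ : BlowUp.IsBlowUp π (Scheme.IdealSheafData.vanishingIdeal ⟨Set.range P, hZ⟩))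

include hP hPc hπ in
/-- Without points the exceptional twists are trivial. -/
theorem nonempty_exc_empty (hs : s = 0) (e : ℕ) :
    Nonempty (CohB1.tensorPow (ClSub.idealMod
      ((Scheme.IdealSheafData.vanishingIdeal ⟨Set.range P, hZ⟩).comap π)) e ≅ Coh.structureModule X) := by
  subst hs
  obtain ⟨f⟩ := nonempty_multiTwist_const hP hPc hZ hπ e
  exact ⟨f⟩

include hPc in
/-- A blow-up in one indexed point is a blow-up in that point. -/
theorem single_point (hs : s = 1) : ∃ (p : ↥(CohB1.ProjSpace (m + 1) k)) (hp : IsClosed ({p} : Set _)),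
    Scheme.IdealSheafData.vanishingIdeal (⟨Set.range P, hZ⟩ : Closeds (CohB1.ProjSpace (m + 1) k)) =
      Scheme.IdealSheafData.vanishingIdeal ⟨{p}, hp⟩ := by
  subst hs
  exact ⟨P 0, hPc 0, congrArg _ (Closeds.ext (Set.range_unique))⟩

include hP hPc hπ in
/-- **No intermediate cohomology in anticanonical twists.** -/
theorem subsingleton_anticanonical (hm : 2 ≤ m) (hs : s ≤ 1) (Hm Hi : X.Modules)
    (hHm : Nonempty (Hm ≅ CohB1.tensorMod (pO π ((m : ℤ) + 2))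
      (CohB1.tensorPow (ClSub.idealMod ((Scheme.IdealSheafData.vanishingIdeal ⟨Set.range P, hZ⟩).comap π)) m)))
    (hHi : ClSub.IsInverseOf Hi Hm) (q t : ℕ) (hq1 : 1 ≤ q) (hq : q ≤ m) :
    Subsingleton (Coh.HH X (CohB1.tensorPow Hm t) q) ∧ Subsingleton (Coh.HH X (CohB1.tensorPow Hi t) q) := by
  obtain ⟨h⟩ := hHm
  obtain ⟨hi⟩ := hHi
  have hsp : ∀ c, Subsingleton (Coh.HH X (pO π c) q) := fun c =>
    subsingleton_pO hP hPc hZ hπ (by omega) c q (Or.inl ⟨hq1, hq⟩)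
  rcases Nat.le_one_iff_eq_zero_or_eq_one.1 hs with hs' | hs'
  · obtain ⟨z⟩ := nonempty_exc_empty hP hPc hZ hπ hs' m
    let h' : Hm ≅ pO π ((m : ℤ) + 2) := h ≪≫ congrRight _ z ≪≫ swapIso _ _ ≪≫ unitLeft _
    obtain ⟨a⟩ := nonempty_pb_twist_add π ((m : ℤ) + 2) (-((m : ℤ) + 2))
    obtain ⟨w⟩ := nonempty_pb_twist_zero π
    obtain ⟨hi'⟩ := nonempty_inverse_congr hi (a ≪≫ eqToIso (congrArg (pO π) (add_neg_cancel _)) ≪≫ w) h'
    have hpow : ∀ (A : X.Modules) (c : ℤ), (A ≅ pO π c) → ∀ t : ℕ,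
        Nonempty (CohB1.tensorPow A t ≅ pO π (c * t)) := fun A c f t => by
      induction t with
      | zero => exact ⟨w.symm ≪≫ eqToIso (congrArg (pO π) (by simp))⟩
      | succ t ih =>
        obtain ⟨g⟩ := ih
        obtain ⟨b⟩ := nonempty_pb_twist_add π (c * t) c
        exact ⟨congrLeft g _ ≪≫ congrRight _ f ≪≫ b ≪≫ eqToIso (congrArg (pO π) (by push_cast; ring))⟩
    obtain ⟨p₁⟩ := hpow Hm _ h' t
    obtain ⟨p₂⟩ := hpow Hi _ hi' t
    exact ⟨HdgLefLib.sub_iso p₁.symm q (hsp _), HdgLefLib.sub_iso p₂.symm q (hsp _)⟩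
  · obtain ⟨p, hp, e⟩ := single_point hPc hZ hs'
    have hπ' : BlowUp.IsBlowUp π (Scheme.IdealSheafData.vanishingIdeal ⟨{p}, hp⟩) := e ▸ hπ
    rw [e] at h
    obtain ⟨φ, -, hφ⟩ := exists_projection hp hπ'
    obtain ⟨j⟩ := nonempty_exJ_pow hp φ hφ ((m : ℤ) + 2) m
    let h' : Hm ≅ bd π φ ((m : ℤ) + 2) m := h ≪≫ j
    obtain ⟨a⟩ := nonempty_bd_add (π := π) φ ((m : ℤ) + 2) (-((m : ℤ) + 2)) m (-(m : ℤ))
    obtain ⟨z⟩ := nonempty_bd_zero (π := π) φ (0 : ℤ)
    obtain ⟨w⟩ := nonempty_pb_twist_zero π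
    obtain ⟨hi'⟩ := nonempty_inverse_congr hi (a ≪≫ eqToIso (by rw [add_neg_cancel, add_neg_cancel]) ≪≫ z ≪≫ w) h'
    obtain ⟨p₁⟩ := nonempty_bd_pow (π := π) φ ((m : ℤ) + 2) m t
    obtain ⟨p₂⟩ := nonempty_bd_pow (π := π) φ (-((m : ℤ) + 2)) (-(m : ℤ)) t
    obtain ⟨c₁⟩ := CurveDualLib.nonempty_tensorPow_congr h' t
    obtain ⟨c₂⟩ := CurveDualLib.nonempty_tensorPow_congr hi' t
    refine ⟨HdgLefLib.sub_iso (c₁ ≪≫ p₁).symm q ?_, HdgLefLib.sub_iso (c₂ ≪≫ p₂).symm q ?_⟩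
    · have := bd_pos hp hπ' φ hφ (by omega) (((m : ℤ) + 2) * t) (m * t) q (by push_cast; nlinarith) hq1
      simpa using this
    · have h3 := bd_neg_all hp hπ' φ hφ (by omega) (-((m : ℤ) + 2) * t) (m * t) q hq1 hq fun _ => by
        rcases Nat.eq_zero_or_pos t with rfl | ht
        · exact Or.inr (by simp)
        · exact Or.inl (by push_cast; nlinarith)
      rw [show -((m * t : ℕ) : ℤ) = -(m : ℤ) * t by push_cast; ring] at h3
      exact h3

end BlowPtLib
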