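import Groth.Agent.LichtLib.Ample
import Groth.Agent.BlowUpLib.RegSmooth
import Groth.Agent.GenusZeroLib.Embed
import Groth.Agent.GenusZeroLib.PSpace

/-!
# The exceptional divisor over a rational point
-/

set_option autoImplicit false
set_option linter.style.haveILetI false
set_option linter.unusedSectionVars false
set_option maxHeartbeats 1000000
set_option backward.isDefEq.respectTransparency false
set_option backward.isDefEq.respectTransparency.types false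

universe u

open CategoryTheory CategoryTheory.Limits AlgebraicGeometry TopologicalSpace Opposite
open AmpleLib AmpleThLib
open TwistLib (genSet)
open LichtLib (ideFn)

noncomputable section

namespace BlowPtLib

variable {P X : Scheme.{u}} {b : X ⟶ P} {𝓘 : P.IdealSheafData}

/-- The chart of a blow-up attached to a given element of the ideal. -/
theorem exists_chart_of_mem (hb : BlowUp.IsBlowUp b 𝓘) (U₀ : P.affineOpens) (a : Γ(P, U₀.1)) (ha : a ∈ 𝓘.ideal U₀) :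
    ∃ (W : X.affineOpens) (hW : W.1 ≤ b ⁻¹ᵁ U₀.1)
      (ξ : Γ(X, W.1) →+* BlowUp.affineAlgebra Γ(P, U₀.1) (𝓘.ideal U₀) a),
      Function.Bijective ξ ∧
      (∀ x, ξ ((b.appLE U₀.1 W.1 hW).hom x) = algebraMap Γ(P, U₀.1) _ x) ∧
      (b.appLE U₀.1 W.1 hW).hom a ∈ nonZeroDivisors Γ(X, W.1) ∧
      (𝓘.comap b).ideal W = Ideal.span {(b.appLE U₀.1 W.1 hW).hom a} ∧
      ∀ (T : X.affineOpens) (hT : T.1 ≤ b ⁻¹ᵁ U₀.1),
        (b.appLE U₀.1 T.1 hT).hom a ∈ nonZeroDivisors Γ(X, T.1) →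
        (𝓘.comap b).ideal T = Ideal.span {(b.appLE U₀.1 T.1 hT).hom a} → T.1 ≤ W.1 := by
  obtain ⟨U, hU⟩ := U₀
  let U₀ : P.affineOpens := ⟨U, hU⟩
  have hP : BlowUp.IsBlowUp (pullback.fst hU.fromSpec b) (BlowUpLib.specIdeal (A := Γ(P, U)) (𝓘.ideal U₀)) :=
    BlowUpLib.comap_fromSpec 𝓘 U₀ ▸ BlowUpLib.isBlowUp_of_isPullback (IsPullback.of_hasPullback hU.fromSpec b).flip hb
  obtain ⟨e, he⟩ := BlowUpLib.exists_iso hP (BlowUpLib.isBlowUp_proj (𝓘.ideal U₀))
  let C := BlowUp.affineAlgebra Γ(P, U) (𝓘.ideal U₀) a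
  let w := RingEquiv.toCommRingCatIso (R := HomogeneousLocalization.Away (Rees.deg (reesAlgebra (𝓘.ideal U₀)))
    (BlowUpLib.degOne (𝓘.ideal U₀) a ha)) (S := C) (BlowUpLib.awayEquiv (𝓘.ideal U₀) a ha)
  let c₀ : Spec (CommRingCat.of C) ⟶ pullback hU.fromSpec b :=
    Spec.map w.hom ≫ Proj.awayι _ _ (BlowUpLib.degOne_mem (𝓘.ideal U₀) a ha) one_pos ≫ e.hom
  let c : Spec (CommRingCat.of C) ⟶ X := c₀ ≫ pullback.snd hU.fromSpec b
  have hcb : c ≫ b = Spec.map (CommRingCat.ofHom (algebraMap Γ(P, U) C)) ≫ hU.fromSpec := by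
    have h0 : c₀ ≫ pullback.fst hU.fromSpec b = Spec.map (CommRingCat.ofHom (algebraMap Γ(P, U) C)) := by
      simp only [c₀, Category.assoc]
      rw [he]
      change _ ≫ _ ≫ Proj.toSpecZero _ ≫ Spec.map _ = _
      rw [Proj.awayι_toSpecZero_assoc, ← Spec.map_comp, ← Spec.map_comp]
      exact congrArg (fun φ => Spec.map (CommRingCat.ofHom φ)) (BlowUpLib.awayEquiv_comp (𝓘.ideal U₀) a ha)
    simp only [c, Category.assoc]
    rw [← pullback.condition, reassoc_of% h0]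
  let W₀ : X.Opens := c.opensRange
  have hW₀ : IsAffineOpen W₀ := isAffineOpen_opensRange c
  have hW₀U : W₀ ≤ b ⁻¹ᵁ U := by
    rintro _ ⟨q, rfl⟩
    change (c ≫ b) q ∈ U
    rw [hcb]
    exact hU.range_fromSpec.subset ⟨_, rfl⟩
  let κ : Γ(P, U) →+* C := algebraMap Γ(P, U) C
  have hch : BlowUpLib.IsChart (𝓘.ideal U₀) a κ := BlowUpLib.isChart_affineAlgebra ha
  let ξ : Γ(X, W₀) →+* C :=
    ((Scheme.ΓSpecIso (CommRingCat.of C)).hom.hom).comp (c.appLE W₀ ⊤ (by rw [Scheme.Hom.preimage_opensRange])).hom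
  have hξb : Function.Bijective ξ := by
    have : IsIso (c.appLE W₀ ⊤ (by rw [Scheme.Hom.preimage_opensRange])) := by
      rw [Scheme.Hom.appLE]
      have h1 : IsIso (c.app W₀) := c.isIso_app W₀ le_rfl
      have h2 : IsIso ((Spec (CommRingCat.of C)).presheaf.map
          (homOfLE (show (⊤ : (Spec (CommRingCat.of C)).Opens) ≤ c ⁻¹ᵁ W₀ by rw [Scheme.Hom.preimage_opensRange])).op) := by
        have : IsIso (homOfLE (show (⊤ : (Spec (CommRingCat.of C)).Opens) ≤ c ⁻¹ᵁ W₀ by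
            rw [Scheme.Hom.preimage_opensRange])) := ⟨homOfLE le_top, rfl, rfl⟩
        infer_instance
      infer_instance
    exact ((ConcreteCategory.bijective_of_isIso (Scheme.ΓSpecIso (CommRingCat.of C)).hom).comp
      (ConcreteCategory.bijective_of_isIso (c.appLE W₀ ⊤ _)))
  have hξκ : ∀ x : Γ(P, U), ξ ((b.appLE U W₀ hW₀U).hom x) = κ x := by
    intro x
    show (Scheme.ΓSpecIso (CommRingCat.of C)).hom.hom _ = _
    rw [← CommRingCat.comp_apply (b.appLE U W₀ hW₀U), Scheme.Hom.appLE_comp_appLE]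
    simp only [hcb]
    have h2 : (Spec.map (CommRingCat.ofHom κ) ≫ hU.fromSpec).appLE U ⊤
        (by rw [Scheme.Hom.comp_preimage, hU.fromSpec_preimage_self]; rfl) ≫ (Scheme.ΓSpecIso (CommRingCat.of C)).hom =
        CommRingCat.ofHom κ := by
      rw [Scheme.Hom.appLE, Scheme.Hom.comp_app, hU.fromSpec_app_self]
      simp
      rw [← Functor.map_comp_assoc]
      erw [Subsingleton.elim (_ ≫ _ : (op (⊤ : (Spec (CommRingCat.of C)).Opens)) ⟶ op ⊤) (𝟙 _)]
      erw [CategoryTheory.Functor.map_id, Category.id_comp]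
      erw [Scheme.ΓSpecIso_naturality]
      exact Iso.inv_hom_id_assoc _ _
    exact DFunLike.congr_fun (congrArg CommRingCat.Hom.hom h2) x
  have hspan : (𝓘.ideal U₀).map (b.appLE U W₀ hW₀U).hom = Ideal.span {(b.appLE U W₀ hW₀U).hom a} := by
    have h0 : ξ.comp (b.appLE U W₀ hW₀U).hom = κ := RingHom.ext hξκ
    have h1 : ((𝓘.ideal U₀).map (b.appLE U W₀ hW₀U).hom).map ξ =
        (Ideal.span {(b.appLE U W₀ hW₀U).hom a}).map ξ := by
      rw [Ideal.map_map, h0, hch.span, Ideal.map_span, Set.image_singleton, hξκ]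
    have h2 := congrArg (Ideal.comap ξ) h1
    rwa [Ideal.comap_map_of_bijective ξ hξb, Ideal.comap_map_of_bijective ξ hξb] at h2
  refine ⟨⟨W₀, hW₀⟩, hW₀U, ξ, hξb, hξκ, ?_, ?_, fun T hTU hnz hJ => ?_⟩
  · refine mem_nonZeroDivisors_iff_right.mpr fun z hz => hξb.1 ?_
    have h1 := congrArg ξ hz
    rw [map_mul, map_zero, hξκ] at h1
    rw [map_zero]
    exact mem_nonZeroDivisors_iff_right.mp hch.nzd _ h1
  · exact (Groth.Agent.S4666.ideal_comap_eq 𝓘 b U₀ ⟨W₀, hW₀⟩ hW₀U).trans hspan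
  · obtain ⟨V, hV⟩ := T
    let φ : Γ(P, U) →+* Γ(X, V) := (b.appLE U V hTU).hom
    have hJ' : (𝓘.ideal U₀).map φ = Ideal.span {φ a} :=
      (Groth.Agent.S4666.ideal_comap_eq 𝓘 b U₀ ⟨V, hV⟩ hTU).symm.trans hJ
    obtain ⟨ψ, hψ, -⟩ := hch.lift Γ(X, V) φ hnz hJ'
    let k : Spec Γ(X, V) ⟶ X := Spec.map (CommRingCat.ofHom ψ) ≫ c
    have hk : k ≫ b = hV.fromSpec ≫ b := by
      show (Spec.map (CommRingCat.ofHom ψ) ≫ c) ≫ b = _
      rw [Category.assoc, hcb, ← Category.assoc, ← Spec.map_comp, ← CommRingCat.ofHom_comp,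
        show ψ.comp κ = φ from hψ, ← IsAffineOpen.SpecMap_appLE_fromSpec b hU hV hTU]
      rfl
    have hcart : BlowUp.IsEffCartierIdeal (𝓘.comap (hV.fromSpec ≫ b)) := by
      rw [Scheme.IdealSheafData.comap_comp]
      exact BlowUpLib.isEffCartier_comap_of_flat _ hb.1
    have hkk : k = hV.fromSpec := BlowUpLib.hom_ext hb _ hcart hk rfl
    intro z hzV
    obtain ⟨q, rfl⟩ : z ∈ Set.range hV.fromSpec := hV.range_fromSpec.symm ▸ hzV
    rw [← hkk]
    exact ⟨_, rfl⟩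

end BlowPtLib
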