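import Groth.Agent.ProjDegLib.Chart
import Groth.Agent.GenusZeroLib.PSmooth
import Mathlib.GroupTheory.CosetCover
import Mathlib.Algebra.MvPolynomial.Funext

/-!
# Closed points of projective space and the linear forms through them
-/

set_option autoImplicit false
set_option linter.unusedSectionVars false
set_option maxHeartbeats 1000000
set_option backward.isDefEq.respectTransparency false
set_option backward.isDefEq.respectTransparency.types false

universe u

open CategoryTheory AlgebraicGeometry TopologicalSpace Opposite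
open GradedCechLib ProjDegLib

noncomputable section

namespace BlowPtLib

/-- The vanishing ideal of a closed set meeting an affine open in one point. -/
theorem vanishingIdeal_eq_prime {X : Scheme.{u}} (Z : Closeds X) (U : X.affineOpens) (p : X) (hp : p ∈ U.1)
    (h : ∀ x ∈ U.1, x ∈ (Z : Set X) ↔ x = p) :
    (Scheme.IdealSheafData.vanishingIdeal Z).ideal U = (U.2.primeIdealOf ⟨p, hp⟩).asIdeal := by
  rw [Scheme.IdealSheafData.vanishingIdeal_ideal]
  have e : U.2.fromSpec ⁻¹' (Z : Set X) = {U.2.primeIdealOf ⟨p, hp⟩} := by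
    ext z
    have hz : U.2.fromSpec z ∈ U.1 := U.2.range_fromSpec.subset ⟨z, rfl⟩
    rw [Set.mem_preimage, h _ hz, Set.mem_singleton_iff]
    constructor
    · intro hz'
      exact U.2.fromSpec.isOpenEmbedding.injective (hz'.trans (U.2.fromSpec_primeIdealOf ⟨p, hp⟩).symm)
    · rintro rfl
      exact U.2.fromSpec_primeIdealOf ⟨p, hp⟩
  rw [e]
  exact PrimeSpectrum.vanishingIdeal_singleton _

/-- The vanishing ideal on an affine open missing the closed set. -/
theorem vanishingIdeal_eq_top {X : Scheme.{u}} (Z : Closeds X) (U : X.affineOpens)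
    (h : ∀ x ∈ U.1, x ∉ (Z : Set X)) :
    (Scheme.IdealSheafData.vanishingIdeal Z).ideal U = ⊤ := by
  rw [Scheme.IdealSheafData.vanishingIdeal_ideal]
  have e : U.2.fromSpec ⁻¹' (Z : Set X) = ∅ :=
    Set.eq_empty_iff_forall_notMem.2 fun z hz => h _ (U.2.range_fromSpec.subset ⟨z, rfl⟩) hz
  rw [e]
  exact PrimeSpectrum.vanishingIdeal_empty

variable (n : ℕ) (k : Type u) [Field k]

local notation "P" => CohB1.ProjSpace n k

theorem L_add (a : Fin (n + 1)) (c c' : Fin (n + 1) → k) : L n k a (c + c') = L n k a c + L n k a c' := by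
  simp [L, form, add_mul, Finset.sum_add_distrib]

theorem L_smul (a : Fin (n + 1)) (x : k) (c : Fin (n + 1) → k) :
    L n k a (x • c) = deh n k a (MvPolynomial.C x) * L n k a c := by
  simp [L, form, mul_assoc, Finset.mul_sum]

theorem L_zero (a : Fin (n + 1)) : L n k a 0 = 0 := by
  simp [L, form]

theorem L_sum (a : Fin (n + 1)) {ι : Type*} (s : Finset ι) (c : ι → Fin (n + 1) → k) :
    L n k a (∑ i ∈ s, c i) = ∑ i ∈ s, L n k a (c i) := by
  classical
  induction s using Finset.induction with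
  | empty => simp [L_zero]
  | insert i s hi ih => rw [Finset.sum_insert hi, Finset.sum_insert hi, L_add, ih]

theorem L_single_self (a : Fin (n + 1)) : L n k a (Pi.single a 1) = 1 := by
  rw [L, form_single, deh_X_self]

theorem van_smul (x : k) {c : Fin (n + 1) → k} {y : P} (h : Van n k c y) : Van n k (x • c) y := by
  obtain ⟨a, ha⟩ := exists_chart n k y
  rw [van_iff_pr n k ha, L_smul]
  exact Ideal.mul_mem_left _ _ ((van_iff_pr n k ha c).1 h)

/-- The linear forms vanishing at a point. -/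
def vanSub (y : P) : Submodule k (Fin (n + 1) → k) where
  carrier := {c | Van n k c y}
  add_mem' := fun h h' => van_add n k h h'
  zero_mem' := by
    obtain ⟨a, ha⟩ := exists_chart n k y
    show Van n k 0 y
    rw [van_iff_pr n k ha, L_zero]
    exact zero_mem _
  smul_mem' := fun x _ h => van_smul n k x h

theorem not_van_single {a : Fin (n + 1)} {y : P} (hy : y ∈ QCohLib.stdOpen n k a) :
    ¬ Van n k (Pi.single a 1) y := by
  rw [van_iff_pr n k hy, L_single_self, ← Ideal.eq_top_iff_one]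
  exact (pr_isPrime n k hy).ne_top

variable [IsAlgClosed k]

/-- **Coordinates of a closed point:** `n` linear forms cut it out on every standard chart. -/
theorem exists_cut_forms {p : P} (hp : IsClosed ({p} : Set P)) :
    ∃ C : Fin n → Fin (n + 1) → k, (∀ l, Van n k (C l) p) ∧ (∀ l, C l ≠ 0) ∧
      ∀ (a : Fin (n + 1)),
        (Scheme.IdealSheafData.vanishingIdeal ⟨{p}, hp⟩).ideal ⟨QCohLib.stdOpen n k a, stdOpen_affine n k a⟩ =
          Ideal.span (Set.range fun l => L n k a (C l)) := by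
  obtain ⟨j, hj⟩ := exists_chart n k p
  obtain ⟨c, hc, hspan, hform⟩ := exists_forms n k hj hp
  choose x hx using hform
  have hcj : c j = 0 := by
    have h : c j = (1 - x j) • Pi.single j 1 := by rw [hx j, sub_smul, one_smul]
    by_cases hxj : 1 - x j = 0
    · rw [h, hxj, zero_smul]
    · refine absurd ?_ (not_van_single n k hj)
      have := van_smul n k (1 - x j)⁻¹ (h ▸ hc j)
      rwa [smul_smul, inv_mul_cancel₀ hxj, one_smul] at this
  refine ⟨fun l => c (j.succAbove l), fun l => hc _, fun l h => one_ne_zero (α := k) ?_, fun a => ?_⟩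
  · have h' := congrFun h (j.succAbove l)
    simpa [hx (j.succAbove l), Fin.succAbove_ne] using h'
  let I : Ideal Γ(P, QCohLib.stdOpen n k a) := Ideal.span (Set.range fun l => L n k a (c (j.succAbove l)))
  have hmem : ∀ i, L n k a (c i) ∈ I := fun i => by
    by_cases hi : i = j
    · subst hi
      rw [hcj, L_zero]
      exact zero_mem _
    · obtain ⟨l, rfl⟩ := Fin.exists_succAbove_eq hi
      exact Ideal.subset_span ⟨l, rfl⟩
  have hvan : ∀ v, Van n k v p → L n k a v ∈ I := by
    intro v hv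
    have hdec : v = ∑ i, v i • c i + (∑ i, v i * x i) • Pi.single j 1 := by
      funext q
      simp [hx, Finset.sum_apply, mul_sub, Finset.sum_sub_distrib, Finset.sum_mul, mul_assoc, Pi.single_apply]
    have hμ : (∑ i, v i * x i) = 0 := by
      by_contra hne
      refine not_van_single n k hj ?_
      have h2 : Van n k (v - ∑ i, v i • c i) p :=
        (vanSub n k p).sub_mem hv ((vanSub n k p).sum_mem fun i _ => (vanSub n k p).smul_mem _ (hc i))
      rw [show v - ∑ i, v i • c i = (∑ i, v i * x i) • Pi.single j 1 from sub_eq_iff_eq_add'.2 hdec] at h2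
      have := van_smul n k (∑ i, v i * x i)⁻¹ h2
      rwa [smul_smul, inv_mul_cancel₀ hne, one_smul] at this
    rw [hdec, hμ, zero_smul, add_zero, L_sum]
    refine sum_mem fun i _ => ?_
    rw [L_smul]
    exact Ideal.mul_mem_left _ _ (hmem i)
  by_cases ha : p ∈ QCohLib.stdOpen n k a
  · rw [vanishingIdeal_eq_prime _ _ p ha fun x _ => Iff.rfl]
    refine le_antisymm ?_ ?_
    · obtain ⟨c', hc', hspan', -⟩ := exists_forms n k ha hp
      show pr n k ha ≤ I
      rw [hspan', Ideal.span_le]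
      rintro _ ⟨i, rfl⟩
      exact hvan _ (hc' i)
    · show I ≤ pr n k ha
      rw [Ideal.span_le]
      rintro _ ⟨l, rfl⟩
      exact (van_iff_pr n k ha _).1 (hc _)
  · rw [vanishingIdeal_eq_top _ _ fun y hy (hyp : y = p) => ha (hyp ▸ hy)]
    refine (Ideal.eq_top_of_isUnit_mem I (hvan (Pi.single a 1) ?_) ?_).symm
    · rw [van_iff_pr n k hj, ← germ_mem_maximalIdeal_iff n k hj, IsLocalRing.mem_maximalIdeal, mem_nonunits_iff,
        ← Scheme.mem_basicOpen _ _ _ hj, L, form_single, basicOpen_deh_X]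
      exact fun h => ha h.2
    · rw [L_single_self]
      exact isUnit_one

/-- A hyperplane avoiding finitely many points. -/
theorem exists_avoiding {s : ℕ} (y : Fin s → P) : ∃ c : Fin (n + 1) → k, ∀ t, ¬ Van n k c (y t) := by
  haveI : Infinite k := IsAlgClosed.instInfinite
  have h : ∀ t, vanSub n k (y t) ≠ ⊤ := fun t e => by
    obtain ⟨a, ha⟩ := exists_chart n k (y t)
    exact not_van_single n k ha (e ▸ Submodule.mem_top : Pi.single a 1 ∈ vanSub n k (y t))
  classical
  by_contra! hall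
  let S : Finset (Submodule k (Fin (n + 1) → k)) := Finset.univ.image fun t => vanSub n k (y t)
  refine Subspace.biUnion_ne_univ_of_top_notMem (s := S) ?_ ?_
  · intro hmem
    obtain ⟨t, -, ht⟩ := Finset.mem_image.1 hmem
    exact h t ht
  · refine Set.eq_univ_of_forall fun c => ?_
    obtain ⟨t, ht⟩ := hall c
    exact Set.mem_biUnion (Finset.mem_image.2 ⟨t, Finset.mem_univ t, rfl⟩) ht

/-- A form at a multiple of a vector. -/
theorem eval₂_smul_line {σ : Type*} (F : MvPolynomial σ k) (d : ℕ) (hF : F.IsHomogeneous d) (w : σ → k) :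
    MvPolynomial.eval₂ (Polynomial.C : k →+* Polynomial k) (fun l => Polynomial.C (w l) * Polynomial.X) F =
      Polynomial.C (MvPolynomial.eval w F) * Polynomial.X ^ d := by
  classical
  conv_lhs => rw [F.as_sum]
  conv_rhs => rw [F.as_sum]
  rw [MvPolynomial.eval₂_sum, map_sum, map_sum, Finset.sum_mul]
  refine Finset.sum_congr rfl fun s hs => ?_
  have hdeg : s.degree = d := by
    by_contra hne
    exact MvPolynomial.mem_support_iff.1 hs (hF.coeff_eq_zero hne)
  rw [MvPolynomial.eval₂_monomial, MvPolynomial.eval_monomial, map_mul, ← hdeg]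
  simp only [Finsupp.prod, mul_pow, Finset.prod_mul_distrib, Finset.prod_pow_eq_pow_sum, map_prod, map_pow]
  rw [mul_assoc]
  rfl

/-- **A closed point among finitely many has an affine neighbourhood with the data of the blow-up chart.** -/
theorem exists_point_chart {m s : ℕ} (y : Fin s → CohB1.ProjSpace (m + 1) k) (hy : Function.Injective y)
    (hyc : ∀ t, IsClosed ({y t} : Set (CohB1.ProjSpace (m + 1) k))) (t : Fin s) :
    ∃ (U₀ : (CohB1.ProjSpace (m + 1) k).affineOpens) (a : Fin (m + 1) → Γ(CohB1.ProjSpace (m + 1) k, U₀.1)),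
      y t ∈ U₀.1 ∧ (∀ t', y t' ∈ U₀.1 → t' = t) ∧
      Ideal.span (Set.range a) = (Scheme.IdealSheafData.vanishingIdeal ⟨{y t}, hyc t⟩).ideal U₀ ∧
      (∀ x : Γ(CohB1.ProjSpace (m + 1) k, U₀.1), ∃ c : k,
        x - (CohB1.ProjSpace (m + 1) k).presheaf.map (homOfLE (le_top : U₀.1 ≤ ⊤)).op
          (ProjUP.toGlobal (CohB1.ProjSpace.toSpec (m + 1) k) c) ∈
            (Scheme.IdealSheafData.vanishingIdeal ⟨{y t}, hyc t⟩).ideal U₀) ∧
      ∀ (d : ℕ) (F : MvPolynomial (Fin (m + 1)) k), F.IsHomogeneous d →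
        MvPolynomial.eval₂ (((CohB1.ProjSpace (m + 1) k).presheaf.map (homOfLE (le_top : U₀.1 ≤ ⊤)).op).hom.comp
          (ProjUP.toGlobal (CohB1.ProjSpace.toSpec (m + 1) k))) a F ∈
            (Scheme.IdealSheafData.vanishingIdeal ⟨{y t}, hyc t⟩).ideal U₀ ^ (d + 1) → F = 0 := by
  classical
  let Q := CohB1.ProjSpace (m + 1) k
  obtain ⟨j, hj⟩ := exists_chart (m + 1) k (y t)
  let D : Q.affineOpens := ⟨QCohLib.stdOpen (m + 1) k j, stdOpen_affine (m + 1) k j⟩
  choose f hf1 hf2 using fun (t' : {x : Fin s // x ≠ t}) =>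
    exists_separating (m + 1) k (hyc t'.1) (hyc t) (fun e => t'.2 (hy e))
  let h : Γ(Q, D.1) := ∏ t', L (m + 1) k j (f t')
  have hh : h ∉ pr (m + 1) k hj := fun hm => by
    obtain ⟨t', -, ht'⟩ := (pr_isPrime (m + 1) k hj).prod_mem_iff.1 hm
    exact hf2 t' ((van_iff_pr (m + 1) k hj _).2 ht')
  let U₀ : Q.affineOpens := Q.affineBasicOpen h
  have hle : U₀.1 ≤ D.1 := Q.basicOpen_le h
  have htU : y t ∈ U₀.1 := by
    refine (Q.mem_basicOpen h (y t) hj).2 ?_
    by_contra hu
    exact hh ((germ_mem_maximalIdeal_iff (m + 1) k hj h).1 ((IsLocalRing.mem_maximalIdeal _).2 hu))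
  have honly : ∀ t', y t' ∈ U₀.1 → t' = t := fun t' ht' => by
    by_contra hne
    have hD' : y t' ∈ D.1 := hle ht'
    have hu := (Q.mem_basicOpen h (y t') hD').1 ht'
    have hm : h ∈ pr (m + 1) k hD' :=
      Ideal.mem_of_dvd _ (Finset.dvd_prod_of_mem _ (Finset.mem_univ (⟨t', hne⟩ : {x : Fin s // x ≠ t})))
        ((van_iff_pr (m + 1) k hD' _).1 (hf1 ⟨t', hne⟩))
    exact ((IsLocalRing.mem_maximalIdeal _).1 ((germ_mem_maximalIdeal_iff (m + 1) k hD' h).2 hm)) hu
  let ε : MvPolynomial (Fin (m + 1)) k →+* Γ(Q, D.1) :=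
    (toSec (m + 1) k j).comp (GenusZeroLib.chartPoly (m + 1) k j)
  have hε : Function.Bijective ε :=
    (toSec_bijective (m + 1) k j).comp (GenusZeroLib.chartPoly_bijective (m + 1) k j)
  have hεC : ∀ c, ε (MvPolynomial.C c) = cstOn (m + 1) k D.1 c := fun c => by
    rw [← deh_C]
    exact congrArg (toSec (m + 1) k j) ((MvPolynomial.eval₂Hom_C _ _ _).trans (MvPolynomial.eval₂Hom_C _ _ _).symm)
  let J := Scheme.IdealSheafData.vanishingIdeal (⟨{y t}, hyc t⟩ : Closeds Q)
  have hD : J.ideal D = pr (m + 1) k hj :=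
    vanishingIdeal_eq_prime _ D (y t) hj fun x _ => Iff.rfl
  have := pr_isMaximal (m + 1) k hj (hyc t)
  have hmax : ((pr (m + 1) k hj).comap ε).IsMaximal := Ideal.comap_isMaximal_of_surjective _ hε.2
  obtain ⟨v, hv⟩ := MvPolynomial.isMaximal_iff_eq_vanishingIdeal_singleton.1 hmax
  have hmemv : ∀ p, ε p ∈ J.ideal D ↔ MvPolynomial.eval v p = 0 := fun p => by
    rw [hD, ← Ideal.mem_comap, hv, MvPolynomial.mem_vanishingIdeal_singleton_iff]
    rfl
  let L' : Fin (m + 1) → Γ(Q, D.1) := fun l => ε (MvPolynomial.X l - MvPolynomial.C (v l))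
  have hspanD : J.ideal D = Ideal.span (Set.range L') := by
    refine le_antisymm (fun z hz => ?_) (Ideal.span_le.2 ?_)
    · obtain ⟨p, rfl⟩ := hε.2 z
      have h0 := Ideal.mem_map_of_mem ε (sub_eval_mem m k v p)
      rw [(hmemv p).1 hz, map_zero, sub_zero, Ideal.map_span, ← Set.range_comp] at h0
      exact h0
    · rintro _ ⟨l, rfl⟩
      exact (hmemv _).2 (by simp)
  let ρ : Γ(Q, D.1) →+* Γ(Q, U₀.1) := (Q.presheaf.map (homOfLE hle).op).hom
  have hmap : (J.ideal D).map ρ = J.ideal U₀ := Scheme.IdealSheafData.map_ideal J (U := U₀) (V := D) hle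
  letI : Algebra Γ(Q, D.1) Γ(Q, U₀.1) := ρ.toAlgebra
  haveI : IsLocalization.Away h Γ(Q, U₀.1) := D.2.isLocalization_of_eq_basicOpen h (homOfLE hle) rfl
  let γ : k →+* Γ(Q, U₀.1) := cstOn (m + 1) k U₀.1
  have hρ : ∀ c, ρ (cstOn (m + 1) k D.1 c) = γ c := fun c => resO_cstOn (m + 1) k hle c
  refine ⟨U₀, fun l => ρ (L' l), htU, honly, ?_, fun x => ?_, fun d F hF hFd => ?_⟩
  · rw [← hmap, hspanD, Ideal.map_span, ← Set.range_comp]
    rfl
  · obtain ⟨⟨g, ⟨_, N, rfl⟩⟩, hg⟩ := IsLocalization.surj (Submonoid.powers h) x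
    have hres : ∀ z : Γ(Q, D.1), ∃ c : k, z - cstOn (m + 1) k D.1 c ∈ J.ideal D := fun z => by
      obtain ⟨p, rfl⟩ := hε.2 z
      refine ⟨MvPolynomial.eval v p, ?_⟩
      rw [← hεC, ← map_sub, hmemv]
      simp
    obtain ⟨cg, hcg⟩ := hres g
    obtain ⟨ch, hch⟩ := hres h
    have hch0 : ch ≠ 0 := fun e => hh (hD ▸ by simpa [e] using hch)
    refine ⟨cg * (ch⁻¹) ^ N, ?_⟩
    have e1 : ρ g - γ cg ∈ J.ideal U₀ := by
      rw [← hρ, ← map_sub, ← hmap]
      exact Ideal.mem_map_of_mem ρ hcg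
    have e2 : ρ h - γ ch ∈ J.ideal U₀ := by
      rw [← hρ, ← map_sub, ← hmap]
      exact Ideal.mem_map_of_mem ρ hch
    have e3 : ρ h ^ N - γ ch ^ N ∈ J.ideal U₀ := Ideal.mem_of_dvd _ (sub_dvd_pow_sub_pow _ _ N) e2
    have hg' : x * ρ h ^ N = ρ g := by
      rw [← map_pow]
      exact hg
    have hinv : γ ch ^ N * γ (ch⁻¹) ^ N = 1 := by
      rw [← mul_pow, ← map_mul, mul_inv_cancel₀ hch0, map_one, one_pow]
    show x - γ (cg * (ch⁻¹) ^ N) ∈ J.ideal U₀
    have key : x - γ (cg * (ch⁻¹) ^ N) =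
        (ρ g - γ cg) * γ (ch⁻¹) ^ N - (ρ h ^ N - γ ch ^ N) * (x * γ (ch⁻¹) ^ N) := by
      rw [map_mul, map_pow, ← hg']
      linear_combination (-x) * hinv
    rw [key]
    exact sub_mem (Ideal.mul_mem_right _ _ e1) (Ideal.mul_mem_right _ _ e3)
  · have e1 : MvPolynomial.eval₂ γ (fun l => ρ (L' l)) F =
        ρ (MvPolynomial.eval₂ (cstOn (m + 1) k D.1) L' F) := by
      rw [MvPolynomial.eval₂_comp_left ρ]
      congr 1
    change MvPolynomial.eval₂ γ (fun l => ρ (L' l)) F ∈ _ at hFd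
    rw [e1, ← hmap, ← Ideal.map_pow] at hFd
    obtain ⟨_, ⟨N, rfl⟩, hN⟩ := (IsLocalization.algebraMap_mem_map_algebraMap_iff (Submonoid.powers h)
      Γ(Q, U₀.1) (J.ideal D ^ (d + 1)) _).1 hFd
    haveI : Infinite k := IsAlgClosed.instInfinite
    refine MvPolynomial.funext fun w => ?_
    let E := RingEquiv.ofBijective ε hε
    let τ : MvPolynomial (Fin (m + 1)) k →+* Polynomial k :=
      MvPolynomial.eval₂Hom Polynomial.C fun l => Polynomial.C (v l) + Polynomial.C (w l) * Polynomial.X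
    let ψ : Γ(Q, D.1) →+* Polynomial k := τ.comp E.symm.toRingHom
    have hψε : ∀ p, ψ (ε p) = τ p := fun p => congrArg τ (E.symm_apply_apply p)
    have hψ0 : ∀ p, (τ p).eval 0 = MvPolynomial.eval v p := fun p => by
      refine DFunLike.congr_fun (f := (Polynomial.evalRingHom (0 : k)).comp τ) (g := MvPolynomial.eval v) ?_ p
      refine MvPolynomial.ringHom_ext (fun c => ?_) fun l => ?_ <;> simp [τ]
    have hψL : ∀ l, ψ (L' l) = Polynomial.C (w l) * Polynomial.X := fun l => by
      rw [hψε]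
      simp [τ]
    have hψJ : (J.ideal D).map ψ ≤ Ideal.span {Polynomial.X} := by
      rw [hspanD, Ideal.map_span, Ideal.span_le]
      rintro _ ⟨_, ⟨l, rfl⟩, rfl⟩
      rw [hψL]
      exact Ideal.mul_mem_left _ _ (Ideal.subset_span rfl)
    have e2 := Ideal.mem_map_of_mem ψ hN
    rw [Ideal.map_pow] at e2
    replace e2 := Ideal.pow_right_mono hψJ (d + 1) e2
    have e3 : ψ (MvPolynomial.eval₂ (cstOn (m + 1) k D.1) L' F) =
        Polynomial.C (MvPolynomial.eval w F) * Polynomial.X ^ d := by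
      rw [MvPolynomial.eval₂_comp_left ψ, ← eval₂_smul_line k F d hF w]
      congr 1
      · refine RingHom.ext fun c => ?_
        show ψ (cstOn (m + 1) k D.1 c) = _
        rw [← hεC, hψε]
        simp [τ]
      · exact funext hψL
    rw [Ideal.span_singleton_pow, Ideal.mem_span_singleton, map_mul, map_pow, e3, ← mul_assoc, pow_succ] at e2
    rw [mul_comm (Polynomial.X ^ d) Polynomial.X,
      mul_dvd_mul_iff_right (pow_ne_zero d Polynomial.X_ne_zero), Polynomial.X_dvd_iff,
      Polynomial.coeff_zero_eq_eval_zero, Polynomial.eval_mul, Polynomial.eval_pow, Polynomial.eval_C] at e2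
    obtain ⟨p, hp⟩ := hε.2 h
    have hne : MvPolynomial.eval v p ≠ 0 := fun e => hh (hD ▸ hp ▸ (hmemv p).2 e)
    rw [← hp, hψε, hψ0] at e2
    rw [map_zero]
    exact (mul_eq_zero.1 e2).resolve_left (pow_ne_zero _ hne)

end BlowPtLib
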