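import Groth.Agent.BlowPtLib.Local
import Groth.Agent.BlowPtLib.Point
import Groth.Agent.SymSqLib.Pic

/-!
# The exceptional divisors of the blow-up of projective space in finitely many points
-/

set_option autoImplicit false
set_option linter.style.haveILetI false
set_option linter.unusedSectionVars false
set_option maxHeartbeats 1000000
set_option backward.isDefEq.respectTransparency false
set_option backward.isDefEq.respectTransparency.types false

universe u

open CategoryTheory CategoryTheory.Limits AlgebraicGeometry TopologicalSpace Opposite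
open HilbPolyLib (congrLeft congrRight assocIso swapIso unitLeft)

noncomputable section

namespace BlowPtLib

/-- The structure sheaf is the ideal of the empty subscheme. -/
theorem nonempty_idealMod_top (X : Scheme.{u}) :
    Nonempty (ClSub.idealMod (⊤ : X.IdealSheafData) ≅ Coh.structureModule X) := by
  haveI : IsIso (ClSub.idealModι (⊤ : X.IdealSheafData)) := by
    have hz : ClSub.toSubscheme (⊤ : X.IdealSheafData) = 0 := by
      refine Scheme.Modules.hom_ext _ _ fun V => ConcreteCategory.hom_ext _ _ fun a => ?_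
      haveI : IsEmpty (⊤ : X.IdealSheafData).subscheme := inferInstance
      haveI : Subsingleton Γ((⊤ : X.IdealSheafData).subscheme, (⊤ : X.IdealSheafData).subschemeι ⁻¹ᵁ V) :=
        inferInstance
      exact Subsingleton.elim (α := Γ((⊤ : X.IdealSheafData).subscheme, (⊤ : X.IdealSheafData).subschemeι ⁻¹ᵁ V)) _ _
    exact kernel.ι_of_zero hz
  exact ⟨asIso (ClSub.idealModι (⊤ : X.IdealSheafData))⟩

theorem comap_eq_top_of_disjoint {Z Y : Scheme.{u}} (a : Z ⟶ Y) (J : Y.IdealSheafData)
    (h : ∀ z, a z ∉ J.support) : J.comap a = ⊤ := by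
  rw [← Scheme.IdealSheafData.support_eq_bot_iff, Scheme.IdealSheafData.support_comap]
  ext z
  exact ⟨fun hz => (h z hz).elim, fun hz => hz.elim⟩

/-- An ideal with disjoint support restricts to the structure sheaf. -/
theorem nonempty_pb_ideal_trivial {Z Y : Scheme.{u}} (a : Z ⟶ Y) (J : Y.IdealSheafData)
    (hJ : PicF.IsInvertible (ClSub.idealMod J)) (h : ∀ z, a z ∉ J.support) :
    Nonempty ((Scheme.Modules.pullback a).obj (ClSub.idealMod J) ≅ Coh.structureModule Z) := by
  obtain ⟨e⟩ := nonempty_idealMod_top Z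
  have e' : Nonempty (ClSub.idealMod (J.comap a) ≅ Coh.structureModule Z) := by
    rw [comap_eq_top_of_disjoint a J h]; exact ⟨e⟩
  obtain ⟨e'⟩ := e'
  obtain ⟨f⟩ := SymSqLib.nonempty_pb_ideal a J hJ (HilbPolyLib.isInvertible_of_iso e'.symm CurvLib.isInvertible_structureModule)
  exact ⟨f ≪≫ e'⟩

/-- A module trivial on an open pulls back trivially along a map into it. -/
theorem nonempty_pb_trivial {Z Y : Scheme.{u}} (a : Z ⟶ Y) (U : Y.Opens) (h : ∀ z, a z ∈ U) {M : Y.Modules}
    (e : M.restrict U.ι ≅ Coh.structureModule U.toScheme) :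
    Nonempty ((Scheme.Modules.pullback a).obj M ≅ Coh.structureModule Z) := by
  have hr : Set.range a ⊆ Set.range U.ι := by
    rw [Scheme.Opens.range_ι]
    rintro _ ⟨z, rfl⟩
    exact h z
  let g : Z ⟶ U := IsOpenImmersion.lift U.ι a hr
  have hg : g ≫ U.ι = a := IsOpenImmersion.lift_fac _ _ _
  exact ⟨((Scheme.Modules.pullbackCongr hg).app M).symm ≪≫ ((Scheme.Modules.pullbackComp g U.ι).app M).symm ≪≫
    (Scheme.Modules.pullback g).mapIso (((Scheme.Modules.restrictFunctorIsoPullback U.ι).app M).symm ≪≫ e) ≪≫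
    KFlatLib.pullUnitIso g⟩

variable {k : Type u} [Field k] [IsAlgClosed k] {m s : ℕ} {P : Fin s → ↥(CohB1.ProjSpace (m + 1) k)}
  (hP : Function.Injective P) (hPc : ∀ i, IsClosed ({P i} : Set ↥(CohB1.ProjSpace (m + 1) k)))
  (hZ : IsClosed (Set.range P)) {X : Scheme.{u}} {π : X ⟶ CohB1.ProjSpace (m + 1) k}
  (hπ : BlowUp.IsBlowUp π (Scheme.IdealSheafData.vanishingIdeal ⟨Set.range P, hZ⟩))

/-- The ideal of the exceptional divisor over the `t`-th point. -/
abbrev excI (π : X ⟶ CohB1.ProjSpace (m + 1) k) (t : Fin s) : X.IdealSheafData :=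
  (Scheme.IdealSheafData.vanishingIdeal ⟨{P t}, hPc t⟩).comap π

include hPc in
theorem support_excI (t : Fin s) (x : X) (hx : x ∈ (excI hPc π t).support) : π x = P t := by
  have h : π x ∈ (Scheme.IdealSheafData.vanishingIdeal (⟨{P t}, hPc t⟩ : Closeds _)).support :=
    (Scheme.IdealSheafData.support_comap _ π).le hx
  rw [← SetLike.mem_coe, Scheme.IdealSheafData.coe_support_vanishingIdeal] at h
  exact h

include hP hπ in
/-- **The exceptional divisor over each point is a projective space with conormal `O(1)`.** -/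
theorem exists_exceptional (t : Fin s) :
    BlowUp.IsEffCartierIdeal (excI hPc π t) ∧
    (∀ c : ℤ, Nonempty ((Scheme.Modules.pullback (excI hPc π t).subschemeι).obj
      ((Scheme.Modules.pullback π).obj (Twist.twistProjSpace (m + 1) k c)) ≅
        Coh.structureModule (excI hPc π t).subscheme)) ∧
    ∃ φ : (excI hPc π t).subscheme ⟶ CohB1.ProjSpace m k, IsIso φ ∧
      φ ≫ CohB1.ProjSpace.toSpec m k = (excI hPc π t).subschemeι ≫ π ≫ CohB1.ProjSpace.toSpec (m + 1) k ∧
      Nonempty ((Scheme.Modules.pullback φ).obj (Twist.twistProjSpace m k 1) ≅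
        (Scheme.Modules.pullback (excI hPc π t).subschemeι).obj (ClSub.idealMod (excI hPc π t))) := by
  obtain ⟨U₀, a, htU, honly, ha, hres, hq⟩ := exists_point_chart k P hP hPc t
  let 𝓙 := Scheme.IdealSheafData.vanishingIdeal (⟨{P t}, hPc t⟩ : Closeds (CohB1.ProjSpace (m + 1) k))
  have hag : 𝓙.ideal U₀ =
      (Scheme.IdealSheafData.vanishingIdeal (⟨Set.range P, hZ⟩ : Closeds (CohB1.ProjSpace (m + 1) k))).ideal U₀ := by
    rw [vanishingIdeal_eq_prime _ U₀ (P t) htU fun x _ => Iff.rfl,
      vanishingIdeal_eq_prime (⟨Set.range P, hZ⟩ : Closeds (CohB1.ProjSpace (m + 1) k)) U₀ (P t) htU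
        fun x hx => ⟨?_, fun e => ⟨t, e.symm⟩⟩]
    rintro ⟨t', rfl⟩
    rw [honly t' hx]
  have hsupp : ∀ x, x ∈ 𝓙.support → x ∈ U₀.1 := fun x hx => by
    rw [← SetLike.mem_coe, Scheme.IdealSheafData.coe_support_vanishingIdeal] at hx
    exact (show x = P t from hx) ▸ htU
  refine ⟨?_, fun c => ?_, exists_embedding hπ _ U₀ hag hsupp a ha hres hq⟩
  · obtain ⟨W, hW, hcov, hnz, hgen, -⟩ := exists_charts_family hπ U₀ hag a ha
    intro x
    by_cases hx : x ∈ π ⁻¹ᵁ U₀.1
    · obtain ⟨l, hl⟩ := Opens.mem_iSup.1 (hcov hx)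
      exact ⟨W l, hl, _, hnz l, hgen l⟩
    · obtain ⟨V, hV, hxV, hVs⟩ := exists_isAffineOpen_mem_and_subset (x := x) (U := (excI hPc π t).support.compl)
        (fun h => hx ((support_excI hPc t x h).symm ▸ htU : π x ∈ U₀.1))
      refine ⟨⟨V, hV⟩, hxV, 1, one_mem _, ?_⟩
      rw [Ideal.span_singleton_one]
      exact CDivRatioLib.ideal_eq_top _ ⟨V, hV⟩ fun y hy h => hVs hy h
  · obtain ⟨j, hj⟩ := ProjDegLib.exists_chart (m + 1) k (P t)
    obtain ⟨e⟩ := TwistLib.twist_trivial_basicOpen (CohB1.polyGrading (m + 1) k)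
      (LefPen.X_mem (m + 1) k j) c
    have hc : c * ((1 : ℕ) : ℤ) = c := by simp
    let e' : (Twist.twistProjSpace (m + 1) k c).restrict (QCohLib.stdOpen (m + 1) k j).ι ≅
        Coh.structureModule (QCohLib.stdOpen (m + 1) k j).toScheme :=
      eqToIso (by rw [hc]; rfl) ≪≫ e
    obtain ⟨f⟩ := nonempty_pb_trivial ((excI hPc π t).subschemeι ≫ π) (QCohLib.stdOpen (m + 1) k j) (fun z => by
      have h : (excI hPc π t).subschemeι z ∈ (excI hPc π t).support :=
        (Scheme.IdealSheafData.range_subschemeι _).subset ⟨z, rfl⟩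
      rw [Scheme.Hom.comp_apply, support_excI hPc t _ h]
      exact hj) e'
    exact ⟨(Scheme.Modules.pullbackComp _ _).app _ ≪≫ f⟩

include hP in
/-- Different exceptional divisors are disjoint. -/
theorem nonempty_excI_disjoint {t t' : Fin s} (htt : t ≠ t')
    (h' : BlowUp.IsEffCartierIdeal (excI hPc π t')) :
    Nonempty ((Scheme.Modules.pullback (excI hPc π t).subschemeι).obj (ClSub.idealMod (excI hPc π t')) ≅
      Coh.structureModule (excI hPc π t).subscheme) := by
  refine nonempty_pb_ideal_trivial _ _ (IntMultLib.isInvertible_idealMod _ h') fun z hz => htt (hP ?_)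
  rw [← support_excI hPc t _ ((Scheme.IdealSheafData.range_subschemeι _).subset ⟨z, rfl⟩), support_excI hPc t' _ hz]

end BlowPtLib
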