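import Groth.Agent.BlowPtLib.Seq
import Groth.Agent.CIDivLib.Coh
import Groth.Agent.GrassLib.SchBase
import Groth.Agent.EffCartLib.Basic
import Groth.Agent.BlowUpLib.Props
import Groth.Agent.IntMultLib.Cartier

/-!
# The hyperplane sequence on the blow-up of projective space at points
-/

set_option autoImplicit false
set_option linter.style.haveILetI false
set_option linter.unusedSectionVars false
set_option maxHeartbeats 1000000
set_option backward.isDefEq.respectTransparency false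
set_option backward.isDefEq.respectTransparency.types false

universe u

open CategoryTheory CategoryTheory.Limits AlgebraicGeometry TopologicalSpace Opposite
open HilbPolyLib (congrLeft congrRight assocIso swapIso unitLeft)

noncomputable section

namespace BlowPtLib

/-- If the sections of the middle term surject, `H¹` of the kernel injects. -/
theorem subsingleton_HU_one {X : TopCat.{u}} {S : ShortComplex (QCohLib.AbSh X)} (hS : S.ShortExact)
    {U : Opens X} (hsurj : ∀ s : S.X₃.obj.obj (op U), ∃ t : S.X₂.obj.obj (op U), S.g.hom.app (op U) t = s)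
    [Subsingleton (QCohLib.HU S.X₂ 1 U)] : Subsingleton (QCohLib.HU S.X₁ 1 U) :=
  subsingleton_of_forall_eq 0 fun x => by
    obtain ⟨z, hz⟩ := Abelian.Ext.covariant_sequence_exact₁ _ hS x (Subsingleton.elim _ _) (zero_add 1)
    obtain ⟨t, ht⟩ := hsurj (QCohLib.h0 z)
    have hzt : z = (QCohLib.h0.symm t).comp (Abelian.Ext.mk₀ S.g) (add_zero 0) :=
      QCohLib.h0.injective (by rw [QCohLib.h0_comp, AddEquiv.apply_symm_apply, ht])
    rw [← hz, hzt, Abelian.Ext.comp_assoc_of_second_deg_zero, hS.comp_extClass, Abelian.Ext.comp_zero]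

/-- `H¹` injects when the sections surject onto a closed subscheme. -/
theorem subsingleton_H1_ideal {X : Scheme.{u}} (I : X.IdealSheafData) {F : X.Modules} (hF : PicF.IsInvertible F)
    (hs : Function.Surjective fun s : Γ(F, ⊤) => KFlatLib.puSec I.subschemeι s)
    (h : Subsingleton (Coh.HH X F 1)) : Subsingleton (Coh.HH X (CohB1.tensorMod F (ClSub.idealMod I)) 1) := by
  obtain ⟨T, hT, ⟨e₁⟩, ⟨e₂⟩, ⟨e₃⟩⟩ := HdgLefLib.exists_restrict_seq I (AmpleDevLib.isFinLocFree_of_isInvertible hF)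
  let i := I.subschemeι
  let adj := Scheme.Modules.pullbackPushforwardAdjunction i
  let q : F ⟶ (Coh.push i).obj ((Scheme.Modules.pullback i).obj F) := e₂.inv ≫ T.g ≫ e₃.hom
  haveI := hT.epi_g
  haveI : Epi q := inferInstance
  let α := (adj.homEquiv F _).symm q
  haveI : Epi α := by
    haveI := CycKSuppLib.isIso_counit i ((Scheme.Modules.pullback i).obj F)
    rw [show α = _ from adj.homEquiv_counit F _ q]
    haveI : Epi ((Scheme.Modules.pullback i).map q) := inferInstance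
    exact epi_comp _ _
  have hinv := CurvLib.locFree_of_isInvertible (AmpleDevLib.isInvertible_pb i hF)
  haveI := CohCmpLib.isIso_of_epi_rank_one hinv hinv α
  have hq : adj.unit.app F ≫ (Coh.push i).map α = q :=
    (adj.homEquiv_unit F _ α).symm.trans ((adj.homEquiv F _).apply_symm_apply q)
  have h₂ : Subsingleton (Coh.HH X T.X₂ 1) := HdgLefLib.sub_iso e₂.symm 1 h
  haveI : Subsingleton (QCohLib.HU (T.map (QCohLib.toAbF X)).X₂ 1 (⊤ : X.Opens)) :=
    @Equiv.subsingleton _ _ (QCohLib.hEquiv ((QCohLib.toAbF X).obj T.X₂) 1).toEquiv.symm h₂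
  have hU := subsingleton_HU_one (QCohLib.toAbF_shortExact hT) (U := (⊤ : X.Opens)) fun z => by
    let y' : Γ((Scheme.Modules.pullback i).obj F, i ⁻¹ᵁ ⊤) :=
      (inv ((Coh.push i).map α)).app ⊤ (e₃.hom.app ⊤ (show Γ(T.X₃, ⊤) from z))
    obtain ⟨s, hs'⟩ := hs y'
    refine ⟨(show Γ(T.X₂, ⊤) from e₂.inv.app ⊤ s), ?_⟩
    show T.g.app ⊤ (e₂.inv.app ⊤ s) = z
    have h1 : q.app ⊤ s = e₃.hom.app ⊤ (show Γ(T.X₃, ⊤) from z) := by
      rw [← hq]
      show ((Coh.push i).map α).app ⊤ (KFlatLib.puSec i s) = _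
      rw [show KFlatLib.puSec i s = y' from hs']
      exact congr($(IsIso.inv_hom_id ((Coh.push i).map α)).app ⊤ (e₃.hom.app ⊤ (show Γ(T.X₃, ⊤) from z)))
    have h2 := congrArg (e₃.inv.app ⊤) h1
    rw [show e₃.inv.app ⊤ (e₃.hom.app ⊤ (show Γ(T.X₃, ⊤) from z)) = (show Γ(T.X₃, ⊤) from z) from
      congr($(e₃.hom_inv_id).app ⊤ (show Γ(T.X₃, ⊤) from z))] at h2
    rw [← h2]
    exact (congr($(e₃.hom_inv_id).app ⊤ (T.g.app ⊤ (e₂.inv.app ⊤ s)))).symm
  exact HdgLefLib.sub_iso e₁ 1 (@Equiv.subsingleton _ _ (QCohLib.hEquiv ((QCohLib.toAbF X).obj T.X₁) 1).toEquiv hU)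

theorem pullbackCongr_puSec_top {X Y : Scheme.{u}} {f g : X ⟶ Y} (h : f = g) (M : Y.Modules) (m : Γ(M, ⊤)) :
    ((Scheme.Modules.pullbackCongr h).hom.app M).app ⊤ (KFlatLib.puSec f m) = KFlatLib.puSec g m := by
  subst h
  rfl

/-- Surjectivity of pulled back sections passes to a factorisation through an open immersion. -/
theorem surjective_puSec_factor {Z Z' X Y : Scheme.{u}} (σ : Z' ⟶ Z) [IsIso σ] (j : Z ⟶ Y) (i : Z' ⟶ X)
    (f : X ⟶ Y) (w : σ ≫ j = i ≫ f) (M : Y.Modules)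
    (h : Function.Surjective fun s : Γ(M, ⊤) => KFlatLib.puSec j s) :
    Function.Surjective fun s : Γ((Scheme.Modules.pullback f).obj M, ⊤) => KFlatLib.puSec i s := fun y => by
  let e := (Scheme.Modules.pullbackComp i f).app M ≪≫ (Scheme.Modules.pullbackCongr w.symm).app M ≪≫
    ((Scheme.Modules.pullbackComp σ j).app M).symm
  obtain ⟨z, hz⟩ := (GrassSch.puSec_bijective σ ((Scheme.Modules.pullback j).obj M) (W := ⊤)
    (fun x _ => by rw [Scheme.Hom.opensRange_of_isIso]; trivial)).2 (e.hom.app ⊤ y)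
  obtain ⟨s, hs⟩ := h z
  refine ⟨KFlatLib.puSec f s, ?_⟩
  have hinj : Function.Injective (e.hom.app ⊤) := fun a b hab => by
    have ea : ∀ c, e.inv.app ⊤ (e.hom.app ⊤ c) = c := fun c => congr($(e.hom_inv_id).app ⊤ c)
    rw [← ea a, hab, ea b]
  refine hinj ?_
  show ((Scheme.Modules.pullbackComp σ j).inv.app M).app ⊤
    (((Scheme.Modules.pullbackCongr w.symm).hom.app M).app ⊤
      (((Scheme.Modules.pullbackComp i f).hom.app M).app ⊤ (KFlatLib.puSec i (KFlatLib.puSec f s)))) = _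
  erw [CohCmpLib.pullbackComp_puSec i f M s, pullbackCongr_puSec_top w.symm M s]
  rw [← hz, show z = _ from hs.symm]
  refine (congrArg (((Scheme.Modules.pullbackComp σ j).inv.app M).app ⊤)
    (CohCmpLib.pullbackComp_puSec σ j M s).symm).trans ?_
  exact congr($((Scheme.Modules.pullbackComp σ j).hom_inv_id_app M).app ⊤ (KFlatLib.puSec σ (KFlatLib.puSec j s)))

/-- A closed subscheme away from the centre of a blow-up lifts isomorphically. -/
theorem exists_iso_comap {P X : Scheme.{u}} {b : X ⟶ P} {𝓘 : P.IdealSheafData} (hb : BlowUp.IsBlowUp b 𝓘)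
    (J : P.IdealSheafData) (h : ∀ x, x ∈ J.support → x ∉ 𝓘.support) :
    ∃ σ : (J.comap b).subscheme ⟶ J.subscheme, IsIso σ ∧ σ ≫ J.subschemeι = (J.comap b).subschemeι ≫ b := by
  let U : P.Opens := 𝓘.support.compl
  haveI := EffCartLib.isIso_off_center 𝓘 b hb U le_rfl
  have hr : Set.range J.subschemeι ⊆ Set.range U.ι := by
    rw [Scheme.Opens.range_ι, Scheme.IdealSheafData.range_subschemeι]
    exact fun x hx => h x hx
  let g : J.subscheme ⟶ U := IsOpenImmersion.lift U.ι J.subschemeι hr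
  have hg : g ≫ U.ι = J.subschemeι := IsOpenImmersion.lift_fac _ _ _
  have hsq := (isPullback_morphismRestrict b U).flip
  refine ⟨(J.comapIso b).hom ≫ pullback.snd b J.subschemeι, ?_, ?_⟩
  · have h2 : pullback.snd b J.subschemeι =
        (pullback.congrHom rfl hg).inv ≫ (pullbackLeftPullbackSndIso b U.ι g).inv ≫
          pullback.snd (pullback.snd b U.ι) g := by
      simp
    haveI : IsIso (pullback.snd b U.ι) := by
      rw [show pullback.snd b U.ι = hsq.isoPullback.inv ≫ (b ∣_ U) by rw [hsq.isoPullback_inv_snd]]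
      infer_instance
    haveI : IsIso (pullback.snd b J.subschemeι) := by rw [h2]; infer_instance
    infer_instance
  · rw [Category.assoc, ← pullback.condition, ← Category.assoc, Scheme.IdealSheafData.comapIso_hom_fst]

variable {k : Type u} [Field k] [IsAlgClosed k] {m s : ℕ} {P : Fin s → ↥(CohB1.ProjSpace (m + 1) k)}
  (hPc : ∀ i, IsClosed ({P i} : Set ↥(CohB1.ProjSpace (m + 1) k)))
  (hZ : IsClosed (Set.range P)) {X : Scheme.{u}} {π : X ⟶ CohB1.ProjSpace (m + 1) k}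
  (hπ : BlowUp.IsBlowUp π (Scheme.IdealSheafData.vanishingIdeal ⟨Set.range P, hZ⟩))

/-- The cohomology of the twists of a hyperplane. -/
theorem subsingleton_hyperplane (hm : 1 ≤ m) (G : LefPen.Form (m + 1) k 1) (hG : G ≠ 0) (c : ℤ) (q : ℕ)
    (hq : (q = 0 ∧ c < 0) ∨ (1 ≤ q ∧ q < m) ∨ (q = m ∧ 1 ≤ q ∧ -(m : ℤ) ≤ c) ∨ (m + 1 ≤ q ∧ -(m : ℤ) - 1 ≤ c)) :
    Subsingleton (Coh.HH (LefPen.hypIdeal G).subscheme (CIDivLib.tw (LefPen.hypIdeal G) c) q) := by
  let I := LefPen.hypIdeal G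
  have hF := PicPnLib.twist_inv (m + 1) k c
  haveI : Coh.IsQCoh ((Scheme.Modules.pullback I.subschemeι).obj (Twist.twistProjSpace (m + 1) k c)) :=
    FinLFAnn.isQCoh_of_isFinLocFree (AmpleDevLib.isFinLocFree_of_isInvertible (AmpleDevLib.isInvertible_pb _ hF))
  obtain ⟨T, hT, ⟨e₁⟩, ⟨e₂⟩, ⟨e₃⟩⟩ := HdgLefLib.exists_restrict_seq I (AmpleDevLib.isFinLocFree_of_isInvertible hF)
  obtain ⟨eI⟩ := PlaneCurveLib.nonempty_idealMod_iso G hG
  obtain ⟨ea⟩ := PicPnLib.twist_add (m + 1) k c (-((1 : ℕ) : ℤ))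
  obtain ⟨E⟩ := QCohLib.nonempty_HH_push I.subschemeι ((Scheme.Modules.pullback I.subschemeι).obj
    (Twist.twistProjSpace (m + 1) k c)) q
  haveI : Subsingleton (Coh.HH (CohB1.ProjSpace (m + 1) k) ((Coh.push I.subschemeι).obj
      ((Scheme.Modules.pullback I.subschemeι).obj (Twist.twistProjSpace (m + 1) k c))) q) := by
    refine HdgLefLib.sub_iso e₃ q (HodgePnLib.sub₃ hT (HdgLefLib.sub_iso e₂.symm q ?_)
      (HdgLefLib.sub_iso (e₁ ≪≫ congrRight _ eI ≪≫ ea).symm (q + 1) ?_))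
    · exact PnCohLib.subsingleton_HH_twist _ q (fun e => by omega) (fun e => by omega)
    · exact PnCohLib.subsingleton_HH_twist _ (q + 1) (fun e => by omega) (fun e => by omega)
  exact E.toEquiv.subsingleton

/-- A nonzero linear form avoiding finitely many points. -/
theorem exists_avoiding_ne (P : Fin s → ↥(CohB1.ProjSpace (m + 1) k)) :
    ∃ c : Fin (m + 2) → k, c ≠ 0 ∧ ∀ t, ¬ ProjDegLib.Van (m + 1) k c (P t) := by
  rcases isEmpty_or_nonempty (Fin s) with hs | ⟨⟨t⟩⟩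
  · exact ⟨Pi.single 0 1, fun h => one_ne_zero (α := k) (by simpa using congrFun h 0), fun t => isEmptyElim t⟩
  · obtain ⟨c, hc⟩ := exists_avoiding (m + 1) k P
    exact ⟨c, fun h => hc t (h ▸ (vanSub (m + 1) k (P t)).zero_mem), hc⟩

/-- A hyperplane avoiding finitely many points. -/
theorem exists_avoiding_hyp (P : Fin s → ↥(CohB1.ProjSpace (m + 1) k)) :
    ∃ G : LefPen.Form (m + 1) k 1, G ≠ 0 ∧ ∀ x, x ∈ (LefPen.hypIdeal G).support → x ∉ Set.range P := by
  obtain ⟨cf, hne, hcf⟩ := exists_avoiding_ne P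
  let G : LefPen.Form (m + 1) k 1 := ⟨ProjDegLib.form (m + 1) k cf, sum_mem fun i _ => by
    rw [MvPolynomial.mem_homogeneousSubmodule]
    simpa using (MvPolynomial.isHomogeneous_C _ (cf i)).mul (MvPolynomial.isHomogeneous_X k i)⟩
  have hG : G ≠ 0 := fun h => hne (funext fun i => by
    classical
    have h1 := congrArg (MvPolynomial.coeff (Finsupp.single i 1)) (congrArg Subtype.val h)
    simpa [G, ProjDegLib.form, MvPolynomial.coeff_sum, MvPolynomial.coeff_C_mul, MvPolynomial.coeff_X',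
      Finsupp.single_left_inj] using h1)
  refine ⟨G, hG, ?_⟩
  let J := LefPen.hypIdeal G
  intro x hx hx'
  obtain ⟨t, rfl⟩ := hx'
  obtain ⟨j, hj⟩ := ProjDegLib.exists_chart (m + 1) k (P t)
  let D : (CohB1.ProjSpace (m + 1) k).affineOpens := ⟨LefPen.chart (m + 1) k j, CIGen.chart_affine j⟩
  have hz := (J.mem_support_iff_of_mem (U := D) hj).1 hx
  refine hcf t ((ProjDegLib.van_iff _ _ hj cf).2 ?_)
  rw [IsLocalRing.mem_maximalIdeal, mem_nonunits_iff]
  intro hu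
  refine (Scheme.mem_zeroLocus_iff _ _ _).1 hz (ProjDegLib.L (m + 1) k j cf) ?_
    ((Scheme.mem_basicOpen _ _ _ hj).2 hu)
  show GradedCechLib.deh (m + 1) k j G.1 ∈ J.ideal D
  rw [CIGen.hypIdeal_chart]
  exact Ideal.subset_span rfl

include hπ in
/-- **A hyperplane avoiding the centre.** -/
theorem exists_hyp_data :
    ∃ (K : X.IdealSheafData) (G : LefPen.Form (m + 1) k 1) (_ : G ≠ 0)
      (σ : K.subscheme ⟶ (LefPen.hypIdeal G).subscheme), IsIso σ ∧
      σ ≫ (LefPen.hypIdeal G).subschemeι = K.subschemeι ≫ π ∧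
      (∀ c : ℤ, Nonempty (CohB1.tensorMod (pO π c) (ClSub.idealMod K) ≅ pO π (c - 1))) ∧
      ∀ x, x ∈ (LefPen.hypIdeal G).support → x ∉ Set.range P := by
  obtain ⟨G, hG, hav⟩ := exists_avoiding_hyp P
  let J := LefPen.hypIdeal G
  have havoid : ∀ x, x ∈ J.support →
      x ∉ (Scheme.IdealSheafData.vanishingIdeal
        (⟨Set.range P, hZ⟩ : Closeds (CohB1.ProjSpace (m + 1) k))).support := fun x hx hx' => by
    rw [← SetLike.mem_coe, Scheme.IdealSheafData.coe_support_vanishingIdeal] at hx'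
    exact hav x hx hx'
  obtain ⟨eI⟩ := PlaneCurveLib.nonempty_idealMod_iso G hG
  have hJ : PicF.IsInvertible (ClSub.idealMod J) :=
    HilbPolyLib.isInvertible_of_iso eI.symm (PicPnLib.twist_inv _ k _)
  have hJc := BlowUpLib.isEffCartier_comap hπ (IntMultLib.isEffCartier_of_isInvertible _ hJ)
  obtain ⟨ep⟩ := SymSqLib.nonempty_pb_ideal π J hJ (IntMultLib.isInvertible_idealMod _ hJc)
  obtain ⟨σ, hσ, hσw⟩ := exists_iso_comap hπ J havoid
  refine ⟨J.comap π, G, hG, σ, hσ, hσw, fun c => ?_, hav⟩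
  obtain ⟨p⟩ := nonempty_pb_tensor π (Twist.twistProjSpace (m + 1) k c) (Twist.twistProjSpace (m + 1) k (-((1 : ℕ) : ℤ)))
  obtain ⟨ea⟩ := PicPnLib.twist_add (m + 1) k c (-((1 : ℕ) : ℤ))
  exact ⟨congrRight _ (ep.symm ≪≫ (Scheme.Modules.pullback π).mapIso eI) ≪≫ p.symm ≪≫
    (Scheme.Modules.pullback π).mapIso (ea ≪≫ eqToIso (by rw [show c + -((1 : ℕ) : ℤ) = c - 1 by omega]))⟩

include hπ in
/-- The hyperplane sequence. -/
theorem exists_hyp_seq (hm : 1 ≤ m) (c : ℤ) :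
    ∃ T : ShortComplex X.Modules, T.ShortExact ∧ Nonempty (T.X₁ ≅ pO π (c - 1)) ∧ Nonempty (T.X₂ ≅ pO π c) ∧
      ∀ q, ((q = 0 ∧ c < 0) ∨ (1 ≤ q ∧ q < m) ∨ (q = m ∧ 1 ≤ q ∧ -(m : ℤ) ≤ c) ∨ (m + 1 ≤ q ∧ -(m : ℤ) - 1 ≤ c)) →
        Subsingleton (Coh.HH X T.X₃ q) := by
  obtain ⟨K, G, hG, σ, hσ, hw, hK, -⟩ := exists_hyp_data hZ hπ
  haveI := hσ
  obtain ⟨T, hT, ⟨e₁⟩, ⟨e₂⟩, ⟨e₃⟩⟩ := HdgLefLib.exists_restrict_seq K
    (AmpleDevLib.isFinLocFree_of_isInvertible (isInvertible_pO (π := π) c))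
  obtain ⟨eK⟩ := hK c
  refine ⟨T, hT, ⟨e₁ ≪≫ eK⟩, ⟨e₂⟩, fun q hq => ?_⟩
  haveI hH : Coh.IsQCoh (CIDivLib.tw (LefPen.hypIdeal G) c) :=
    FinLFAnn.isQCoh_of_isFinLocFree (AmpleDevLib.isFinLocFree_of_isInvertible (CIDivLib.isInvertible_tw _ c))
  let e : (Scheme.Modules.pullback K.subschemeι).obj (pO π c) ≅
      (Scheme.Modules.pullback σ).obj (CIDivLib.tw (LefPen.hypIdeal G) c) :=
    (Scheme.Modules.pullbackComp _ _).app _ ≪≫ (Scheme.Modules.pullbackCongr hw.symm).app _ ≪≫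
      ((Scheme.Modules.pullbackComp _ _).app _).symm
  haveI : Coh.IsQCoh ((Scheme.Modules.pullback K.subschemeι).obj (pO π c)) :=
    FinLFAnn.isQCoh_of_isFinLocFree (AmpleDevLib.isFinLocFree_of_isInvertible
      (AmpleDevLib.isInvertible_pb _ (isInvertible_pO c)))
  obtain ⟨E⟩ := QCohLib.nonempty_HH_push K.subschemeι ((Scheme.Modules.pullback K.subschemeι).obj (pO π c)) q
  exact HdgLefLib.sub_iso e₃.symm q (@Equiv.subsingleton _ _ E.symm.toEquiv
    (HdgLefLib.sub_iso e.symm q ((QuotSchLib.subsingleton_HH_pullback_iso (asIso σ) _ q).2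
      (subsingleton_hyperplane hm G hG c q hq))))

include hπ in
/-- Vanishing descends along the hyperplane. -/
theorem hyp_down (hm : 1 ≤ m) (c : ℤ) (q : ℕ) (hq : 1 ≤ q)
    (hcase : (q = 1 ∧ c < 0) ∨ (2 ≤ q ∧ q ≤ m) ∨ (q = m + 1 ∧ -(m : ℤ) ≤ c))
    (h : Subsingleton (Coh.HH X (pO π c) q)) : Subsingleton (Coh.HH X (pO π (c - 1)) q) := by
  obtain ⟨T, hT, ⟨e₁⟩, ⟨e₂⟩, h₃⟩ := exists_hyp_seq hZ hπ hm c
  obtain ⟨q, rfl⟩ : ∃ q', q = q' + 1 := ⟨q - 1, by omega⟩
  exact HdgLefLib.sub_iso e₁ _ (HodgePnLib.sub₁_succ hT (h₃ q (by omega)) (HdgLefLib.sub_iso e₂.symm _ h))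

include hπ in
/-- `H¹` descends along the hyperplane also in non-negative degrees. -/
theorem hyp_down_one (hm : 1 ≤ m) (c : ℤ)
    (h : Subsingleton (Coh.HH X (pO π c) 1)) : Subsingleton (Coh.HH X (pO π (c - 1)) 1) := by
  obtain ⟨K, G, hG, σ, hσ, hw, hK, -⟩ := exists_hyp_data hZ hπ
  haveI := hσ
  obtain ⟨eK⟩ := hK c
  refine HdgLefLib.sub_iso eK 1 (subsingleton_H1_ideal K (isInvertible_pO c) ?_ h)
  refine surjective_puSec_factor σ (LefPen.hypIdeal G).subschemeι K.subschemeι π hw _ ?_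
  refine CIDivLib.surjective_puSec (PicPnLib.twist_inv (m + 1) k c) ?_
  obtain ⟨eI⟩ := PlaneCurveLib.nonempty_idealMod_iso G hG
  obtain ⟨ea⟩ := PicPnLib.twist_add (m + 1) k c (-((1 : ℕ) : ℤ))
  exact HdgLefLib.sub_iso (congrRight _ eI ≪≫ ea).symm 1
    (PnCohLib.subsingleton_HH_twist _ 1 (fun e => by omega) (fun e => by omega))

include hπ in
/-- Absence of sections ascends along the hyperplane in negative degrees. -/
theorem hyp_up (hm : 1 ≤ m) (c : ℤ) (q : ℕ)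
    (hcase : (q = 0 ∧ c < 0) ∨ (1 ≤ q ∧ q < m) ∨ (q = m ∧ 1 ≤ q ∧ -(m : ℤ) ≤ c) ∨ (m + 1 ≤ q ∧ -(m : ℤ) - 1 ≤ c))
    (h : Subsingleton (Coh.HH X (pO π (c - 1)) q)) : Subsingleton (Coh.HH X (pO π c) q) := by
  obtain ⟨T, hT, ⟨e₁⟩, ⟨e₂⟩, h₃⟩ := exists_hyp_seq hZ hπ hm c
  exact HdgLefLib.sub_iso e₂ q (HdgLefLib.sub₂ hT (HdgLefLib.sub_iso e₁.symm q h) (h₃ q hcase))

end BlowPtLib
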