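import Groth.Agent.BlowPtLib.Linear

/-!
# Anticanonically twisted kernels and cokernels on the blow-up
-/

set_option autoImplicit false
set_option linter.style.haveILetI false
set_option linter.unusedSectionVars false
set_option maxHeartbeats 1000000
set_option backward.isDefEq.respectTransparency false
set_option backward.isDefEq.respectTransparency.types false

universe u

open CategoryTheory CategoryTheory.Limits AlgebraicGeometry TopologicalSpace Opposite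
open HilbPolyLib (congrLeft congrRight assocIso swapIso unitLeft leftComm)
open KFlatLib (pb)

noncomputable section

namespace BlowPtLib

variable {k : Type u} [Field k] [IsAlgClosed k] {m s : ℕ} {P : Fin s → ↥(CohB1.ProjSpace (m + 1) k)}
  (hP : Function.Injective P) (hPc : ∀ i, IsClosed ({P i} : Set ↥(CohB1.ProjSpace (m + 1) k)))
  (hZ : IsClosed (Set.range P)) {X : Scheme.{u}} {π : X ⟶ CohB1.ProjSpace (m + 1) k}
  (hπ : BlowUp.IsBlowUp π (Scheme.IdealSheafData.vanishingIdeal ⟨Set.range P, hZ⟩))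
  (hm : 2 ≤ m) (hs : s ≤ 1) {Hm : X.Modules}
  (hHm : Nonempty (Hm ≅ CohB1.tensorMod (pO π ((m : ℤ) + 2))
    (CohB1.tensorPow (ClSub.idealMod ((Scheme.IdealSheafData.vanishingIdeal ⟨Set.range P, hZ⟩).comap π)) m)))

/-- The twisting data of the anticanonical module: powers of `π^*O(1)` twisted by it. -/
theorem twist_cases (hPc : ∀ i, IsClosed ({P i} : Set ↥(CohB1.ProjSpace (m + 1) k))) (hP : Function.Injective P)
    (hπ : BlowUp.IsBlowUp π (Scheme.IdealSheafData.vanishingIdeal ⟨Set.range P, hZ⟩)) (hs : s ≤ 1)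
    (hHm : Nonempty (Hm ≅ CohB1.tensorMod (pO π ((m : ℤ) + 2))
      (CohB1.tensorPow (ClSub.idealMod ((Scheme.IdealSheafData.vanishingIdeal ⟨Set.range P, hZ⟩).comap π)) m))) :
    (∀ (Hi : X.Modules), ClSub.IsInverseOf Hi Hm → ∀ t : ℕ,
      Nonempty (CohB1.tensorPow Hm t ≅ pO π (((m : ℤ) + 2) * t)) ∧
      Nonempty (CohB1.tensorPow Hi t ≅ pO π (-((m : ℤ) + 2) * t))) ∧
      (∀ t : ℕ, Nonempty (CohB1.tensorPow Hm t ≅ pO π (((m : ℤ) + 2) * t))) ∨
    ∃ (p : ↥(CohB1.ProjSpace (m + 1) k)) (hp : IsClosed ({p} : Set _))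
      (_ : BlowUp.IsBlowUp π (Scheme.IdealSheafData.vanishingIdeal ⟨{p}, hp⟩))
      (φ : X ⟶ CohB1.ProjSpace m k), Nonempty (pb φ (Twist.twistProjSpace m k 1) ≅ lnL hp π) ∧
      (∀ (Hi : X.Modules), ClSub.IsInverseOf Hi Hm → ∀ t : ℕ,
        Nonempty (CohB1.tensorPow Hm t ≅ bd π φ (((m : ℤ) + 2) * t) ((m : ℤ) * t)) ∧
        Nonempty (CohB1.tensorPow Hi t ≅ bd π φ (-((m : ℤ) + 2) * t) (-(m : ℤ) * t))) ∧
      (∀ t : ℕ, Nonempty (CohB1.tensorPow Hm t ≅ bd π φ (((m : ℤ) + 2) * t) ((m : ℤ) * t))) := by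
  obtain ⟨h⟩ := hHm
  obtain ⟨w⟩ := nonempty_pb_twist_zero π
  rcases Nat.le_one_iff_eq_zero_or_eq_one.1 hs with hs' | hs'
  · left
    obtain ⟨z⟩ := nonempty_exc_empty hP hPc hZ hπ hs' m
    let h' : Hm ≅ pO π ((m : ℤ) + 2) := h ≪≫ congrRight _ z ≪≫ swapIso _ _ ≪≫ unitLeft _
    have hpow : ∀ (A : X.Modules) (c : ℤ), (A ≅ pO π c) → ∀ t : ℕ,
        Nonempty (CohB1.tensorPow A t ≅ pO π (c * t)) := fun A c f t => by
      induction t with
      | zero => exact ⟨w.symm ≪≫ eqToIso (congrArg (pO π) (by simp))⟩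
      | succ t ih =>
        obtain ⟨g⟩ := ih
        obtain ⟨b⟩ := nonempty_pb_twist_add π (c * t) c
        exact ⟨congrLeft g _ ≪≫ congrRight _ f ≪≫ b ≪≫ eqToIso (congrArg (pO π) (by push_cast; ring))⟩
    obtain ⟨a⟩ := nonempty_pb_twist_add π ((m : ℤ) + 2) (-((m : ℤ) + 2))
    refine ⟨fun Hi hHi t => ⟨hpow Hm _ h' t, ?_⟩, hpow Hm _ h'⟩
    obtain ⟨hi⟩ := hHi
    obtain ⟨hi'⟩ := nonempty_inverse_congr hi (a ≪≫ eqToIso (congrArg (pO π) (add_neg_cancel _)) ≪≫ w) h'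
    exact hpow Hi _ hi' t
  · right
    obtain ⟨p, hp, e⟩ := single_point hPc hZ hs'
    have hπ' : BlowUp.IsBlowUp π (Scheme.IdealSheafData.vanishingIdeal ⟨{p}, hp⟩) := e ▸ hπ
    rw [e] at h
    obtain ⟨φ, -, hφ⟩ := exists_projection hp hπ'
    obtain ⟨j⟩ := nonempty_exJ_pow hp φ hφ ((m : ℤ) + 2) m
    let h' : Hm ≅ bd π φ ((m : ℤ) + 2) m := h ≪≫ j
    have hpm : ∀ t : ℕ, Nonempty (CohB1.tensorPow Hm t ≅ bd π φ (((m : ℤ) + 2) * t) ((m : ℤ) * t)) := fun t => by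
      obtain ⟨c₁⟩ := CurveDualLib.nonempty_tensorPow_congr h' t
      obtain ⟨p₁⟩ := nonempty_bd_pow (π := π) φ ((m : ℤ) + 2) m t
      exact ⟨c₁ ≪≫ p₁⟩
    refine ⟨p, hp, hπ', φ, hφ, fun Hi hHi t => ⟨hpm t, ?_⟩, hpm⟩
    obtain ⟨hi⟩ := hHi
    obtain ⟨a⟩ := nonempty_bd_add (π := π) φ ((m : ℤ) + 2) (-((m : ℤ) + 2)) m (-(m : ℤ))
    obtain ⟨z⟩ := nonempty_bd_zero (π := π) φ (0 : ℤ)
    obtain ⟨hi'⟩ := nonempty_inverse_congr hi (a ≪≫ eqToIso (by rw [add_neg_cancel, add_neg_cancel]) ≪≫ z ≪≫ w) h'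
    obtain ⟨c₂⟩ := CurveDualLib.nonempty_tensorPow_congr hi' t
    obtain ⟨p₂⟩ := nonempty_bd_pow (π := π) φ (-((m : ℤ) + 2)) (-(m : ℤ)) t
    exact ⟨c₂ ≪≫ p₂⟩

theorem nonempty_bd_tensor_pO (φ : X ⟶ CohB1.ProjSpace m k) (c e c' : ℤ) :
    Nonempty (CohB1.tensorMod (bd π φ c e) (pO π c') ≅ bd π φ (c + c') e) := by
  obtain ⟨z⟩ := nonempty_bd_zero (π := π) φ c'
  obtain ⟨a⟩ := nonempty_bd_add (π := π) φ c c' e 0
  exact ⟨congrRight _ z.symm ≪≫ a ≪≫ eqToIso (by rw [add_zero])⟩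

include hP hPc hπ hm hs hHm in
/-- Positive anticanonical twists of small multiples of `π^*O(1)`. -/
theorem vanish_pos (t : ℕ) (c : ℤ) (q : ℕ) (hq : 1 ≤ q) (hc : -2 ≤ c) :
    Subsingleton (Coh.HH X (CohB1.tensorMod (CohB1.tensorPow Hm t) (pO π c)) q) := by
  have ht0 : (0 : ℤ) ≤ t := Int.natCast_nonneg t
  have hmt : (0 : ℤ) ≤ ((m : ℤ) + 2) * t := by positivity
  rcases twist_cases hZ hPc hP hπ hs hHm with ⟨-, h⟩ | ⟨p, hp, hπ', φ, hφ, -, h⟩
  · obtain ⟨e⟩ := h t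
    obtain ⟨a⟩ := nonempty_pb_twist_add π (((m : ℤ) + 2) * t) c
    exact HdgLefLib.sub_iso (congrLeft e _ ≪≫ a).symm q (subsingleton_pO_top hP hPc hZ hπ (by omega) _ q hq (by omega))
  · obtain ⟨e⟩ := h t
    obtain ⟨a⟩ := nonempty_bd_tensor_pO (π := π) φ (((m : ℤ) + 2) * t) ((m : ℤ) * t) c
    refine HdgLefLib.sub_iso (congrLeft e _ ≪≫ a).symm q ?_
    rcases Nat.eq_zero_or_pos t with rfl | ht
    · obtain ⟨z⟩ := nonempty_bd_zero (π := π) φ c
      exact HdgLefLib.sub_iso (z.symm ≪≫ eqToIso (by simp)) q (subsingleton_pO_all hp hπ' (by omega) c q hq (by omega))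
    · have := bd_pos hp hπ' φ hφ (by omega) (((m : ℤ) + 2) * t + c) (m * t) q (by push_cast; nlinarith) hq
      exact_mod_cast this

include hP hPc hπ hm hs hHm in
/-- Negative anticanonical twists of small multiples of `π^*O(1)`. -/
theorem vanish_neg (Hi : X.Modules) (hHi : ClSub.IsInverseOf Hi Hm) (t : ℕ) (c : ℤ) (q : ℕ) (hc : c ≤ 2)
    (hq : q ≤ m) (hqc : q = m → c ≤ 1) (hq0 : q = 0 → 1 ≤ t) :
    Subsingleton (Coh.HH X (CohB1.tensorMod (CohB1.tensorPow Hi t) (pO π c)) q) := by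
  have hneg : q = 0 → -((m : ℤ) + 2) * t + c < 0 := fun h => by
    have : (1 : ℤ) ≤ t := by exact_mod_cast hq0 h
    have : (2 : ℤ) ≤ m := by exact_mod_cast hm
    nlinarith
  have hbase : Subsingleton (Coh.HH X (pO π (-((m : ℤ) + 2) * t + c)) q) := by
    rcases Nat.eq_zero_or_pos q with rfl | hq'
    · exact subsingleton_pO_zero hZ hπ (by omega) _ (hneg rfl)
    · exact subsingleton_pO hP hPc hZ hπ (by omega) _ q (Or.inl ⟨hq', hq⟩)
  rcases twist_cases hZ hPc hP hπ hs hHm with ⟨h, -⟩ | ⟨p, hp, hπ', φ, hφ, h, -⟩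
  · obtain ⟨-, ⟨e⟩⟩ := h Hi hHi t
    obtain ⟨a⟩ := nonempty_pb_twist_add π (-((m : ℤ) + 2) * t) c
    exact HdgLefLib.sub_iso (congrLeft e _ ≪≫ a).symm q hbase
  · obtain ⟨-, ⟨e⟩⟩ := h Hi hHi t
    obtain ⟨a⟩ := nonempty_bd_tensor_pO (π := π) φ (-((m : ℤ) + 2) * t) (-(m : ℤ) * t) c
    refine HdgLefLib.sub_iso (congrLeft e _ ≪≫ a).symm q ?_
    have e' : (-(m : ℤ) * t) = -((m * t : ℕ) : ℤ) := by push_cast; ring
    rw [e']
    rcases Nat.lt_or_eq_of_le hq with hlt | heq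
    · exact bd_neg hp hπ' φ hφ _ q (m * t) (Or.inl hlt) hbase
    · refine bd_neg_all hp hπ' φ hφ (by omega) _ (m * t) q (by omega) hq fun _ => ?_
      rcases Nat.eq_zero_or_pos t with rfl | ht
      · exact Or.inr (by simp)
      · exact Or.inl (by
          have h1 : (1 : ℤ) ≤ t := by exact_mod_cast ht
          have := hqc heq
          push_cast
          nlinarith)

variable {a b : ℕ} {Q₂ P₂ : X.Modules}
  (hQ₂ : Nonempty (Q₂ ≅ ∐ fun _ : Fin b => pO π 1)) (hP₂ : Nonempty (P₂ ≅ ∐ fun _ : Fin a => pO π 2))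
  (g : Q₂ ⟶ P₂) [Epi g]

include hP hPc hπ hm hs hHm hQ₂ hP₂ in
/-- The first cohomology of positive twists of the kernel. -/
theorem kernel_pos_one
    (hg0 : Function.Surjective (Sheaf.H.map ((SheafOfModules.toSheaf X.ringCatSheaf).map g) 0)) (t : ℕ) :
    Subsingleton (Coh.HH X (CohB1.tensorMod (kernel g) (CohB1.tensorPow Hm t)) 1) := by
  haveI := isProper_π hZ hπ
  haveI : IsLocallyNoetherian (CohB1.ProjSpace (m + 1) k) := PnCohLib.isLocallyNoetherian_projSpace (n := m + 1) k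
  haveI : IsLocallyNoetherian X := LocallyOfFiniteType.isLocallyNoetherian π
  have hG : FlatMod.IsFinLocFree (kernel g) :=
    AmpleNilLib.vb_kernel (vb_sum hQ₂ (isInvertible_pO 1)) (vb_sum hP₂ (isInvertible_pO 2)) g
  have hG0 : Subsingleton (Coh.HH X (kernel g) 1) :=
    sub_kernel_zero hQ₂ g hg0 (subsingleton_pO hP hPc hZ hπ (by omega) 1 1 (by omega))
  rcases twist_cases hZ hPc hP hπ hs hHm with ⟨-, h⟩ | ⟨p, hp, hπ', φ, hφ, -, h⟩
  · obtain ⟨e⟩ := h t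
    have := raise_degree hP hPc hZ hπ hG hG0 (fun x j hj hjm hx => by
      refine sub_kernel hQ₂ hP₂ g (isInvertible_pO x) j ?_ ?_
      · obtain ⟨a'⟩ := nonempty_pb_twist_add π x 2
        exact HdgLefLib.sub_iso a'.symm j (subsingleton_pO_top hP hPc hZ hπ (by omega) _ j hj (by omega))
      · obtain ⟨a'⟩ := nonempty_pb_twist_add π x 1
        exact HdgLefLib.sub_iso a'.symm (j + 1) (subsingleton_pO_top hP hPc hZ hπ (by omega) _ (j + 1) (by omega) (by omega)))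
      ((m + 2) * t)
    exact HdgLefLib.sub_iso (congrRight _ (eqToIso (congrArg (pO π) (by push_cast; ring)) ≪≫ e.symm)) 1 this
  · obtain ⟨e⟩ := h t
    have hG' : ∀ (x : ℤ), PicF.IsInvertible (bd π φ x x) := fun x => isInvertible_bd φ x x
    have hdiag : ∀ d : ℕ, Subsingleton (Coh.HH X (CohB1.tensorMod (kernel g) (bd π φ (d : ℤ) (d : ℤ))) 1) := by
      intro d
      induction d using Nat.strong_induction_on with
      | _ d ih =>
        rcases Nat.eq_zero_or_pos d with rfl | hd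
        · obtain ⟨z⟩ := nonempty_bd_zero (π := π) φ (0 : ℤ)
          obtain ⟨w⟩ := nonempty_pb_twist_zero π
          exact HdgLefLib.sub_iso (congrRight _ (eqToIso (by simp) ≪≫ z ≪≫ w) ≪≫ swapIso _ _ ≪≫ unitLeft _).symm 1 hG0
        · have hbd : ∀ x : ℤ, Nonempty (fTw φ (kernel g) x ≅ CohB1.tensorMod (kernel g) (bd π φ x x)) := fun x => by
            obtain ⟨w⟩ := nonempty_pb_twist_zero π
            exact ⟨congrRight (kernel g) ((unitLeft _).symm ≪≫
              congrLeft (w.symm ≪≫ eqToIso (congrArg (pO π) (sub_self x).symm)) _)⟩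
          obtain ⟨f⟩ := hbd (d : ℤ)
          refine HdgLefLib.sub_iso f 1 (kosz_up φ hG (d : ℤ) 1 fun j hj => ?_)
          obtain ⟨f'⟩ := hbd ((d : ℤ) - ((j + 1 : ℕ) : ℤ))
          refine HdgLefLib.sub_iso f'.symm (1 + j) ?_
          rcases Nat.eq_zero_or_pos j with rfl | hj'
          · have := ih (d - 1) (by omega)
            rwa [show ((d - 1 : ℕ) : ℤ) = (d : ℤ) - ((0 + 1 : ℕ) : ℤ) by omega] at this
          · rw [Nat.add_comm 1 j]
            have hvan : ∀ (x c : ℤ), -(m : ℤ) ≤ x → 0 ≤ c → c ≤ 2 → ∀ q, 1 ≤ q →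
                Subsingleton (Coh.HH X (CohB1.tensorMod (bd π φ x x) (pO π c)) q) := fun x c hx hc hc' q hq => by
              obtain ⟨a'⟩ := nonempty_bd_tensor_pO (π := π) φ x x c
              refine HdgLefLib.sub_iso a'.symm q ?_
              rcases le_or_gt 0 x with hx0 | hx0
              · have := bd_pos hp hπ' φ hφ (by omega) (x + c) x.toNat q (by omega) hq
                rwa [Int.toNat_of_nonneg hx0] at this
              · have := bd_neg hp hπ' φ hφ (x + c) q (-x).toNat (Or.inr (by omega))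
                  (subsingleton_pO_all hp hπ' (by omega) _ q hq (by omega))
                rwa [show -(((-x).toNat : ℕ) : ℤ) = x by omega] at this
            exact sub_kernel hQ₂ hP₂ g (hG' _) j (hvan _ 2 (by omega) (by omega) le_rfl j hj')
              (hvan _ 1 (by omega) (by omega) (by omega) (j + 1) (by omega))
    let d := m * t
    have hN : PicF.IsInvertible (bd π φ (d : ℤ) (d : ℤ)) := hG' _
    have := raise_degree hP hPc hZ hπ (HdgLefLib.finLocFree_tensor hG hN) (hdiag d) (fun x j hj hjm hx => by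
      refine HdgLefLib.sub_iso (assocIso _ _ _).symm (j + 1) (sub_kernel hQ₂ hP₂ g
        (HilbPolyLib.isInvertible_tensor hN (isInvertible_pO x)) j ?_ ?_)
      · obtain ⟨a₁⟩ := nonempty_bd_tensor_pO (π := π) φ (d : ℤ) (d : ℤ) x
        obtain ⟨a₂⟩ := nonempty_bd_tensor_pO (π := π) φ ((d : ℤ) + x) (d : ℤ) 2
        refine HdgLefLib.sub_iso (congrLeft a₁ _ ≪≫ a₂).symm j ?_
        rcases Nat.lt_or_ge j 2 with hj2 | hj2
        · exact bd_pos hp hπ' φ hφ (by omega) _ d j (by omega) hj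
        · exact bd_high hp hπ' φ hφ (by omega) _ (by omega) d j hj2
      · obtain ⟨a₁⟩ := nonempty_bd_tensor_pO (π := π) φ (d : ℤ) (d : ℤ) x
        obtain ⟨a₂⟩ := nonempty_bd_tensor_pO (π := π) φ ((d : ℤ) + x) (d : ℤ) 1
        exact HdgLefLib.sub_iso (congrLeft a₁ _ ≪≫ a₂).symm (j + 1)
          (bd_high hp hπ' φ hφ (by omega) _ (by omega) d (j + 1) (by omega))) (2 * t)
    obtain ⟨a₃⟩ := nonempty_bd_tensor_pO (π := π) φ (d : ℤ) (d : ℤ) ((2 * t : ℕ) : ℤ)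
    exact HdgLefLib.sub_iso (assocIso _ _ _ ≪≫ congrRight _ (a₃ ≪≫
      eqToIso (by simp only [d]; push_cast; ring_nf) ≪≫ e.symm)) 1 this

include hP hPc hπ hm hs hHm in
/-- **Cokernels of matrices of linear forms.** -/
theorem cokernel_twists {P₁ Q₁ : X.Modules} (hP₁ : Nonempty (P₁ ≅ ∐ fun _ : Fin a => pO π (-2)))
    (hQ₁ : Nonempty (Q₁ ≅ ∐ fun _ : Fin b => pO π (-1))) (f : P₁ ⟶ Q₁) [Mono f] (q t : ℕ) (hq : 1 ≤ q) :
    Subsingleton (Coh.HH X (CohB1.tensorMod (cokernel f) (CohB1.tensorPow Hm t)) q) := by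
  have hI : PicF.IsInvertible Hm := by
    obtain ⟨e⟩ := hHm
    exact HilbPolyLib.isInvertible_of_iso e.symm (HilbPolyLib.isInvertible_tensor (isInvertible_pO _)
      (AmpleThLib.tensorPow_isInvertible (IntMultLib.isInvertible_idealMod _ hπ.1) m))
  exact sub_cokernel hP₁ hQ₁ f (AmpleThLib.tensorPow_isInvertible hI t) q
    (vanish_pos hP hPc hZ hπ hm hs hHm t (-2) (q + 1) (by omega) le_rfl)
    (vanish_pos hP hPc hZ hπ hm hs hHm t (-1) q hq (by omega))

include hP hPc hπ hm hs hHm hQ₂ hP₂ in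
/-- **Kernels of matrices of linear forms.** -/
theorem kernel_twists
    (hg0 : Function.Surjective (Sheaf.H.map ((SheafOfModules.toSheaf X.ringCatSheaf).map g) 0))
    (Hi : X.Modules) (hHi : ClSub.IsInverseOf Hi Hm) (q t : ℕ) (hq1 : 1 ≤ q) (hq : q ≤ m) :
    Subsingleton (Coh.HH X (CohB1.tensorMod (kernel g) (CohB1.tensorPow Hm t)) q) ∧
      Subsingleton (Coh.HH X (CohB1.tensorMod (kernel g) (CohB1.tensorPow Hi t)) q) := by
  have hI : PicF.IsInvertible Hm := by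
    obtain ⟨e⟩ := hHm
    exact HilbPolyLib.isInvertible_of_iso e.symm (HilbPolyLib.isInvertible_tensor (isInvertible_pO _)
      (AmpleThLib.tensorPow_isInvertible (IntMultLib.isInvertible_idealMod _ hπ.1) m))
  have hIi : ∀ t, PicF.IsInvertible (CohB1.tensorPow Hi t) := fun t => by
    rcases twist_cases hZ hPc hP hπ hs hHm with ⟨h, -⟩ | ⟨p, hp, hπ', φ, hφ, h, -⟩
    · obtain ⟨-, ⟨e⟩⟩ := h Hi hHi t
      exact HilbPolyLib.isInvertible_of_iso e.symm (isInvertible_pO _)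
    · obtain ⟨-, ⟨e⟩⟩ := h Hi hHi t
      exact HilbPolyLib.isInvertible_of_iso e.symm (isInvertible_bd φ _ _)
  obtain ⟨q, rfl⟩ : ∃ q', q = q' + 1 := ⟨q - 1, by omega⟩
  refine ⟨?_, ?_⟩
  · rcases Nat.eq_zero_or_pos q with rfl | hq'
    · exact kernel_pos_one hP hPc hZ hπ hm hs hHm hQ₂ hP₂ g hg0 t
    · exact sub_kernel hQ₂ hP₂ g (AmpleThLib.tensorPow_isInvertible hI t) q
        (vanish_pos hP hPc hZ hπ hm hs hHm t 2 q hq' (by omega))
        (vanish_pos hP hPc hZ hπ hm hs hHm t 1 (q + 1) (by omega) (by omega))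
  · by_cases h0 : q = 0 ∧ t = 0
    · obtain ⟨rfl, rfl⟩ := h0
      exact HdgLefLib.sub_iso (swapIso _ _ ≪≫ unitLeft _).symm 1
        (sub_kernel_zero hQ₂ g hg0 (subsingleton_pO hP hPc hZ hπ (by omega) 1 1 (by omega)))
    · exact sub_kernel hQ₂ hP₂ g (hIi t) q
        (vanish_neg hP hPc hZ hπ hm hs hHm Hi hHi t 2 q le_rfl (by omega) (fun h => by omega)
          (fun h => Nat.pos_of_ne_zero fun h' => h0 ⟨h, h'⟩))
        (vanish_neg hP hPc hZ hπ hm hs hHm Hi hHi t 1 (q + 1) (by omega) hq (fun _ => le_rfl) (fun h => by omega))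

end BlowPtLib
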