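import Groth.Agent.HodgePnLib.Vanish
import Groth.Agent.HdgLefLib.Main
import Groth.Agent.PerfLib.Restrict
import Groth.Agent.VBResLib.KPull
import Groth.Agent.KFlatLib.PullTensor

/-!
# Vanishing along the Koszul complex pulled back from projective space
-/

set_option autoImplicit false
set_option linter.style.haveILetI false
set_option linter.unusedSectionVars false
set_option maxHeartbeats 1000000
set_option backward.isDefEq.respectTransparency false
set_option backward.isDefEq.respectTransparency.types false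

universe u

open CategoryTheory CategoryTheory.Limits AlgebraicGeometry TopologicalSpace Opposite
open KFlatLib (pb)
open HilbPolyLib (congrLeft congrRight assocIso swapIso unitLeft)

noncomputable section

namespace BlowPtLib

attribute [local instance] Abelian.hasFiniteBiproducts

/-- A direct summand of an acyclic module is acyclic. -/
theorem sub_of_retract {X : Scheme.{u}} {M N : X.Modules} (i : M ⟶ N) (p : N ⟶ M) (h : i ≫ p = 𝟙 M) (q : ℕ)
    (hN : Subsingleton (Coh.HH X N q)) : Subsingleton (Coh.HH X M q) :=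
  subsingleton_of_forall_eq 0 fun x => by
    have h1 : Sheaf.H.map ((QCohLib.toAbF X).map p) q (Sheaf.H.map ((QCohLib.toAbF X).map i) q x) = x := by
      rw [← Sheaf.H.map_comp_apply, ← Functor.map_comp, h, CategoryTheory.Functor.map_id]
      exact Sheaf.H.map_id_apply x
    rw [← h1]
    have h2 : Sheaf.H.map ((QCohLib.toAbF X).map i) q x = 0 := hN.elim _ _
    rw [h2, map_zero]

variable {k : Type u} [Field k] {m : ℕ} {X : Scheme.{u}} (φ : X ⟶ CohB1.ProjSpace m k) (M : X.Modules)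

/-- The twisting functor of the Koszul complex. -/
abbrev koszF : (CohB1.ProjSpace m k).Modules ⥤ X.Modules :=
  Scheme.Modules.pullback φ ⋙ ProjFormLib.tF M

/-- The twists. -/
abbrev fTw (t : ℤ) : X.Modules := (koszF φ M).obj (Twist.twistProjSpace m k t)

variable {M} (hM : FlatMod.IsFinLocFree M)

include hM in
/-- The pulled back sequence. -/
theorem exists_kosz_seq (p : ℕ) (t : ℤ) {A C : (CohB1.ProjSpace m k).Modules}
    (hA : HodgePnLib.IsOm m k (p + 1) A) (hC : HodgePnLib.IsOm m k p C) (hCv : FlatMod.IsFinLocFree C) :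
    ∃ T : ShortComplex X.Modules, T.ShortExact ∧
      Nonempty (T.X₁ ≅ (koszF φ M).obj (CohB1.tensorMod A (Twist.twistProjSpace m k t))) ∧
      Nonempty (T.X₂ ≅ ⨁ fun _ : Fin ((m + 1).choose (p + 1)) => fTw φ M (t - (p + 1 : ℕ))) ∧
      Nonempty (T.X₃ ≅ (koszF φ M).obj (CohB1.tensorMod C (Twist.twistProjSpace m k t))) := by
  haveI : QuasiSeparated (CohB1.ProjSpace.toSpec m k) := HodgePnLib.quasiSep m k
  haveI : IsLocallyNoetherian (CohB1.ProjSpace m k) := PnCohLib.isLocallyNoetherian_projSpace (n := m) k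
  obtain ⟨T, hT, ⟨i₁⟩, ⟨i₂⟩, ⟨i₃⟩⟩ := HodgePnLib.exists_seq_twist m k p t hA hC
  have h3 : FlatMod.IsFinLocFree T.X₃ :=
    Groth.Agent.PerfLib.isFinLocFree_of_iso i₃.symm (HdgLefLib.finLocFree_tensor hCv (PicPnLib.twist_inv m k t))
  have hS := ProjFormLib.shortExact_tens hM (VBResLib.shortExact_pullback_of_vb φ hT h3)
  exact ⟨_, hS, ⟨(koszF φ M).mapIso i₁⟩, ⟨(koszF φ M).mapIso i₂ ≪≫ (koszF φ M).mapBiproduct _⟩,
    ⟨(koszF φ M).mapIso i₃⟩⟩

include hM in
theorem kosz_big (p : ℕ) (hp : m < p) (t : ℤ) {L : (CohB1.ProjSpace m k).Modules}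
    (hL : HodgePnLib.IsOm m k p L) (q : ℕ) :
    Subsingleton (Coh.HH X ((koszF φ M).obj (CohB1.tensorMod L (Twist.twistProjSpace m k t))) q) := by
  haveI : QuasiSeparated (CohB1.ProjSpace.toSpec m k) := HodgePnLib.quasiSep m k
  haveI : (koszF φ M).PreservesZeroMorphisms := inferInstance
  exact HodgePnLib.subsingleton_of_isZero ((koszF φ M).map_isZero
    (IsZero.of_iso ((CurvLib.tensorLeft' (Twist.twistProjSpace m k t)).map_isZero (HodgePnLib.isZero_isOm m k hp hL))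
      (HilbPolyLib.swapIso _ _))) q

include hM in
theorem kosz_zero (t : ℤ) {L : (CohB1.ProjSpace m k).Modules} (hL : HodgePnLib.IsOm m k 0 L) :
    Nonempty ((koszF φ M).obj (CohB1.tensorMod L (Twist.twistProjSpace m k t)) ≅ fTw φ M t) := by
  haveI : QuasiSeparated (CohB1.ProjSpace.toSpec m k) := HodgePnLib.quasiSep m k
  obtain ⟨e⟩ := HodgePnLib.isOm_zero_iso m k hL
  obtain ⟨e'⟩ := PicPnLib.twist_add m k 0 t
  exact ⟨(koszF φ M).mapIso (congrLeft e _ ≪≫ e' ≪≫ eqToIso (congrArg (Twist.twistProjSpace m k) (zero_add t)))⟩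

include hM in
theorem kosz_up_aux (t : ℤ) (q₀ : ℕ)
    (h : ∀ j : ℕ, j ≤ m → Subsingleton (Coh.HH X (fTw φ M (t - ((j + 1 : ℕ) : ℤ))) (q₀ + j))) :
    ∀ (d p : ℕ), m + 1 ≤ p + d → ∀ (L : (CohB1.ProjSpace m k).Modules), FlatMod.IsFinLocFree L →
      HodgePnLib.IsOm m k p L →
        Subsingleton (Coh.HH X ((koszF φ M).obj (CohB1.tensorMod L (Twist.twistProjSpace m k t))) (q₀ + p))
  | 0, p, hd, L, _, hL => kosz_big φ hM p (by omega) t hL _
  | d + 1, p, hd, L, hLv, hL => by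
    by_cases hp : m < p
    · exact kosz_big φ hM p hp t hL _
    haveI : QuasiSeparated (CohB1.ProjSpace.toSpec m k) := HodgePnLib.quasiSep m k
    obtain ⟨A, hAv, hA⟩ := HodgePnLib.exists_isOm m k (p + 1)
    obtain ⟨T, hT, ⟨i₁⟩, ⟨i₂⟩, ⟨i₃⟩⟩ := exists_kosz_seq φ hM p t hA hL hLv
    refine HdgLefLib.sub_iso i₃ _ (HodgePnLib.sub₃ hT ?_ ?_)
    · exact HdgLefLib.sub_iso i₂.symm _ (HodgePnLib.subsingleton_biproduct _ _ fun _ => h p (by omega))
    · exact HdgLefLib.sub_iso i₁.symm _ (by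
        rw [show q₀ + p + 1 = q₀ + (p + 1) by omega]
        exact kosz_up_aux t q₀ h d (p + 1) (by omega) A hAv hA)

include hM in
/-- **Vanishing from the lower twists.** -/
theorem kosz_up (t : ℤ) (q : ℕ)
    (h : ∀ j : ℕ, j ≤ m → Subsingleton (Coh.HH X (fTw φ M (t - ((j + 1 : ℕ) : ℤ))) (q + j))) :
    Subsingleton (Coh.HH X (fTw φ M t) q) := by
  haveI : QuasiSeparated (CohB1.ProjSpace.toSpec m k) := HodgePnLib.quasiSep m k
  obtain ⟨L, hLv, hL⟩ := HodgePnLib.exists_isOm m k 0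
  obtain ⟨e⟩ := kosz_zero φ hM t hL
  exact HdgLefLib.sub_iso e q (kosz_up_aux φ hM t q h (m + 1) 0 (by omega) L hLv hL)

include hM in
theorem kosz_down_aux (t : ℤ) (q₁ : ℕ)
    (h : ∀ j : ℕ, j ≤ m → ∀ q, q < q₁ → Subsingleton (Coh.HH X (fTw φ M (t - (j : ℤ))) q)) :
    ∀ (p q : ℕ), p ≤ m → q < q₁ → ∀ (L : (CohB1.ProjSpace m k).Modules), FlatMod.IsFinLocFree L →
      HodgePnLib.IsOm m k p L →
        Subsingleton (Coh.HH X ((koszF φ M).obj (CohB1.tensorMod L (Twist.twistProjSpace m k t))) q)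
  | 0, q, _, hq, L, _, hL => by
    obtain ⟨e⟩ := kosz_zero φ hM t hL
    exact HdgLefLib.sub_iso e.symm q (by simpa using h 0 (by omega) q hq)
  | p + 1, q, hp, hq, L, hLv, hL => by
    haveI : QuasiSeparated (CohB1.ProjSpace.toSpec m k) := HodgePnLib.quasiSep m k
    obtain ⟨C, hCv, hC⟩ := HodgePnLib.exists_isOm m k p
    obtain ⟨T, hT, ⟨i₁⟩, ⟨i₂⟩, ⟨i₃⟩⟩ := exists_kosz_seq φ hM p t hL hC hCv
    have h₂ : Subsingleton (Coh.HH X T.X₂ q) :=
      HdgLefLib.sub_iso i₂.symm _ (HodgePnLib.subsingleton_biproduct _ _ fun _ => h (p + 1) hp q hq)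
    match q, h₂, hq with
    | 0, h₂, _ => exact HdgLefLib.sub_iso i₁ 0 (HodgePnLib.sub₁_zero hT h₂)
    | q + 1, h₂, hq =>
      exact HdgLefLib.sub_iso i₁ _ (HodgePnLib.sub₁_succ hT
        (HdgLefLib.sub_iso i₃.symm q (kosz_down_aux t q₁ h p q (by omega) (by omega) C hCv hC)) h₂)

include hM in
/-- **Vanishing from the higher twists.** -/
theorem kosz_down (t : ℤ) (q : ℕ)
    (h : ∀ j : ℕ, j ≤ m → ∀ q', q' ≤ q → Subsingleton (Coh.HH X (fTw φ M (t - (j : ℤ))) q')) :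
    Subsingleton (Coh.HH X (fTw φ M (t - ((m + 1 : ℕ) : ℤ))) q) := by
  haveI : QuasiSeparated (CohB1.ProjSpace.toSpec m k) := HodgePnLib.quasiSep m k
  obtain ⟨A, hAv, hA⟩ := HodgePnLib.exists_isOm m k (m + 1)
  obtain ⟨C, hCv, hC⟩ := HodgePnLib.exists_isOm m k m
  obtain ⟨T, hT, ⟨i₁⟩, ⟨i₂⟩, ⟨i₃⟩⟩ := exists_kosz_seq φ hM m t hA hC hCv
  have h₁ : ∀ q', Subsingleton (Coh.HH X T.X₁ q') := fun q' =>
    HdgLefLib.sub_iso i₁.symm q' (kosz_big φ hM (m + 1) (Nat.lt_succ_self m) t hA q')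
  have hne : 0 < (m + 1).choose (m + 1) := Nat.choose_pos le_rfl
  have h₂ : Subsingleton (Coh.HH X T.X₂ q) :=
    HdgLefLib.sub₂ hT (h₁ q) (HdgLefLib.sub_iso i₃.symm q (kosz_down_aux φ hM t (q + 1)
      (fun j hj q' hq' => h j hj q' (Nat.lt_succ_iff.1 hq')) m q le_rfl (Nat.lt_succ_self q) C hCv hC))
  exact sub_of_retract (biproduct.ι (fun _ : Fin ((m + 1).choose (m + 1)) => fTw φ M (t - ((m + 1 : ℕ) : ℤ))) ⟨0, hne⟩)
    (biproduct.π _ ⟨0, hne⟩) (biproduct.ι_π_self _ _) q (HdgLefLib.sub_iso i₂ q h₂)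

end BlowPtLib
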