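import Groth.Agent.BlowPtLib.Rows
import Groth.Agent.CIDivLib.Peel
import Groth.Agent.AmpleNilLib.Basic
import Groth.Agent.PerfLib.Restrict

/-!
# Kernels and cokernels of matrices of linear forms on the blow-up
-/

set_option autoImplicit false
set_option linter.style.haveILetI false
set_option linter.unusedSectionVars false
set_option maxHeartbeats 1000000
set_option backward.isDefEq.respectTransparency false
set_option backward.isDefEq.respectTransparency.types false

universe u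

open CategoryTheory CategoryTheory.Limits AlgebraicGeometry TopologicalSpace Opposite
open HilbPolyLib (congrLeft congrRight assocIso swapIso unitLeft leftComm)
open KFlatLib (pb)

noncomputable section

namespace BlowPtLib

attribute [local instance] Abelian.hasFiniteBiproducts

/-- A twisted finite sum is acyclic when the twisted summand is. -/
theorem sub_tensor_sum {X : Scheme.{u}} {M L T : X.Modules} {r : ℕ} (e : Nonempty (M ≅ ∐ fun _ : Fin r => L))
    (q : ℕ) (h : Subsingleton (Coh.HH X (CohB1.tensorMod T L) q)) :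
    Subsingleton (Coh.HH X (CohB1.tensorMod T M) q) := by
  obtain ⟨e⟩ := e
  let F := CurvLib.tensorLeft' T
  exact HdgLefLib.sub_iso (F.mapIso (e ≪≫ (biproduct.isoCoproduct _).symm) ≪≫ F.mapBiproduct _).symm q
    (HodgePnLib.subsingleton_biproduct _ q fun _ => h)

/-- A finite sum is acyclic when the summand is. -/
theorem sub_sum {X : Scheme.{u}} {M L : X.Modules} {r : ℕ} (e : Nonempty (M ≅ ∐ fun _ : Fin r => L)) (q : ℕ)
    (h : Subsingleton (Coh.HH X L q)) : Subsingleton (Coh.HH X M q) := by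
  obtain ⟨e⟩ := e
  exact HdgLefLib.sub_iso (e ≪≫ (biproduct.isoCoproduct _).symm).symm q (HodgePnLib.subsingleton_biproduct _ q fun _ => h)

theorem vb_sum {X : Scheme.{u}} [IsLocallyNoetherian X] {M L : X.Modules} {r : ℕ}
    (e : Nonempty (M ≅ ∐ fun _ : Fin r => L)) (hL : PicF.IsInvertible L) : FlatMod.IsFinLocFree M := by
  obtain ⟨e⟩ := e
  exact Groth.Agent.PerfLib.isFinLocFree_of_iso (e ≪≫ (biproduct.isoCoproduct _).symm).symm
    (CIDivLib.isFinLocFree_biproduct _ fun _ => AmpleDevLib.isFinLocFree_of_isInvertible hL)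

section Seq

variable {X : Scheme.{u}} {A B L₁ L₂ : X.Modules} {a b : ℕ}

/-- Twisted cohomology of a cokernel. -/
theorem sub_cokernel (hA : Nonempty (A ≅ ∐ fun _ : Fin a => L₁)) (hB : Nonempty (B ≅ ∐ fun _ : Fin b => L₂))
    (f : A ⟶ B) [Mono f] {T : X.Modules} (hT : PicF.IsInvertible T) (q : ℕ)
    (h₁ : Subsingleton (Coh.HH X (CohB1.tensorMod T L₁) (q + 1)))
    (h₂ : Subsingleton (Coh.HH X (CohB1.tensorMod T L₂) q)) :
    Subsingleton (Coh.HH X (CohB1.tensorMod (cokernel f) T) q) := by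
  have hS : (ShortComplex.mk f (cokernel.π f) (cokernel.condition f)).ShortExact :=
    { exact := ShortComplex.exact_of_g_is_cokernel _ (cokernelIsCokernel f)
      mono_f := inferInstanceAs (Mono f)
      epi_g := inferInstanceAs (Epi (cokernel.π f)) }
  exact HdgLefLib.sub_iso (swapIso T (cokernel f)) q (HodgePnLib.sub₃ (HilbPolyLib.shortExact_tensor hT hS)
    (sub_tensor_sum hB q h₂) (sub_tensor_sum hA (q + 1) h₁))

/-- Twisted cohomology of a kernel. -/
theorem sub_kernel (hA : Nonempty (A ≅ ∐ fun _ : Fin a => L₁)) (hB : Nonempty (B ≅ ∐ fun _ : Fin b => L₂))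
    (g : A ⟶ B) [Epi g] {T : X.Modules} (hT : PicF.IsInvertible T) (q : ℕ)
    (h₂ : Subsingleton (Coh.HH X (CohB1.tensorMod T L₂) q))
    (h₁ : Subsingleton (Coh.HH X (CohB1.tensorMod T L₁) (q + 1))) :
    Subsingleton (Coh.HH X (CohB1.tensorMod (kernel g) T) (q + 1)) := by
  have hS : (ShortComplex.mk (kernel.ι g) g (kernel.condition g)).ShortExact :=
    { exact := ShortComplex.exact_of_f_is_kernel _ (kernelIsKernel g)
      mono_f := inferInstanceAs (Mono (kernel.ι g))
      epi_g := inferInstanceAs (Epi g) }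
  exact HdgLefLib.sub_iso (swapIso T (kernel g)) (q + 1) (HodgePnLib.sub₁_succ (HilbPolyLib.shortExact_tensor hT hS)
    (sub_tensor_sum hB q h₂) (sub_tensor_sum hA (q + 1) h₁))

/-- The first cohomology of a kernel surjective on sections. -/
theorem sub_kernel_zero (hA : Nonempty (A ≅ ∐ fun _ : Fin a => L₁)) (g : A ⟶ B) [Epi g]
    (hg0 : Function.Surjective (Sheaf.H.map ((SheafOfModules.toSheaf X.ringCatSheaf).map g) 0))
    (h₁ : Subsingleton (Coh.HH X L₁ 1)) : Subsingleton (Coh.HH X (kernel g) 1) := by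
  have hS : (ShortComplex.mk (kernel.ι g) g (kernel.condition g)).ShortExact :=
    { exact := ShortComplex.exact_of_f_is_kernel _ (kernelIsKernel g)
      mono_f := inferInstanceAs (Mono (kernel.ι g))
      epi_g := inferInstanceAs (Epi g) }
  refine subsingleton_of_forall_eq 0 fun y => ?_
  obtain ⟨x, hx⟩ := AtlasCoh.hExact₁ (QCohLib.toAbF_shortExact hS) 0 y ((sub_sum hA 1 h₁).elim _ _)
  obtain ⟨z, rfl⟩ := hg0 x
  rw [← hx]
  show (Abelian.Ext.comp z (Abelian.Ext.mk₀ _) (add_zero 0)).comp (QCohLib.toAbF_shortExact hS).extClass rfl = 0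
  erw [Abelian.Ext.comp_assoc_of_second_deg_zero, (QCohLib.toAbF_shortExact hS).comp_extClass, Abelian.Ext.comp_zero]

end Seq

variable {k : Type u} [Field k] [IsAlgClosed k] {m : ℕ} {X : Scheme.{u}} {π : X ⟶ CohB1.ProjSpace (m + 1) k}

section Top

variable {s : ℕ} {P : Fin s → ↥(CohB1.ProjSpace (m + 1) k)}
  (hP : Function.Injective P) (hPc : ∀ i, IsClosed ({P i} : Set ↥(CohB1.ProjSpace (m + 1) k)))
  (hZ : IsClosed (Set.range P))
  (hπ : BlowUp.IsBlowUp π (Scheme.IdealSheafData.vanishingIdeal ⟨Set.range P, hZ⟩))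

include hP hPc hπ in
/-- All positive-degree cohomology of `π^*O(c)` for `c ≥ -m-1`. -/
theorem subsingleton_pO_top (hm : 1 ≤ m) (c : ℤ) (q : ℕ) (hq : 1 ≤ q) (hc : -(m : ℤ) - 1 ≤ c) :
    Subsingleton (Coh.HH X (pO π c) q) := by
  rcases le_or_gt q (m + 1) with h' | h'
  · exact subsingleton_pO hP hPc hZ hπ hm c q (by omega)
  · obtain ⟨C, hC, hlarge⟩ := exists_large hP hPc hZ hπ c
    obtain ⟨d, rfl⟩ : ∃ d : ℕ, c = C - d := ⟨(C - c).toNat, by omega⟩
    induction d with
    | zero => simpa using hlarge q hq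
    | succ d ih =>
      obtain ⟨T, hT, ⟨e₁⟩, ⟨e₂⟩, h₃⟩ := exists_hyp_seq hZ hπ (by omega) (C - (d : ℤ))
      obtain ⟨q, rfl⟩ : ∃ q', q = q' + 1 := ⟨q - 1, by omega⟩
      exact HdgLefLib.sub_iso (e₁ ≪≫ eqToIso (congrArg (pO π) (by push_cast; ring))) _
        (HodgePnLib.sub₁_succ hT (h₃ q (Or.inr (Or.inr (Or.inr ⟨by omega, by omega⟩))))
          (HdgLefLib.sub_iso e₂.symm _ (ih (by omega) (by omega))))

include hP hPc hπ in
/-- Raising the degree along the Koszul complex of the base. -/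
theorem raise_degree {G : X.Modules} (hG : FlatMod.IsFinLocFree G) (h0 : Subsingleton (Coh.HH X G 1))
    (hhigh : ∀ (x : ℤ) (j : ℕ), 1 ≤ j → j ≤ m + 1 → 0 ≤ x + j →
      Subsingleton (Coh.HH X (CohB1.tensorMod G (pO π x)) (j + 1))) :
    ∀ c : ℕ, Subsingleton (Coh.HH X (CohB1.tensorMod G (pO π c)) 1) := by
  intro c
  induction c using Nat.strong_induction_on with
  | _ c ih =>
    rcases Nat.eq_zero_or_pos c with rfl | hc
    · obtain ⟨w⟩ := nonempty_pb_twist_zero π
      exact HdgLefLib.sub_iso (congrRight _ (eqToIso (congrArg (pO π) Nat.cast_zero) ≪≫ w) ≪≫ swapIso _ _ ≪≫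
        unitLeft _).symm 1 h0
    · refine kosz_up π hG (c : ℤ) 1 fun j hj => ?_
      rcases Nat.eq_zero_or_pos j with rfl | hj'
      · refine HdgLefLib.sub_iso (eqToIso ?_) 1 (ih (c - 1) (by omega))
        rw [show ((c - 1 : ℕ) : ℤ) = (c : ℤ) - ((0 + 1 : ℕ) : ℤ) by omega]
        rfl
      · rw [Nat.add_comm 1 j]
        exact hhigh _ j hj' hj (by omega)

end Top

section One

variable {p : ↥(CohB1.ProjSpace (m + 1) k)} (hp : IsClosed ({p} : Set ↥(CohB1.ProjSpace (m + 1) k)))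
  (hπ : BlowUp.IsBlowUp π (Scheme.IdealSheafData.vanishingIdeal ⟨{p}, hp⟩))
  (φ : X ⟶ CohB1.ProjSpace m k) (hφ : Nonempty (pb φ (Twist.twistProjSpace m k 1) ≅ lnL hp π))

include hπ hφ in
/-- Cohomology in degree at least two. -/
theorem bd_high (hm : 1 ≤ m) (c : ℤ) (hc : -(m : ℤ) - 1 ≤ c) (d q : ℕ) (hq : 2 ≤ q) :
    Subsingleton (Coh.HH X (bd π φ c d) q) := by
  induction d with
  | zero =>
    obtain ⟨z⟩ := nonempty_bd_zero (π := π) φ c
    exact HdgLefLib.sub_iso (z.symm ≪≫ eqToIso (congrArg (bd π φ c) Nat.cast_zero.symm)) q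
      (subsingleton_pO_all hp hπ hm c q (by omega) hc)
  | succ d ih =>
    obtain ⟨T, hT, ⟨e₁⟩, ⟨e₂⟩, h₃⟩ := exists_bd_seq hp hπ φ hφ c d
    obtain ⟨q, rfl⟩ : ∃ q', q = q' + 1 := ⟨q - 1, by omega⟩
    exact HdgLefLib.sub_iso (e₁ ≪≫ eqToIso (congrArg (bd π φ c) (Nat.cast_succ d).symm)) _
      (HodgePnLib.sub₁_succ hT (h₃ q (PnCohLib.subsingleton_HH_twist _ q (fun x => by omega) (fun x => by omega)))
        (HdgLefLib.sub_iso e₂.symm _ ih))

end One

end BlowPtLib
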