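import Groth.Agent.BlowPtLib.Chart
import Groth.Agent.CIGenLib.Hyp
import Groth.Agent.CDivRatioLib.Basic

/-!
# The exceptional divisor over a rational point embeds in projective space
-/

set_option autoImplicit false
set_option linter.style.haveILetI false
set_option linter.unusedSectionVars false
set_option maxHeartbeats 2000000
set_option backward.isDefEq.respectTransparency false
set_option backward.isDefEq.respectTransparency.types false

universe u

open CategoryTheory CategoryTheory.Limits AlgebraicGeometry TopologicalSpace Opposite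
open AmpleLib AmpleThLib
open TwistLib (genSet)
open LichtLib (ideFn)

noncomputable section

namespace BlowPtLib

variable {P X : Scheme.{u}} {b : X ⟶ P} {𝓘 𝓙 : P.IdealSheafData} {k : Type u} [Field k] {m : ℕ}

theorem restrict_smul_ι {U : X.Opens} (M : X.Modules) {V : U.toScheme.Opens} (c : Γ((U : Scheme.{u}), V))
    (x : Γ(M.restrict U.ι, V)) :
    (show Γ(M, U.ι ''ᵁ V) from c • x) = (show Γ(X, U.ι ''ᵁ V) from c) • (show Γ(M, U.ι ''ᵁ V) from x) := by
  refine (congrArg (fun φ => φ x) (Scheme.Modules.smul_restrictAppIso_hom U.ι M V c)).trans ?_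
  rw [Scheme.Opens.ι_appIso]
  rfl

theorem res_restrict {U : X.Opens} (M : X.Modules) {V₁ V₂ : U.toScheme.Opens} (h : V₁ ≤ V₂)
    (x : Γ(M.restrict U.ι, V₂)) :
    AmpleLib.res (M.restrict U.ι) h x = AmpleLib.res M (U.ι.image_mono h) x := rfl

/-- The exceptional ideal of a point on a chart of the base agrees with that of the centre. -/
theorem comap_ideal_agree (U₀ : P.affineOpens) (hag : 𝓙.ideal U₀ = 𝓘.ideal U₀) (T : X.affineOpens)
    (hT : T.1 ≤ b ⁻¹ᵁ U₀.1) : (𝓙.comap b).ideal T = (𝓘.comap b).ideal T := by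
  rw [Groth.Agent.S4666.ideal_comap_eq 𝓙 b U₀ T hT, Groth.Agent.S4666.ideal_comap_eq 𝓘 b U₀ T hT, hag]

/-- A trick: membership in the adjoined algebra. -/
theorem exists_charts_family (hb : BlowUp.IsBlowUp b 𝓘) (U₀ : P.affineOpens) (hag : 𝓙.ideal U₀ = 𝓘.ideal U₀)
    (a : Fin (m + 1) → Γ(P, U₀.1)) (ha : Ideal.span (Set.range a) = 𝓙.ideal U₀) :
    ∃ (W : Fin (m + 1) → X.affineOpens) (hW : ∀ l, (W l).1 ≤ b ⁻¹ᵁ U₀.1),
      (b ⁻¹ᵁ U₀.1 ≤ ⨆ l, (W l).1) ∧
      (∀ l, (b.appLE U₀.1 (W l).1 (hW l)).hom (a l) ∈ nonZeroDivisors Γ(X, (W l).1)) ∧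
      (∀ l, (𝓙.comap b).ideal (W l) = Ideal.span {(b.appLE U₀.1 (W l).1 (hW l)).hom (a l)}) ∧
      (∀ (l : Fin (m + 1)) (T : X.affineOpens) (hT : T.1 ≤ b ⁻¹ᵁ U₀.1),
        (b.appLE U₀.1 T.1 hT).hom (a l) ∈ nonZeroDivisors Γ(X, T.1) →
        (𝓙.comap b).ideal T = Ideal.span {(b.appLE U₀.1 T.1 hT).hom (a l)} → T.1 ≤ (W l).1) ∧
      (∀ (l : Fin (m + 1)) (S : Subring Γ(X, (W l).1)), (∀ x, (b.appLE U₀.1 (W l).1 (hW l)).hom x ∈ S) →
        (∀ j, ∀ f, f * (b.appLE U₀.1 (W l).1 (hW l)).hom (a l) = (b.appLE U₀.1 (W l).1 (hW l)).hom (a j) → f ∈ S) →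
        S = ⊤) ∧
      (∀ (l : Fin (m + 1)) (x : Γ(P, U₀.1)) (e : ℕ),
        (b.appLE U₀.1 (W l).1 (hW l)).hom x ∈ Ideal.span {(b.appLE U₀.1 (W l).1 (hW l)).hom (a l)} ^ e →
        ∃ N, x * a l ^ N ∈ 𝓙.ideal U₀ ^ (e + N)) := by
  have hai : ∀ l, a l ∈ 𝓘.ideal U₀ := fun l => hag ▸ ha ▸ Ideal.subset_span ⟨l, rfl⟩
  choose W hW ξ hξ hξκ hnz hgen hmax using fun l => exists_chart_of_mem hb U₀ (a l) (hai l)
  refine ⟨W, hW, fun y hy => ?_, hnz, fun l => (comap_ideal_agree U₀ hag _ (hW l)).trans (hgen l),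
    fun l T hT h1 h2 => hmax l T hT h1 ((comap_ideal_agree U₀ hag T hT).symm.trans h2), fun l S hS hf => ?_,
    fun l x e hx => ?_⟩
  · obtain ⟨z, hz⟩ : b y ∈ Set.range U₀.2.fromSpec := U₀.2.range_fromSpec.symm ▸ hy
    obtain ⟨y', -, hy'⟩ := Scheme.Pullback.exists_preimage_pullback (f := U₀.2.fromSpec) (g := b) z y hz
    have hP : BlowUp.IsBlowUp (pullback.fst U₀.2.fromSpec b) (BlowUpLib.specIdeal (A := Γ(P, U₀.1)) (𝓘.ideal U₀)) :=
      BlowUpLib.comap_fromSpec 𝓘 U₀ ▸ BlowUpLib.isBlowUp_of_isPullback (IsPullback.of_hasPullback U₀.2.fromSpec b).flip hb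
    obtain ⟨_, ⟨l, rfl⟩, c, hc, ⟨q, hq⟩, hcb⟩ :=
      BlowUpLib.exists_chart_spec_of_span (𝓘.ideal U₀) (Set.range a) (ha.trans hag) hP y'
    let c' := c ≫ pullback.snd U₀.2.fromSpec b
    haveI : IsOpenImmersion c' := inferInstance
    have hc' : c' ≫ b = Spec.map (CommRingCat.ofHom (algebraMap Γ(P, U₀.1) _)) ≫ U₀.2.fromSpec := by
      simp only [c', Category.assoc]
      rw [← pullback.condition, reassoc_of% hcb]
    have hyc : y ∈ c'.opensRange := ⟨q, by rw [Scheme.Hom.comp_apply, hq, hy']⟩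
    refine Opens.mem_iSup.2 ⟨l, ?_⟩
    let T : X.affineOpens := ⟨c'.opensRange, isAffineOpen_opensRange c'⟩
    have hTU : T.1 ≤ b ⁻¹ᵁ U₀.1 := by
      rintro _ ⟨p, rfl⟩
      change (c' ≫ b) p ∈ U₀.1
      rw [hc']
      exact U₀.2.range_fromSpec.subset ⟨_, rfl⟩
    let C := BlowUp.affineAlgebra Γ(P, U₀.1) (𝓘.ideal U₀) (a l)
    let η : Γ(X, T.1) →+* C :=
      ((Scheme.ΓSpecIso (CommRingCat.of C)).hom.hom).comp (c'.appLE T.1 ⊤ (by rw [Scheme.Hom.preimage_opensRange])).hom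
    have hη : Function.Bijective η := by
      have : IsIso (c'.appLE T.1 ⊤ (by rw [Scheme.Hom.preimage_opensRange])) := by
        rw [Scheme.Hom.appLE]
        have h1 : IsIso (c'.app T.1) := c'.isIso_app T.1 le_rfl
        have h2 : IsIso ((Spec (CommRingCat.of C)).presheaf.map
            (homOfLE (show (⊤ : (Spec (CommRingCat.of C)).Opens) ≤ c' ⁻¹ᵁ T.1 by rw [Scheme.Hom.preimage_opensRange])).op) := by
          have : IsIso (homOfLE (show (⊤ : (Spec (CommRingCat.of C)).Opens) ≤ c' ⁻¹ᵁ T.1 by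
              rw [Scheme.Hom.preimage_opensRange])) := ⟨homOfLE le_top, rfl, rfl⟩
          infer_instance
        infer_instance
      exact ((ConcreteCategory.bijective_of_isIso (Scheme.ΓSpecIso (CommRingCat.of C)).hom).comp
        (ConcreteCategory.bijective_of_isIso (c'.appLE T.1 ⊤ _)))
    have hηκ : ∀ x : Γ(P, U₀.1), η ((b.appLE U₀.1 T.1 hTU).hom x) = algebraMap Γ(P, U₀.1) C x := by
      intro x
      show (Scheme.ΓSpecIso (CommRingCat.of C)).hom.hom _ = _
      rw [← CommRingCat.comp_apply (b.appLE U₀.1 T.1 hTU), Scheme.Hom.appLE_comp_appLE]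
      simp only [hc']
      have h2 : (Spec.map (CommRingCat.ofHom (algebraMap Γ(P, U₀.1) C)) ≫ U₀.2.fromSpec).appLE U₀.1 ⊤
          (by rw [Scheme.Hom.comp_preimage, U₀.2.fromSpec_preimage_self]; rfl) ≫ (Scheme.ΓSpecIso (CommRingCat.of C)).hom =
          CommRingCat.ofHom (algebraMap Γ(P, U₀.1) C) := by
        rw [Scheme.Hom.appLE, Scheme.Hom.comp_app, U₀.2.fromSpec_app_self]
        simp
        rw [← Functor.map_comp_assoc]
        erw [Subsingleton.elim (_ ≫ _ : (op (⊤ : (Spec (CommRingCat.of C)).Opens)) ⟶ op ⊤) (𝟙 _)]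
        erw [CategoryTheory.Functor.map_id, Category.id_comp]
        erw [Scheme.ΓSpecIso_naturality]
        exact Iso.inv_hom_id_assoc _ _
      exact DFunLike.congr_fun (congrArg CommRingCat.Hom.hom h2) x
    have hch := BlowUpLib.isChart_affineAlgebra (hai l)
    refine hmax l T hTU ?_ ?_ hyc
    · refine mem_nonZeroDivisors_iff_right.mpr fun z hz => hη.1 ?_
      have h1 := congrArg η hz
      rw [map_mul, map_zero, hηκ] at h1
      rw [map_zero]
      exact mem_nonZeroDivisors_iff_right.mp hch.nzd _ h1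
    · rw [Groth.Agent.S4666.ideal_comap_eq 𝓘 b U₀ T hTU]
      have h0 : η.comp (b.appLE U₀.1 T.1 hTU).hom = algebraMap Γ(P, U₀.1) C := RingHom.ext hηκ
      have h1 : ((𝓘.ideal U₀).map (b.appLE U₀.1 T.1 hTU).hom).map η =
          (Ideal.span {(b.appLE U₀.1 T.1 hTU).hom (a l)}).map η := by
        rw [Ideal.map_map, h0, hch.span, Ideal.map_span, Set.image_singleton, hηκ]
      have h2 := congrArg (Ideal.comap η) h1
      rwa [Ideal.comap_map_of_bijective η hη, Ideal.comap_map_of_bijective η hη] at h2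
  · refine eq_top_iff.2 fun z _ => ?_
    let C := BlowUp.affineAlgebra Γ(P, U₀.1) (𝓘.ideal U₀) (a l)
    let S' : Subring C := S.map (ξ l)
    have key : ∀ w : C, w ∈ S' := by
      intro w
      obtain ⟨w, hw⟩ := w
      induction hw using Algebra.adjoin_induction with
      | mem q hq =>
        obtain ⟨x, hx, rfl⟩ := hq
        rw [← hag, ← ha] at hx
        obtain ⟨e, rfl⟩ := Ideal.mem_span_range_iff_exists_fun.1 hx
        let g : Fin (m + 1) → C := fun j => ⟨IsLocalization.mk' (Localization.Away (a l)) (a j)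
          ⟨a l, Submonoid.mem_powers _⟩, Algebra.subset_adjoin ⟨a j, hai j, rfl⟩⟩
        have hg : ∀ j, g j ∈ S' := fun j => by
          obtain ⟨f, hf'⟩ := (hξ l).2 (g j)
          refine ⟨f, hf j f ((hξ l).1 ?_), hf'⟩
          rw [map_mul, hξκ, hξκ, hf']
          exact Subtype.ext (IsLocalization.mk'_spec _ _ _)
        convert sum_mem (fun j (_ : j ∈ Finset.univ) => mul_mem (show algebraMap Γ(P, U₀.1) C (e j) ∈ S' from
          ⟨_, hS (e j), hξκ l (e j)⟩) (hg j)) using 1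
        refine Subtype.ext ?_
        rw [AddSubmonoidClass.coe_finsetSum]
        refine (IsLocalization.mk'_eq_iff_eq_mul).2 ?_
        rw [map_sum, Finset.sum_mul]
        refine Finset.sum_congr rfl fun j _ => ?_
        show algebraMap _ (Localization.Away (a l)) (e j * a j) = _ * _ * _
        rw [map_mul, mul_assoc]
        congr 1
        exact (IsLocalization.mk'_spec _ _ _).symm
      | algebraMap r => exact ⟨_, hS r, hξκ l r⟩
      | add x y hx hy ihx ihy => exact add_mem ihx ihy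
      | mul x y hx hy ihx ihy => exact mul_mem ihx ihy
    obtain ⟨z', hz', he⟩ := key (ξ l z)
    rwa [← (hξ l).1 he]
  · rw [Ideal.span_singleton_pow, Ideal.mem_span_singleton] at hx
    obtain ⟨c, hc⟩ := hx
    have h1 := congrArg (fun z => ((ξ l z : BlowUp.affineAlgebra Γ(P, U₀.1) (𝓘.ideal U₀) (a l)) :
      Localization.Away (a l))) hc
    simp only [map_mul, map_pow, hξκ] at h1
    obtain ⟨M, y, hy, he⟩ := BlowUpLib.exists_frac_of_mem (hai l) (ξ l c).2
    have h2 : algebraMap Γ(P, U₀.1) (Localization.Away (a l)) (x * a l ^ M) =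
        algebraMap Γ(P, U₀.1) (Localization.Away (a l)) (a l ^ e * y) := by
      rw [map_mul, map_mul, map_pow, map_pow, ← he, ← mul_assoc]
      exact congrArg (· * _) h1
    obtain ⟨⟨_, N, rfl⟩, hN⟩ := (IsLocalization.eq_iff_exists (Submonoid.powers (a l)) _).1 h2
    refine ⟨M + N, ?_⟩
    rw [show x * a l ^ (M + N) = a l ^ N * (x * a l ^ M) by ring]
    erw [hN]
    rw [show e + (M + N) = N + (e + M) by omega, pow_add, pow_add]
    have hal : a l ∈ 𝓙.ideal U₀ := ha ▸ Ideal.subset_span ⟨l, rfl⟩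
    exact Ideal.mul_mem_mul (Ideal.pow_mem_pow hal N) (Ideal.mul_mem_mul (Ideal.pow_mem_pow hal e) (hag.symm ▸ hy))

/-- **The exceptional divisor over a rational point embeds in projective space.** -/
theorem exists_embedding (hb : BlowUp.IsBlowUp b 𝓘) (q : P ⟶ Spec (CommRingCat.of k)) (U₀ : P.affineOpens)
    (hag : 𝓙.ideal U₀ = 𝓘.ideal U₀) (hsupp : ∀ x, x ∈ 𝓙.support → x ∈ U₀.1)
    (a : Fin (m + 1) → Γ(P, U₀.1)) (ha : Ideal.span (Set.range a) = 𝓙.ideal U₀)
    (hres : ∀ x : Γ(P, U₀.1), ∃ c : k,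
      x - P.presheaf.map (homOfLE (le_top : U₀.1 ≤ ⊤)).op (ProjUP.toGlobal q c) ∈ 𝓙.ideal U₀)
    (hq : ∀ (d : ℕ) (F : MvPolynomial (Fin (m + 1)) k), F.IsHomogeneous d →
      MvPolynomial.eval₂ ((P.presheaf.map (homOfLE (le_top : U₀.1 ≤ ⊤)).op).hom.comp (ProjUP.toGlobal q)) a F ∈
        𝓙.ideal U₀ ^ (d + 1) → F = 0) :
    ∃ φ : (𝓙.comap b).subscheme ⟶ CohB1.ProjSpace m k, IsIso φ ∧
      φ ≫ CohB1.ProjSpace.toSpec m k = (𝓙.comap b).subschemeι ≫ b ≫ q ∧
      Nonempty ((Scheme.Modules.pullback φ).obj (Twist.twistProjSpace m k 1) ≅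
        (Scheme.Modules.pullback (𝓙.comap b).subschemeι).obj (ClSub.idealMod (𝓙.comap b))) := by
  obtain ⟨W, hW, hcov, hnz, hgen, hmax, htop, hflat⟩ := exists_charts_family hb U₀ hag a ha
  let J := 𝓙.comap b
  let O : X.Opens := b ⁻¹ᵁ U₀.1
  have hcart : BlowUp.IsEffCartierIdeal J := fun x => by
    by_cases hx : x ∈ O
    · obtain ⟨l, hl⟩ := Opens.mem_iSup.1 (hcov hx)
      exact ⟨W l, hl, _, hnz l, hgen l⟩
    · obtain ⟨V, hV, hxV, hVs⟩ := exists_isAffineOpen_mem_and_subset (x := x) (U := J.support.compl)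
        (fun h => hx (hsupp _ ((Scheme.IdealSheafData.support_comap 𝓙 b).le h)))
      refine ⟨⟨V, hV⟩, hxV, 1, one_mem _, ?_⟩
      rw [Ideal.span_singleton_one]
      exact CDivRatioLib.ideal_eq_top J ⟨V, hV⟩ fun y hy h => hVs hy h
  have hL : PicF.IsInvertible (ClSub.idealMod J) := IntMultLib.isInvertible_idealMod J hcart
  have hLO := AmpleThLib.restrict_isInvertible hL O.ι
  choose t ht using fun l => LichtLib.exists_ideFn J O ((b.app U₀.1).hom (a l)) fun T hT => by
    rw [Groth.Agent.S4666.ideal_comap_eq 𝓙 b U₀ T hT]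
    exact Ideal.mem_map_of_mem _ (ha ▸ Ideal.subset_span ⟨l, rfl⟩)
  let σ : Fin (m + 1) → Γ((ClSub.idealMod J).restrict O.ι, ⊤) := fun l =>
    AmpleLib.res (ClSub.idealMod J) (O.ι_image_top.le : O.ι ''ᵁ ⊤ ≤ O) (t l)
  have hσ : ∀ l, genSet hLO (σ l) = O.ι ⁻¹ᵁ (W l).1 := fun l => by
    have hWl : GenOn (ClSub.idealMod J) (AmpleLib.res _ (hW l) (t l)) := by
      refine LichtLib.genOn_of_prinPiece J ⟨W l, _, hnz l, hgen l⟩ (hW l) (t l) ?_
      rw [ht]
      rfl
    ext z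
    have e1 : z ∈ genSet hLO (σ l) ↔ GenAt (ClSub.idealMod J) (t l) z.2 :=
      (MiscFlat6.genAt_restrict_iff hL O.ι _ z).trans (genAt_res _ (t l) _)
    refine ⟨fun hz => ?_, fun hz => e1.2 ((genAt_res (hW l) (t l) hz).1 (hWl.genAt hz))⟩
    let O' : X.Opens := O.ι ''ᵁ genSet hLO (σ l)
    obtain ⟨T, hT, hzT, hTO⟩ := exists_isAffineOpen_mem_and_subset (x := z.1) (U := O') ⟨z, hz, rfl⟩
    have hTU : T ≤ O := hTO.trans (O.ι_image_le _)
    have hg : GenOn (ClSub.idealMod J) (AmpleLib.res _ hTU (t l)) := TwistLib.genOn_of_genAt fun y hy => by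
      obtain ⟨y', hy', rfl⟩ := hTO hy
      exact (genAt_res hTU (t l) hy).2 (((MiscFlat6.genAt_restrict_iff hL O.ι _ y').trans (genAt_res _ (t l) _)).1 hy')
    obtain ⟨h1, h2⟩ := LichtLib.exists_prinPiece_of_genOn J ⟨T, hT⟩ _ hg
    rw [LichtLib.ideFn_res, ht] at h1 h2
    exact hmax l ⟨T, hT⟩ hTU h1 h2 hzT
  obtain ⟨r, hr, hpre, hfrac, ⟨er⟩⟩ := GenusZeroLib.exists_toPA_iso (O.ι ≫ b ≫ q) hLO σ fun y => by
    obtain ⟨l, hl⟩ := Opens.mem_iSup.1 (hcov y.2)
    exact ⟨l, (hσ l).ge hl⟩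
  have hrange : Set.range J.subschemeι ⊆ Set.range O.ι := by
    rw [Scheme.IdealSheafData.range_subschemeι, Scheme.Opens.range_ι]
    exact fun x hx => hsupp _ ((Scheme.IdealSheafData.support_comap 𝓙 b).le hx)
  let g : J.subscheme ⟶ O := IsOpenImmersion.lift O.ι J.subschemeι hrange
  have hg : g ≫ O.ι = J.subschemeι := IsOpenImmersion.lift_fac _ _ _
  refine ⟨g ≫ r, ?_, ?_, ?_⟩
  · let D : Fin (m + 1) → (CohB1.ProjSpace m k).Opens := fun l => QCohLib.stdOpen m k l
    refine (IsZariskiLocalAtTarget.iff_of_iSup_eq_top (P := MorphismProperty.isomorphisms Scheme.{u}) D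
      (QCohLib.iSup_stdOpen m k)).2 fun l => ?_
    have hpre' : (g ≫ r) ⁻¹ᵁ D l = J.subschemeι ⁻¹ᵁ (W l).1 := by
      rw [Scheme.Hom.comp_preimage]
      rw [show r ⁻¹ᵁ D l = O.ι ⁻¹ᵁ (W l).1 from (hpre l).trans (hσ l), ← Scheme.Hom.comp_preimage, hg]
    haveI : IsAffine ((D l : (CohB1.ProjSpace m k).Opens) : Scheme.{u}) := CIGen.chart_affine l
    have hAff : IsAffineOpen ((g ≫ r) ⁻¹ᵁ D l) := hpre' ▸ (W l).2.preimage J.subschemeι
    haveI : IsAffine ((g ≫ r) ⁻¹ᵁ D l : J.subscheme.Opens).toScheme := hAff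
    suffices hs : Function.Surjective ((g ≫ r).app (D l)) ∧ Function.Injective ((g ≫ r).app (D l)) by
      have hs' : ∀ V, V = D l → IsIso ((g ≫ r).app V) := fun V h =>
        h ▸ (ConcreteCategory.isIso_iff_bijective _).2 ⟨hs.2, hs.1⟩
      rw [MorphismProperty.arrow_mk_iso_iff (MorphismProperty.isomorphisms Scheme.{u})
        (arrowIsoSpecΓOfIsAffine _)]
      haveI : IsIso (((g ≫ r) ∣_ D l).appTop) := by
        rw [morphismRestrict_appTop]
        haveI := hs' _ (Scheme.Opens.ι_image_top (D l))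
        infer_instance
      show IsIso (Spec.map _)
      infer_instance
    let θ := J.subschemeι.appLE (W l).1 ((g ≫ r) ⁻¹ᵁ D l) hpre'.le
    have hθ : Function.Surjective θ := by
      have h1 : Function.Surjective (J.subschemeι.app (W l).1) := J.subschemeι.app_surjective (W l).1 (W l).2
      intro z
      obtain ⟨w, hw⟩ := h1 (J.subscheme.presheaf.map (eqToHom (congrArg op hpre')) z)
      refine ⟨w, ?_⟩
      simp only [θ, Scheme.Hom.appLE, CommRingCat.comp_apply]
      rw [hw, ← CommRingCat.comp_apply, ← Functor.map_comp, Subsingleton.elim (_ ≫ _) (𝟙 _), J.subscheme.presheaf.map_id]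
      rfl
    let S : Subring Γ(X, (W l).1) := (RingHom.range ((g ≫ r).app (D l)).hom).comap θ.hom
    have hrW : r ⁻¹ᵁ D l = O.ι ⁻¹ᵁ (W l).1 := (hpre l).trans (hσ l)
    have hVle : O.ι ''ᵁ (r ⁻¹ᵁ D l) ≤ (W l).1 := fun x hx => by
      obtain ⟨z, hz, rfl⟩ := hx
      exact hrW.le hz
    have hVge : (W l).1 ≤ O.ι ''ᵁ (r ⁻¹ᵁ D l) := fun x hx => ⟨⟨x, hW l hx⟩, hrW.ge hx, rfl⟩
    have hval : ∀ z : Γ(CohB1.ProjSpace m k, D l),
        θ (X.presheaf.map (homOfLE hVge).op ((r.app (D l)).hom z)) = ((g ≫ r).app (D l)).hom z := fun z => by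
      have h1 : θ (X.presheaf.map (homOfLE hVge).op ((r.app (D l)).hom z)) =
          ((r.app (D l)) ≫ X.presheaf.map (homOfLE hVge).op ≫ J.subschemeι.appLE (W l).1 _ hpre'.le).hom z := rfl
      rw [h1, Scheme.Hom.map_appLE]
      have h2 : J.subschemeι.appLE (O.ι ''ᵁ (r ⁻¹ᵁ D l)) ((g ≫ r) ⁻¹ᵁ D l)
          (hpre'.le.trans (Scheme.Hom.preimage_mono J.subschemeι hVge)) = g.app (r ⁻¹ᵁ D l) := by
        simp only [← hg]
        rw [← Scheme.Hom.appLE_comp_appLE g O.ι _ (r ⁻¹ᵁ D l) _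
          (by rw [O.ι.preimage_image_eq]) (by rw [Scheme.Hom.comp_preimage])]
        rw [Scheme.Opens.ι_appLE, Scheme.Hom.app_eq_appLE, Subsingleton.elim (homOfLE _).op (𝟙 _)]
        erw [CategoryTheory.Functor.map_id, Category.id_comp]
        rfl
      rw [h2, Scheme.Hom.comp_app]
    have hJW : ∀ z ∈ (𝓙.comap b).ideal (W l), θ z = 0 := fun z hz => by
      have := (GenFlatStrat.subschemeι_app_eq_zero_iff J (W l) z).mpr hz
      simp only [θ, Scheme.Hom.appLE, CommRingCat.comp_apply]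
      rw [show (J.subschemeι.app (W l).1).hom z = 0 from this, map_zero]
    let Φ : MvPolynomial (Fin (m + 1)) k →+* Γ(X, (W l).1) :=
      ((X.presheaf.map (homOfLE hVge).op).hom.comp (r.app (D l)).hom).comp (GradedCechLib.deh m k l)
    let κ := (b.appLE U₀.1 (W l).1 (hW l)).hom
    let γ : k →+* Γ(P, U₀.1) := (P.presheaf.map (homOfLE (le_top : U₀.1 ≤ ⊤)).op).hom.comp (ProjUP.toGlobal q)
    have hΦC : ∀ c : k, Φ (MvPolynomial.C c) = κ (γ c) := fun c => by
      refine (congrArg (fun z => X.presheaf.map (homOfLE hVge).op ((r.app (D l)).hom z)) (GradedCechLib.deh_C m k l c)).trans ?_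
      have h3 : r ≫ CohB1.ProjSpace.toSpec m k = O.ι ≫ b ≫ q := hr
      let s := (Scheme.ΓSpecIso (CommRingCat.of k)).inv c
      show ((CohB1.ProjSpace.toSpec m k).app ⊤ ≫ (CohB1.ProjSpace m k).presheaf.map (homOfLE le_top).op ≫ r.app (D l) ≫
          X.presheaf.map (homOfLE hVge).op).hom s =
        (q.app ⊤ ≫ P.presheaf.map (homOfLE le_top).op ≫ b.appLE U₀.1 (W l).1 (hW l)).hom s
      refine DFunLike.congr_fun (congrArg CommRingCat.Hom.hom ?_) s
      have A : (CohB1.ProjSpace.toSpec m k).app ⊤ ≫ (CohB1.ProjSpace m k).presheaf.map (homOfLE le_top).op ≫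
          r.app (D l) = (r ≫ CohB1.ProjSpace.toSpec m k).appLE ⊤ (r ⁻¹ᵁ D l) le_top := by
        rw [← Scheme.Hom.appLE_comp_appLE r (CohB1.ProjSpace.toSpec m k) ⊤ (D l) (r ⁻¹ᵁ D l) le_top le_rfl,
          ← Scheme.Hom.app_eq_appLE]
        simp [Scheme.Hom.appLE]
      have B : q.app ⊤ ≫ P.presheaf.map (homOfLE le_top).op ≫ b.appLE U₀.1 (W l).1 (hW l) =
          (b ≫ q).appLE ⊤ (W l).1 le_top := by
        rw [← Scheme.Hom.appLE_comp_appLE b q ⊤ U₀.1 (W l).1 le_top (hW l)]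
        simp [Scheme.Hom.appLE]
      rw [reassoc_of% A, B]
      simp only [h3]
      rw [← Scheme.Hom.appLE_comp_appLE O.ι (b ≫ q) ⊤ ⊤ (r ⁻¹ᵁ D l) le_top le_top, Scheme.Opens.ι_appLE]
      simp only [Scheme.Hom.appLE, Category.assoc, ← Functor.map_comp]
      rfl
    have hΦX : ∀ j, Φ (MvPolynomial.X j) * κ (a l) = κ (a j) := fun j => by
      let F : Γ(X, (W l).1) := X.presheaf.map (homOfLE hVge).op ((r.app (D l)).hom
        (Proj.awayToSection (CohB1.polyGrading m k) (MvPolynomial.X l)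
          (TwistLib.frac (CohB1.polyGrading m k) (MvPolynomial.isHomogeneous_X k l) (MvPolynomial.isHomogeneous_X k j))))
      have hF : Φ (MvPolynomial.X j) = F := by
        show X.presheaf.map (homOfLE hVge).op ((r.app (D l)).hom (GradedCechLib.toSec m k l (GradedCechLib.deh₀ m k l _))) = F
        rw [GradedCechLib.deh₀_X]
        rfl
      rw [hF]
      have h1 := congrArg (fun s => ideFn J (AmpleLib.res (ClSub.idealMod J) hVge s)) (hfrac l j)
      have h2 : ∀ i, ideFn J (AmpleLib.res (ClSub.idealMod J) hVge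
          (AmpleLib.res (ClSub.idealMod J) ((O.ι_image_le (r ⁻¹ᵁ D l)) : O.ι ''ᵁ (r ⁻¹ᵁ D l) ≤ O) (t i))) =
          (b.appLE U₀.1 (W l).1 (hW l)).hom (a i) := fun i => by
        rw [AmpleLib.res_res, LichtLib.ideFn_res, ht]
        rfl
      have h3 : ideFn J (AmpleLib.res (ClSub.idealMod J) hVge ((show Γ(X, O.ι ''ᵁ (r ⁻¹ᵁ D l)) from (r.app (D l)).hom
        (Proj.awayToSection (CohB1.polyGrading m k) (MvPolynomial.X l)
          (TwistLib.frac (CohB1.polyGrading m k) (MvPolynomial.isHomogeneous_X k l) (MvPolynomial.isHomogeneous_X k j)))) •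
          AmpleLib.res (ClSub.idealMod J) ((O.ι_image_le (r ⁻¹ᵁ D l)) : O.ι ''ᵁ (r ⁻¹ᵁ D l) ≤ O) (t l))) =
          ideFn J (AmpleLib.res (ClSub.idealMod J) hVge
            (AmpleLib.res (ClSub.idealMod J) ((O.ι_image_le (r ⁻¹ᵁ D l)) : O.ι ''ᵁ (r ⁻¹ᵁ D l) ≤ O) (t j))) := by
        refine Eq.trans ?_ (h1.trans ?_)
        · simp only [σ, res_restrict, AmpleLib.res_res]
          exact congrArg (fun s => ideFn J (AmpleLib.res (ClSub.idealMod J) hVge s))
            (restrict_smul_ι (ClSub.idealMod J) _ _).symm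
        · simp only [σ, res_restrict, AmpleLib.res_res]
      rw [AmpleLib.res_smul, LichtLib.ideFn_smul, h2, h2] at h3
      exact h3
    have hΦF : ∀ (d : ℕ) (F : MvPolynomial (Fin (m + 1)) k), F.IsHomogeneous d →
        Φ F * κ (a l) ^ d = κ (MvPolynomial.eval₂ γ a F) := fun d F hF => by
      rw [F.as_sum, map_sum, MvPolynomial.eval₂_sum, map_sum, Finset.sum_mul]
      refine Finset.sum_congr rfl fun e he => ?_
      have hdeg : e.degree = d := by
        by_contra hne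
        exact MvPolynomial.mem_support_iff.1 he (hF.coeff_eq_zero hne)
      rw [MvPolynomial.eval₂_monomial, MvPolynomial.monomial_eq, map_mul, map_mul, hΦC, ← hdeg, mul_assoc]
      congr 1
      simp only [Finsupp.prod, map_prod, map_pow]
      rw [show e.degree = ∑ i ∈ e.support, e i from rfl, ← Finset.prod_pow_eq_pow_sum, ← Finset.prod_mul_distrib]
      simp only [← mul_pow, hΦX]
    constructor
    · have hS : S = ⊤ := htop l S (fun x => ?_) fun j f hf => ?_
      · intro z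
        obtain ⟨w, rfl⟩ := hθ z
        exact (show w ∈ S from hS ▸ trivial)
      · obtain ⟨c, hc⟩ := hres x
        have h1 := Ideal.mem_map_of_mem κ hc
        rw [← Groth.Agent.S4666.ideal_comap_eq 𝓙 b U₀ (W l) (hW l)] at h1
        have h2 := hJW _ h1
        rw [map_sub, map_sub, sub_eq_zero] at h2
        exact ⟨GradedCechLib.deh m k l (MvPolynomial.C c),
          (hval _).symm.trans ((congrArg θ (hΦC c)).trans h2.symm)⟩
      · exact ⟨GradedCechLib.deh m k l (MvPolynomial.X j), (hval _).symm.trans (congrArg θ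
          ((mul_cancel_right_mem_nonZeroDivisors (hnz l)).1 ((hΦX j).trans hf.symm)))⟩
    · refine (injective_iff_map_eq_zero _).2 fun z hz => ?_
      obtain ⟨d, F, hF, hFz⟩ := HomogeneousLocalization.Away.mk_surjective (CohB1.polyGrading m k)
        (GradedCechLib.X_mem m k l) ((Function.surjInv (GradedCechLib.toSec_bijective m k l).2) z)
      have hF' : F.IsHomogeneous d :=
        (MvPolynomial.mem_homogeneousSubmodule _ _).1 (by rwa [smul_eq_mul, mul_one] at hF)
      have hdF : GradedCechLib.deh m k l F = z := by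
        refine (congrArg (GradedCechLib.toSec m k l) (?_ : GradedCechLib.deh₀ m k l F = _)).trans
          (Function.surjInv_eq (GradedCechLib.toSec_bijective m k l).2 z)
        rw [← hFz]
        refine HomogeneousLocalization.val_injective _ ?_
        rw [GradedCechLib.val_deh₀_homogeneous m k l F d hF', HomogeneousLocalization.Away.val_mk]
        rfl
      have hG : Φ F ∈ J.ideal (W l) := by
        refine (GenFlatStrat.subschemeι_app_eq_zero_iff J (W l) _).mp ?_
        have hθ0 : θ (Φ F) = 0 := by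
          refine (hval _).trans ?_
          erw [hdF]
          exact hz
        refine (ConcreteCategory.bijective_of_isIso
          (J.subscheme.presheaf.map (eqToHom hpre').op)).1 ?_
        rw [map_zero]
        exact hθ0
      have hG' : Φ F ∈ Ideal.span {κ (a l)} := (hgen l).le hG
      have hp : κ (a l) ^ d ∈ Ideal.span {κ (a l)} ^ d :=
        Ideal.pow_mem_pow (Ideal.mem_span_singleton_self (κ (a l))) d
      have hx : κ (MvPolynomial.eval₂ γ a F) ∈ Ideal.span {κ (a l)} ^ (d + 1) :=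
        (hΦF d F hF') ▸ (pow_succ' (Ideal.span {κ (a l)}) d) ▸ Ideal.mul_mem_mul hG' hp
      obtain ⟨N, hN⟩ := hflat l (MvPolynomial.eval₂ γ a F) (d + 1) hx
      have hev : MvPolynomial.eval₂ γ a (F * MvPolynomial.X l ^ N) = MvPolynomial.eval₂ γ a F * a l ^ N := by
        rw [MvPolynomial.eval₂_mul, MvPolynomial.eval₂_pow, MvPolynomial.eval₂_X]
      have h0 := hq (d + N) (F * MvPolynomial.X l ^ N) (hF'.mul (MvPolynomial.isHomogeneous_X_pow l N))
        (hev.symm ▸ (show d + 1 + N = d + N + 1 by omega) ▸ hN)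
      rw [← hdF, (mul_eq_zero.1 h0).resolve_right (pow_ne_zero _ (MvPolynomial.X_ne_zero l)), map_zero]
  · rw [Category.assoc, ← reassoc_of% hg]
    exact congrArg (g ≫ ·) hr
  · refine ⟨((Scheme.Modules.pullbackComp g r).app _).symm ≪≫ (Scheme.Modules.pullback g).mapIso ?_ ≪≫
      (Scheme.Modules.pullback g).mapIso ((Scheme.Modules.restrictFunctorIsoPullback O.ι).app _) ≪≫
      (Scheme.Modules.pullbackComp g O.ι).app _ ≪≫ (Scheme.Modules.pullbackCongr hg).app _⟩
    refine eqToIso ?_ ≪≫ er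
    rw [Nat.cast_one]; rfl

end BlowPtLib
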