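import Groth.Agent.BlowPtLib.Proj
import Groth.Agent.BlowPtLib.Koszul

/-!
# Cohomology of all line bundles on the blow-up of projective space at one point
-/

set_option autoImplicit false
set_option linter.style.haveILetI false
set_option linter.unusedSectionVars false
set_option maxHeartbeats 1000000
set_option backward.isDefEq.respectTransparency false
set_option backward.isDefEq.respectTransparency.types false

universe u

open CategoryTheory CategoryTheory.Limits AlgebraicGeometry TopologicalSpace Opposite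
open HilbPolyLib (congrLeft congrRight assocIso swapIso unitLeft leftComm)
open KFlatLib (pb)

noncomputable section

namespace BlowPtLib

/-- Two families behaving like powers and agreeing at one agree everywhere. -/
theorem nonempty_pow_family {X : Scheme.{u}} (A B : ℤ → X.Modules)
    (hA : ∀ a b, Nonempty (CohB1.tensorMod (A a) (A b) ≅ A (a + b))) (hA0 : Nonempty (A 0 ≅ Coh.structureModule X))
    (hB : ∀ a b, Nonempty (CohB1.tensorMod (B a) (B b) ≅ B (a + b))) (hB0 : Nonempty (B 0 ≅ Coh.structureModule X))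
    (h1 : Nonempty (A 1 ≅ B 1)) (e : ℤ) : Nonempty (A e ≅ B e) := by
  obtain ⟨z⟩ := hA0
  obtain ⟨w⟩ := hB0
  obtain ⟨f⟩ := h1
  have hn : ∀ j : ℕ, Nonempty (A j ≅ B j) := by
    intro j
    induction j with
    | zero => exact ⟨z ≪≫ w.symm⟩
    | succ j ih =>
      obtain ⟨g⟩ := ih
      obtain ⟨a⟩ := hA j 1
      obtain ⟨b⟩ := hB j 1
      exact ⟨a.symm ≪≫ congrLeft g _ ≪≫ congrRight _ f ≪≫ b⟩
  rcases Int.eq_nat_or_neg e with ⟨j, rfl | rfl⟩
  · exact hn j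
  · obtain ⟨g⟩ := hn j
    obtain ⟨a⟩ := hA (-(j : ℤ)) j
    obtain ⟨b⟩ := hB j (-(j : ℤ))
    exact ⟨(unitLeft _).symm ≪≫ swapIso _ _ ≪≫
      congrRight _ (w.symm ≪≫ eqToIso (congrArg B (add_neg_cancel (j : ℤ)).symm) ≪≫ b.symm) ≪≫
      (assocIso _ _ _).symm ≪≫
      congrLeft (congrRight _ g.symm ≪≫ a ≪≫ eqToIso (congrArg A (neg_add_cancel (j : ℤ))) ≪≫ z) _ ≪≫ unitLeft _⟩

/-- Pullbacks of twists multiply. -/
theorem nonempty_pb_twist_add {Z : Scheme.{u}} {k : Type u} [Field k] {n : ℕ} (g : Z ⟶ CohB1.ProjSpace n k) (a b : ℤ) :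
    Nonempty (CohB1.tensorMod (pb g (Twist.twistProjSpace n k a)) (pb g (Twist.twistProjSpace n k b)) ≅
      pb g (Twist.twistProjSpace n k (a + b))) := by
  obtain ⟨p⟩ := nonempty_pb_tensor g (Twist.twistProjSpace n k a) (Twist.twistProjSpace n k b)
  obtain ⟨e⟩ := PicPnLib.twist_add n k a b
  exact ⟨p.symm ≪≫ (Scheme.Modules.pullback g).mapIso e⟩

theorem nonempty_pb_twist_zero {Z : Scheme.{u}} {k : Type u} [Field k] {n : ℕ} (g : Z ⟶ CohB1.ProjSpace n k) :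
    Nonempty (pb g (Twist.twistProjSpace n k 0) ≅ Coh.structureModule Z) := by
  obtain ⟨z⟩ := PicPnLib.twist_zero n k
  exact ⟨(Scheme.Modules.pullback g).mapIso z ≪≫ KFlatLib.pullUnitIso g⟩

variable {k : Type u} [Field k] [IsAlgClosed k] {m : ℕ} {p : ↥(CohB1.ProjSpace (m + 1) k)}
  (hp : IsClosed ({p} : Set ↥(CohB1.ProjSpace (m + 1) k))) {X : Scheme.{u}}
  {π : X ⟶ CohB1.ProjSpace (m + 1) k}
  (hπ : BlowUp.IsBlowUp π (Scheme.IdealSheafData.vanishingIdeal ⟨{p}, hp⟩))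
  (φ : X ⟶ CohB1.ProjSpace m k) (hφ : Nonempty (pb φ (Twist.twistProjSpace m k 1) ≅ lnL hp π))

include hp in
theorem isClosed_range_const : IsClosed (Set.range fun _ : Fin 1 => p) := by
  rw [Set.range_const]; exact hp

include hπ in
theorem isBlowUp_const : BlowUp.IsBlowUp π (Scheme.IdealSheafData.vanishingIdeal
    ⟨Set.range fun _ : Fin 1 => p, isClosed_range_const hp⟩) := by
  have e : (⟨Set.range fun _ : Fin 1 => p, isClosed_range_const hp⟩ : Closeds (CohB1.ProjSpace (m + 1) k)) =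
      ⟨{p}, hp⟩ := Closeds.ext Set.range_const
  rw [e]
  exact hπ

/-- `O(c e₀ - e e₁)` for integers `c` and `e`. -/
abbrev bd (π : X ⟶ CohB1.ProjSpace (m + 1) k) (φ : X ⟶ CohB1.ProjSpace m k) (c e : ℤ) : X.Modules :=
  CohB1.tensorMod (pO π (c - e)) (pb φ (Twist.twistProjSpace m k e))

theorem isInvertible_bd (c e : ℤ) : PicF.IsInvertible (bd π φ c e) :=
  HilbPolyLib.isInvertible_tensor (isInvertible_pO _) (AmpleDevLib.isInvertible_pb φ (PicPnLib.twist_inv m k e))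

theorem nonempty_bd_zero (c : ℤ) : Nonempty (bd π φ c 0 ≅ pO π c) := by
  obtain ⟨z⟩ := nonempty_pb_twist_zero φ
  exact ⟨congrRight _ z ≪≫ swapIso _ _ ≪≫ unitLeft _ ≪≫ eqToIso (congrArg (pO π) (sub_zero c))⟩

theorem nonempty_bd_add (c c' e e' : ℤ) :
    Nonempty (CohB1.tensorMod (bd π φ c e) (bd π φ c' e') ≅ bd π φ (c + c') (e + e')) := by
  obtain ⟨a⟩ := nonempty_pb_twist_add π (c - e) (c' - e')
  obtain ⟨b⟩ := nonempty_pb_twist_add φ e e'
  exact ⟨assocIso _ _ _ ≪≫ congrRight _ (leftComm _ _ _) ≪≫ (assocIso _ _ _).symm ≪≫ congrLeft a _ ≪≫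
    congrRight _ b ≪≫ eqToIso (by rw [show c - e + (c' - e') = c + c' - (e + e') by ring])⟩

include hφ in
/-- The exceptional ideal. -/
theorem nonempty_exJ_bd : Nonempty (ClSub.idealMod (exJ hp π) ≅ bd π φ 0 1) := by
  obtain ⟨f⟩ := hφ
  obtain ⟨a⟩ := nonempty_pb_twist_add π (0 - 1) 1
  obtain ⟨z⟩ := nonempty_pb_twist_zero π
  exact ⟨(unitLeft _).symm ≪≫ congrLeft (z.symm ≪≫
    eqToIso (congrArg (pO π) (by norm_num : (0 : ℤ) = 0 - 1 + 1)) ≪≫ a.symm) _ ≪≫ assocIso _ _ _ ≪≫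
    congrRight _ f.symm⟩

include hφ in
/-- Powers of the exceptional ideal. -/
theorem nonempty_exJ_pow (c : ℤ) : ∀ d : ℕ,
    Nonempty (CohB1.tensorMod (pO π c) (CohB1.tensorPow (ClSub.idealMod (exJ hp π)) d) ≅ bd π φ c d)
  | 0 => by
    obtain ⟨z⟩ := nonempty_bd_zero (π := π) φ c
    exact ⟨swapIso _ _ ≪≫ unitLeft _ ≪≫ z.symm⟩
  | d + 1 => by
    obtain ⟨f⟩ := nonempty_exJ_pow c d
    obtain ⟨j⟩ := nonempty_exJ_bd hp φ hφ
    obtain ⟨a⟩ := nonempty_bd_add (π := π) φ c 0 d 1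
    exact ⟨(assocIso _ _ _).symm ≪≫ congrLeft f _ ≪≫ congrRight _ j ≪≫ a ≪≫
      eqToIso (by rw [add_zero]; norm_cast)⟩

include hπ hφ in
/-- The restriction sequence at the exceptional divisor. -/
theorem exists_bd_seq_iso (c e : ℤ) :
    ∃ T : ShortComplex X.Modules, T.ShortExact ∧ Nonempty (T.X₁ ≅ bd π φ c (e + 1)) ∧
      Nonempty (T.X₂ ≅ bd π φ c e) ∧
      ∃ (φE : (exJ hp π).subscheme ⟶ CohB1.ProjSpace m k), IsIso φE ∧
        φE ≫ CohB1.ProjSpace.toSpec m k = (exJ hp π).subschemeι ≫ π ≫ CohB1.ProjSpace.toSpec (m + 1) k ∧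
        Nonempty (T.X₃ ≅ (Coh.push (exJ hp π).subschemeι).obj (pb φE (Twist.twistProjSpace m k e))) := by
  obtain ⟨-, hO, φE, hE, hEk, ⟨eE⟩⟩ := exists_exceptional (P := fun _ : Fin 1 => p)
    (fun a b _ => Subsingleton.elim a b) (fun _ => hp) (isClosed_range_const hp) (isBlowUp_const hp hπ) 0
  haveI := hE
  let I := exJ hp π
  let i : I.subscheme ⟶ X := I.subschemeι
  obtain ⟨f⟩ := hφ
  obtain ⟨o⟩ := hO 1
  obtain ⟨o'⟩ := hO (c - e)
  obtain ⟨q1⟩ := nonempty_pb_tensor i (pO π 1) (ClSub.idealMod I)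
  have h1 : Nonempty (pb i (pb φ (Twist.twistProjSpace m k 1)) ≅ pb φE (Twist.twistProjSpace m k 1)) :=
    ⟨(Scheme.Modules.pullback i).mapIso f ≪≫ q1 ≪≫ congrLeft o _ ≪≫ unitLeft _ ≪≫ eE.symm⟩
  obtain ⟨ee⟩ := nonempty_pow_family (fun t => pb i (pb φ (Twist.twistProjSpace m k t)))
    (fun t => pb φE (Twist.twistProjSpace m k t))
    (fun a b => by
      obtain ⟨r⟩ := nonempty_pb_tensor i (pb φ (Twist.twistProjSpace m k a)) (pb φ (Twist.twistProjSpace m k b))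
      obtain ⟨s⟩ := nonempty_pb_twist_add φ a b
      exact ⟨r.symm ≪≫ (Scheme.Modules.pullback i).mapIso s⟩)
    (by
      obtain ⟨s⟩ := nonempty_pb_twist_zero φ
      exact ⟨(Scheme.Modules.pullback i).mapIso s ≪≫ KFlatLib.pullUnitIso i⟩)
    (fun a b => nonempty_pb_twist_add φE a b) (nonempty_pb_twist_zero φE) h1 e
  obtain ⟨T, hT, ⟨e₁⟩, ⟨e₂⟩, ⟨e₃⟩⟩ := HdgLefLib.exists_restrict_seq I
    (AmpleDevLib.isFinLocFree_of_isInvertible (isInvertible_bd (π := π) φ c e))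
  obtain ⟨j⟩ := nonempty_exJ_bd hp φ ⟨f⟩
  obtain ⟨a⟩ := nonempty_bd_add (π := π) φ c 0 e 1
  obtain ⟨q2⟩ := nonempty_pb_tensor i (pO π (c - e)) (pb φ (Twist.twistProjSpace m k e))
  exact ⟨T, hT, ⟨e₁ ≪≫ congrRight _ j ≪≫ a ≪≫ eqToIso (by rw [add_zero])⟩, ⟨e₂⟩, φE, hE, hEk,
    ⟨e₃ ≪≫ (Scheme.Modules.pushforward i).mapIso (q2 ≪≫ congrLeft o' _ ≪≫ unitLeft _ ≪≫ ee)⟩⟩

include hπ hφ in
/-- The restriction sequence at the exceptional divisor. -/
theorem exists_bd_seq (c e : ℤ) :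
    ∃ T : ShortComplex X.Modules, T.ShortExact ∧ Nonempty (T.X₁ ≅ bd π φ c (e + 1)) ∧
      Nonempty (T.X₂ ≅ bd π φ c e) ∧
      ∀ q, Subsingleton (Coh.HH (CohB1.ProjSpace m k) (Twist.twistProjSpace m k e) q) →
        Subsingleton (Coh.HH X T.X₃ q) := by
  obtain ⟨T, hT, h₁, h₂, φE, hE, -, ⟨e₃⟩⟩ := exists_bd_seq_iso hp hπ φ hφ c e
  haveI := hE
  exact ⟨T, hT, h₁, h₂, fun q hq => HdgLefLib.sub_iso e₃.symm q (sub_push_twist φE (Iso.refl _) q hq)⟩

include hπ hφ in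
/-- The hyperplane sequence for all line bundles. -/
theorem exists_bd_hyp (hm : 1 ≤ m) (c e : ℤ) :
    ∃ T : ShortComplex X.Modules, T.ShortExact ∧ Nonempty (T.X₁ ≅ bd π φ (c - 1) e) ∧
      Nonempty (T.X₂ ≅ bd π φ c e) ∧
      ∀ q, ((q = 0 ∧ c < 0) ∨ (1 ≤ q ∧ q < m) ∨ (q = m ∧ 1 ≤ q ∧ -(m : ℤ) ≤ c) ∨ (m + 1 ≤ q ∧ -(m : ℤ) - 1 ≤ c)) →
        Subsingleton (Coh.HH X T.X₃ q) := by
  obtain ⟨K, G, hG, σ, hσ, hw, hK, hav⟩ :=
    exists_hyp_data (P := fun _ : Fin 1 => p) (isClosed_range_const hp) (isBlowUp_const hp hπ)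
  haveI := hσ
  let i : K.subscheme ⟶ X := K.subschemeι
  have hdisj : ∀ z, i z ∉ (exJ hp π).support := fun z hz => by
    have h2 : π (i z) ∈ (LefPen.hypIdeal G).support := by
      rw [← Scheme.Hom.comp_apply, ← hw, Scheme.Hom.comp_apply]
      exact (Scheme.IdealSheafData.range_subschemeι _).subset ⟨_, rfl⟩
    exact hav _ h2 ⟨0, (support_excI (P := fun _ : Fin 1 => p) (fun _ => hp) 0 (i z) hz).symm⟩
  obtain ⟨f⟩ := hφ
  obtain ⟨oJ⟩ := nonempty_pb_ideal_trivial i (exJ hp π) (IntMultLib.isInvertible_idealMod _ hπ.1) hdisj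
  obtain ⟨q1⟩ := nonempty_pb_tensor i (pO π 1) (ClSub.idealMod (exJ hp π))
  have h1 : Nonempty (pb i (pb φ (Twist.twistProjSpace m k 1)) ≅ pb i (pO π 1)) :=
    ⟨(Scheme.Modules.pullback i).mapIso f ≪≫ q1 ≪≫ congrRight _ oJ ≪≫ swapIso _ _ ≪≫ unitLeft _⟩
  obtain ⟨ee⟩ := nonempty_pow_family (fun t => pb i (pb φ (Twist.twistProjSpace m k t)))
    (fun t => pb i (pO π t))
    (fun a b => by
      obtain ⟨r⟩ := nonempty_pb_tensor i (pb φ (Twist.twistProjSpace m k a)) (pb φ (Twist.twistProjSpace m k b))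
      obtain ⟨s⟩ := nonempty_pb_twist_add φ a b
      exact ⟨r.symm ≪≫ (Scheme.Modules.pullback i).mapIso s⟩)
    (by
      obtain ⟨s⟩ := nonempty_pb_twist_zero φ
      exact ⟨(Scheme.Modules.pullback i).mapIso s ≪≫ KFlatLib.pullUnitIso i⟩)
    (fun a b => by
      obtain ⟨r⟩ := nonempty_pb_tensor i (pO π a) (pO π b)
      obtain ⟨s⟩ := nonempty_pb_twist_add π a b
      exact ⟨r.symm ≪≫ (Scheme.Modules.pullback i).mapIso s⟩)
    (by
      obtain ⟨s⟩ := nonempty_pb_twist_zero π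
      exact ⟨(Scheme.Modules.pullback i).mapIso s ≪≫ KFlatLib.pullUnitIso i⟩) h1 e
  obtain ⟨T, hT, ⟨e₁⟩, ⟨e₂⟩, ⟨e₃⟩⟩ := HdgLefLib.exists_restrict_seq K
    (AmpleDevLib.isFinLocFree_of_isInvertible (isInvertible_bd (π := π) φ c e))
  obtain ⟨eK⟩ := hK (c - e)
  obtain ⟨q2⟩ := nonempty_pb_tensor i (pO π (c - e)) (pb φ (Twist.twistProjSpace m k e))
  obtain ⟨q3⟩ := nonempty_pb_tensor i (pO π (c - e)) (pO π e)
  obtain ⟨a⟩ := nonempty_pb_twist_add π (c - e) e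
  refine ⟨T, hT, ⟨e₁ ≪≫ assocIso _ _ _ ≪≫ congrRight _ (swapIso _ _) ≪≫ (assocIso _ _ _).symm ≪≫
    congrLeft eK _ ≪≫ eqToIso (by rw [show c - e - 1 = c - 1 - e by ring])⟩, ⟨e₂⟩, fun q hq => ?_⟩
  haveI : Coh.IsQCoh (CIDivLib.tw (LefPen.hypIdeal G) c) :=
    FinLFAnn.isQCoh_of_isFinLocFree (AmpleDevLib.isFinLocFree_of_isInvertible (CIDivLib.isInvertible_tw _ c))
  haveI : Coh.IsQCoh ((Scheme.Modules.pullback K.subschemeι).obj (bd π φ c e)) :=
    FinLFAnn.isQCoh_of_isFinLocFree (AmpleDevLib.isFinLocFree_of_isInvertible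
      (AmpleDevLib.isInvertible_pb _ (isInvertible_bd φ c e)))
  let ε : (Scheme.Modules.pullback K.subschemeι).obj (bd π φ c e) ≅
      (Scheme.Modules.pullback σ).obj (CIDivLib.tw (LefPen.hypIdeal G) c) :=
    q2 ≪≫ congrRight _ ee ≪≫ q3.symm ≪≫
      (Scheme.Modules.pullback i).mapIso (a ≪≫ eqToIso (congrArg (pO π) (sub_add_cancel c e))) ≪≫
      (Scheme.Modules.pullbackComp _ _).app _ ≪≫ (Scheme.Modules.pullbackCongr hw.symm).app _ ≪≫
      ((Scheme.Modules.pullbackComp _ _).app _).symm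
  obtain ⟨E⟩ := QCohLib.nonempty_HH_push K.subschemeι ((Scheme.Modules.pullback K.subschemeι).obj (bd π φ c e)) q
  exact HdgLefLib.sub_iso e₃.symm q (@Equiv.subsingleton _ _ E.symm.toEquiv
    (HdgLefLib.sub_iso ε.symm q ((QuotSchLib.subsingleton_HH_pullback_iso (asIso σ) _ q).2
      (subsingleton_hyperplane hm G hG c q hq))))

include hπ in
/-- All positive-degree cohomology of `π^*O(c)` in the range needed. -/
theorem subsingleton_pO_all (hm : 1 ≤ m) (c : ℤ) (q : ℕ) (hq : 1 ≤ q) (hc : -(m : ℤ) - 1 ≤ c) :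
    Subsingleton (Coh.HH X (pO π c) q) := by
  have hP : Function.Injective fun _ : Fin 1 => p := fun a b _ => Subsingleton.elim a b
  have hb := isBlowUp_const hp hπ
  rcases le_or_gt q (m + 1) with h' | h'
  · exact subsingleton_pO (P := fun _ : Fin 1 => p) hP (fun _ => hp) (isClosed_range_const hp) hb hm c q (by omega)
  · obtain ⟨C, hC, hlarge⟩ := exists_large (P := fun _ : Fin 1 => p) hP (fun _ => hp) (isClosed_range_const hp) hb c
    obtain ⟨d, rfl⟩ : ∃ d : ℕ, c = C - d := ⟨(C - c).toNat, by omega⟩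
    induction d with
    | zero => simpa using hlarge q hq
    | succ d ih =>
      obtain ⟨T, hT, ⟨e₁⟩, ⟨e₂⟩, h₃⟩ := exists_hyp_seq (P := fun _ : Fin 1 => p) (isClosed_range_const hp) hb
        (by omega) (C - (d : ℤ))
      obtain ⟨q, rfl⟩ : ∃ q', q = q' + 1 := ⟨q - 1, by omega⟩
      exact HdgLefLib.sub_iso (e₁ ≪≫ eqToIso (congrArg (pO π) (by push_cast; ring))) _
        (HodgePnLib.sub₁_succ hT (h₃ q (Or.inr (Or.inr (Or.inr ⟨by omega, by omega⟩))))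
          (HdgLefLib.sub_iso e₂.symm _ (ih (by omega) (by omega))))

end BlowPtLib
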