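import Groth.Agent.BlowPtLib.One

/-!
# Vanishing theorems on the blow-up of projective space at one point
-/

set_option autoImplicit false
set_option linter.style.haveILetI false
set_option linter.unusedSectionVars false
set_option maxHeartbeats 1000000
set_option backward.isDefEq.respectTransparency false
set_option backward.isDefEq.respectTransparency.types false

universe u

open CategoryTheory CategoryTheory.Limits AlgebraicGeometry TopologicalSpace Opposite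
open HilbPolyLib (congrLeft congrRight assocIso swapIso unitLeft leftComm)
open KFlatLib (pb)

noncomputable section

namespace BlowPtLib

variable {k : Type u} [Field k] [IsAlgClosed k] {m : ℕ} {p : ↥(CohB1.ProjSpace (m + 1) k)}
  (hp : IsClosed ({p} : Set ↥(CohB1.ProjSpace (m + 1) k))) {X : Scheme.{u}}
  {π : X ⟶ CohB1.ProjSpace (m + 1) k}
  (hπ : BlowUp.IsBlowUp π (Scheme.IdealSheafData.vanishingIdeal ⟨{p}, hp⟩))
  (φ : X ⟶ CohB1.ProjSpace m k) (hφ : Nonempty (pb φ (Twist.twistProjSpace m k 1) ≅ lnL hp π))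

include hπ hφ in
/-- One step towards negative exceptional coefficient. -/
theorem bd_neg_step (c e : ℤ) (q : ℕ) (he : e < 0) (hq : q < m ∨ -(m : ℤ) ≤ e)
    (h : Subsingleton (Coh.HH X (bd π φ c (e + 1)) q)) : Subsingleton (Coh.HH X (bd π φ c e) q) := by
  obtain ⟨T, hT, ⟨e₁⟩, ⟨e₂⟩, h₃⟩ := exists_bd_seq hp hπ φ hφ c e
  exact HdgLefLib.sub_iso e₂ q (HdgLefLib.sub₂ hT (HdgLefLib.sub_iso e₁.symm q h)
    (h₃ q (PnCohLib.subsingleton_HH_twist e q (fun x => by omega) (fun x => by omega))))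

include hπ hφ in
theorem bd_neg (c : ℤ) (q j : ℕ) (hq : q < m ∨ j ≤ m) (h : Subsingleton (Coh.HH X (pO π c) q)) :
    Subsingleton (Coh.HH X (bd π φ c (-(j : ℤ))) q) := by
  induction j with
  | zero =>
    obtain ⟨z⟩ := nonempty_bd_zero (π := π) φ c
    exact HdgLefLib.sub_iso (z.symm ≪≫ eqToIso (congrArg (bd π φ c) (by simp : (0 : ℤ) = -((0 : ℕ) : ℤ)))) q h
  | succ j ih =>
    refine bd_neg_step hp hπ φ hφ c _ q (by omega) (hq.imp id fun h' => by omega) ?_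
    rw [show -((j + 1 : ℕ) : ℤ) + 1 = -(j : ℤ) by omega]
    exact ih (hq.imp id fun h' => by omega)

theorem nonempty_fTw_bd (c t : ℤ) : Nonempty (fTw φ (pO π c) t ≅ bd π φ (c + t) t) :=
  ⟨eqToIso (by rw [show bd π φ (c + t) t = CohB1.tensorMod (pO π (c + t - t))
    (pb φ (Twist.twistProjSpace m k t)) from rfl, add_sub_cancel_right]; rfl)⟩

include hπ hφ in
/-- **`O(t L' - e₀)` is acyclic up to degree `m` for `t ≤ 0`.** -/
theorem bd_low (hm : 1 ≤ m) : ∀ (j q : ℕ), q ≤ m → Subsingleton (Coh.HH X (bd π φ (-(j : ℤ) - 1) (-(j : ℤ))) q) := by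
  intro j
  induction j using Nat.strong_induction_on with
  | _ j ih =>
    intro q hq
    by_cases hj : j ≤ m
    · refine bd_neg hp hπ φ hφ _ q j (Or.inr hj) ?_
      rcases Nat.eq_zero_or_pos q with rfl | hq'
      · exact subsingleton_pO_zero (P := fun _ : Fin 1 => p) (isClosed_range_const hp) (isBlowUp_const hp hπ)
          (by omega) _ (by omega)
      · exact subsingleton_pO (P := fun _ : Fin 1 => p) (fun a b _ => Subsingleton.elim a b) (fun _ => hp)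
          (isClosed_range_const hp) (isBlowUp_const hp hπ) hm _ q (Or.inl ⟨hq', hq⟩)
    · have hM := AmpleDevLib.isFinLocFree_of_isInvertible (isInvertible_pO (π := π) (-1))
      obtain ⟨e⟩ := nonempty_fTw_bd (π := π) φ (-1) (-(j : ℤ))
      have h := kosz_down φ hM (-(j : ℤ) + ((m + 1 : ℕ) : ℤ)) q fun i hi q' hq' => by
        obtain ⟨e'⟩ := nonempty_fTw_bd (π := π) φ (-1) (-(j : ℤ) + ((m + 1 : ℕ) : ℤ) - (i : ℤ))
        refine HdgLefLib.sub_iso (eqToIso ?_ ≪≫ e'.symm) q' (ih (j + i - (m + 1)) (by omega) q' (by omega))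
        rw [show -((j + i - (m + 1) : ℕ) : ℤ) = -(j : ℤ) + ((m + 1 : ℕ) : ℤ) - (i : ℤ) by omega,
          show -(j : ℤ) + ((m + 1 : ℕ) : ℤ) - (i : ℤ) - 1 = -1 + (-(j : ℤ) + ((m + 1 : ℕ) : ℤ) - (i : ℤ)) by ring]
      rw [add_sub_cancel_right] at h
      exact HdgLefLib.sub_iso (e ≪≫ eqToIso (by rw [show -1 + -(j : ℤ) = -(j : ℤ) - 1 by ring])) q h

include hπ hφ in
/-- **No intermediate cohomology for negative exceptional coefficient.** -/
theorem bd_neg_all (hm : 1 ≤ m) (c : ℤ) (j q : ℕ) (hq1 : 1 ≤ q) (hq : q ≤ m) (hc : q = m → c ≤ -(j : ℤ) - 1 ∨ j ≤ m) :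
    Subsingleton (Coh.HH X (bd π φ c (-(j : ℤ))) q) := by
  have hb : ∀ c, Subsingleton (Coh.HH X (pO π c) q) := fun c =>
    subsingleton_pO (P := fun _ : Fin 1 => p) (fun a b _ => Subsingleton.elim a b) (fun _ => hp)
      (isClosed_range_const hp) (isBlowUp_const hp hπ) hm c q (Or.inl ⟨hq1, hq⟩)
  by_cases h : q < m ∨ j ≤ m
  · exact bd_neg hp hπ φ hφ c q j h (hb c)
  · push_neg at h
    have hqm : q = m := le_antisymm hq h.1
    subst hqm
    obtain ⟨d, rfl⟩ : ∃ d : ℕ, c = -(j : ℤ) - 1 - d := ⟨(-(j : ℤ) - 1 - c).toNat, by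
      rcases hc rfl with h' | h' <;> omega⟩
    clear hc
    induction d with
    | zero => simpa using bd_low hp hπ φ hφ hm j q le_rfl
    | succ d ih =>
      obtain ⟨T, hT, ⟨e₁⟩, ⟨e₂⟩, h₃⟩ := exists_bd_hyp hp hπ φ hφ (by omega) (-(j : ℤ) - 1 - d) (-(j : ℤ))
      obtain ⟨q, rfl⟩ : ∃ q', q = q' + 1 := ⟨q - 1, by omega⟩
      exact HdgLefLib.sub_iso (e₁ ≪≫ eqToIso (congrArg (fun c => bd π φ c (-(j : ℤ))) (by push_cast; ring))) _
        (HodgePnLib.sub₁_succ hT (h₃ q (by omega)) (HdgLefLib.sub_iso e₂.symm _ ih))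

include hπ hφ in
/-- **`O(t L')` has no higher cohomology for `t ≥ -m`.** -/
theorem bd_diag (hm : 1 ≤ m) : ∀ (i : ℕ) (q : ℕ), 1 ≤ q →
    Subsingleton (Coh.HH X (bd π φ ((i : ℤ) - m) ((i : ℤ) - m)) q) := by
  intro i
  induction i using Nat.strong_induction_on with
  | _ i ih =>
    intro q hq
    by_cases hi : i ≤ m
    · have h := bd_neg hp hπ φ hφ ((i : ℤ) - m) q (m - i) (Or.inr (Nat.sub_le m i))
        (subsingleton_pO_all hp hπ hm _ q hq (by omega))
      rwa [show -((m - i : ℕ) : ℤ) = (i : ℤ) - m by omega] at h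
    · have hM := AmpleDevLib.isFinLocFree_of_isInvertible (isInvertible_pO (π := π) 0)
      obtain ⟨e⟩ := nonempty_fTw_bd (π := π) φ 0 ((i : ℤ) - m)
      refine HdgLefLib.sub_iso (e ≪≫ eqToIso (by rw [zero_add])) q (kosz_up φ hM _ q fun j hj => ?_)
      obtain ⟨e'⟩ := nonempty_fTw_bd (π := π) φ 0 ((i : ℤ) - m - ((j + 1 : ℕ) : ℤ))
      refine HdgLefLib.sub_iso (eqToIso ?_ ≪≫ e'.symm) (q + j) (ih (i - (j + 1)) (by omega) (q + j) (by omega))
      rw [zero_add, show ((i - (j + 1) : ℕ) : ℤ) - m = (i : ℤ) - m - ((j + 1 : ℕ) : ℤ) by omega]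

include hπ hφ in
/-- **`O(c e₀ - d e₁)` has no higher cohomology for `0 ≤ d ≤ c`.** -/
theorem bd_pos (hm : 1 ≤ m) (c : ℤ) (d q : ℕ) (hdc : (d : ℤ) ≤ c) (hq : 1 ≤ q) :
    Subsingleton (Coh.HH X (bd π φ c d) q) := by
  obtain ⟨x, rfl⟩ : ∃ x : ℕ, c = (d : ℤ) + x := ⟨(c - d).toNat, by omega⟩
  induction x with
  | zero =>
    have h := bd_diag hp hπ φ hφ hm (d + m) q hq
    rw [show (((d + m : ℕ) : ℤ) - m) = (d : ℤ) by omega] at h
    simpa using h
  | succ x ih =>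
    obtain ⟨T, hT, ⟨e₁⟩, ⟨e₂⟩, h₃⟩ := exists_bd_hyp hp hπ φ hφ (by omega) ((d : ℤ) + (x + 1 : ℕ)) d
    refine HdgLefLib.sub_iso e₂ q (HdgLefLib.sub₂ hT (HdgLefLib.sub_iso
      ((eqToIso (congrArg (fun c => bd π φ c (d : ℤ)) (by push_cast; ring))) ≪≫ e₁.symm) q (ih (by omega))) (h₃ q ?_))
    rcases lt_trichotomy q m with h | h | h
    · exact Or.inr (Or.inl ⟨hq, h⟩)
    · exact Or.inr (Or.inr (Or.inl ⟨h, hq, by omega⟩))
    · exact Or.inr (Or.inr (Or.inr ⟨h, by omega⟩))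

end BlowPtLib
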