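import Groth.Agent.BlowPtLib.Linear
import Groth.Agent.PlaneCurveLib.Degree
import Groth.Agent.CurvLib.Euler
import Groth.Agent.PushLinLib.HH

/-!
# Cohomology of all line bundles on the blow-up of the plane at a point
-/

set_option autoImplicit false
set_option linter.style.haveILetI false
set_option linter.unusedSectionVars false
set_option maxHeartbeats 1000000
set_option backward.isDefEq.respectTransparency false
set_option backward.isDefEq.respectTransparency.types false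

universe u

open CategoryTheory CategoryTheory.Limits AlgebraicGeometry TopologicalSpace Opposite
open HilbPolyLib (congrLeft congrRight assocIso swapIso unitLeft leftComm)
open KFlatLib (pb)

noncomputable section

namespace BlowPtLib

/-- Twice a binomial coefficient. -/
theorem two_mul_choose_two (n : ℕ) : 2 * (n.choose 2 : ℤ) = (n : ℤ) * ((n : ℤ) - 1) := by
  induction n with
  | zero => simp
  | succ n ih =>
    rw [Nat.choose_succ_succ', Nat.choose_one_right]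
    push_cast
    linarith

theorem ring_choose_one (x : ℤ) : Ring.choose x 1 = x := by
  rw [Ring.choose_one_right]

theorem two_mul_ring_choose_two (x : ℤ) : 2 * Ring.choose x 2 = x * (x - 1) := by
  rcases Int.eq_nat_or_neg x with ⟨n, rfl | rfl⟩
  · rw [Ring.choose_natCast]
    exact two_mul_choose_two n
  · rw [Ring.choose_neg, show (n : ℤ) + (2 : ℕ) - 1 = ((n + 1 : ℕ) : ℤ) by push_cast; ring, Ring.choose_natCast]
    have h := two_mul_choose_two (n + 1)
    simp [Units.smul_def, Int.negOnePow_def]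
    push_cast at h
    linarith

section Maps

variable {k : Type u} [Field k] {X : Scheme.{u}} [X.Over (Spec (CommRingCat.of k))]
  {S : ShortComplex X.Modules} (hS : S.ShortExact)

include hS in
/-- Degree-zero cohomology of the first two terms. -/
theorem finrank_zero_eq (h : Subsingleton (Coh.HH X S.X₃ 0)) :
    Module.finrank k (Coh.HH X S.X₁ 0) = Module.finrank k (Coh.HH X S.X₂ 0) := by
  refine (LinearEquiv.ofBijective (CurvLib.hMap (k := k) S.f 0) ⟨CurvLib.injective₀ hS, ?_⟩).finrank_eq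
  rw [← LinearMap.range_eq_top, CurvLib.exact₂ hS 0, LinearMap.ker_eq_top]
  exact LinearMap.ext fun _ => h.elim _ _

include hS in
/-- Cohomology of the first two terms in positive degree. -/
theorem finrank_succ_eq (q : ℕ) (h : Subsingleton (Coh.HH X S.X₃ q)) (h' : Subsingleton (Coh.HH X S.X₃ (q + 1))) :
    Module.finrank k (Coh.HH X S.X₁ (q + 1)) = Module.finrank k (Coh.HH X S.X₂ (q + 1)) := by
  refine (LinearEquiv.ofBijective (CurvLib.hMap (k := k) S.f (q + 1)) ⟨?_, ?_⟩).finrank_eq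
  · rw [← LinearMap.ker_eq_bot, ← CurvLib.exact₁ hS q, LinearMap.range_eq_bot]
    exact LinearMap.ext fun x => by rw [h.elim x 0, map_zero, map_zero]
  · rw [← LinearMap.range_eq_top, CurvLib.exact₂ hS (q + 1), LinearMap.ker_eq_top]
    exact LinearMap.ext fun _ => h'.elim _ _

end Maps

/-- Euler characteristic along an isomorphism. -/
theorem euler_pb_iso {k : Type u} [Field k] {Y Z : Scheme.{u}} [Y.Over (Spec (CommRingCat.of k))]
    [Z.Over (Spec (CommRingCat.of k))] [IsProper (Y ↘ Spec (CommRingCat.of k))] (φ : Y ⟶ Z) [IsIso φ]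
    (hφ : φ ≫ (Z ↘ Spec (CommRingCat.of k)) = Y ↘ Spec (CommRingCat.of k)) (F : Z.Modules) [Coh.IsQCoh F] :
    Curv2.euler k Y (pb φ F) = Curv2.euler k Z F := by
  rw [(PushLinLib.euler_push k (inv φ) (by rw [← hφ, IsIso.inv_hom_id_assoc]) F).2]
  exact CurvLib.euler_congr ((QuotSchLib.pullbackIsoPush (asIso φ)).app F)

section All

variable {k : Type u} [Field k] [IsAlgClosed k] {m : ℕ} {p : ↥(CohB1.ProjSpace (m + 1) k)}
  (hp : IsClosed ({p} : Set ↥(CohB1.ProjSpace (m + 1) k))) {X : Scheme.{u}}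
  {π : X ⟶ CohB1.ProjSpace (m + 1) k}
  (hπ : BlowUp.IsBlowUp π (Scheme.IdealSheafData.vanishingIdeal ⟨{p}, hp⟩))
  (φ : X ⟶ CohB1.ProjSpace m k) (hφ : Nonempty (pb φ (Twist.twistProjSpace m k 1) ≅ lnL hp π))

include hπ hφ in
/-- `O(t L' - e₀)` is acyclic for `t ≤ 0`. -/
theorem diag_low (hm : 1 ≤ m) : ∀ (j q : ℕ), Subsingleton (Coh.HH X (bd π φ (-(j : ℤ) - 1) (-(j : ℤ))) q) := by
  intro j
  induction j using Nat.strong_induction_on with
  | _ j ih =>
    intro q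
    by_cases hj : j ≤ m
    · refine bd_neg hp hπ φ hφ _ q j (Or.inr hj) ?_
      rcases Nat.eq_zero_or_pos q with rfl | hq'
      · exact subsingleton_pO_zero (P := fun _ : Fin 1 => p) (isClosed_range_const hp) (isBlowUp_const hp hπ)
          hm _ (by omega)
      · exact subsingleton_pO_all hp hπ hm _ q hq' (by omega)
    · have hM := AmpleDevLib.isFinLocFree_of_isInvertible (isInvertible_pO (π := π) (-1))
      obtain ⟨e⟩ := nonempty_fTw_bd (π := π) φ (-1) (-(j : ℤ))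
      have h := kosz_down φ hM (-(j : ℤ) + ((m + 1 : ℕ) : ℤ)) q fun i hi q' _ => by
        obtain ⟨e'⟩ := nonempty_fTw_bd (π := π) φ (-1) (-(j : ℤ) + ((m + 1 : ℕ) : ℤ) - (i : ℤ))
        refine HdgLefLib.sub_iso (eqToIso ?_ ≪≫ e'.symm) q' (ih (j + i - (m + 1)) (by omega) q')
        rw [show -((j + i - (m + 1) : ℕ) : ℤ) = -(j : ℤ) + ((m + 1 : ℕ) : ℤ) - (i : ℤ) by omega,
          show -(j : ℤ) + ((m + 1 : ℕ) : ℤ) - (i : ℤ) - 1 = -1 + (-(j : ℤ) + ((m + 1 : ℕ) : ℤ) - (i : ℤ)) by ring]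
      rw [add_sub_cancel_right] at h
      exact HdgLefLib.sub_iso (e ≪≫ eqToIso (by rw [show -1 + -(j : ℤ) = -(j : ℤ) - 1 by ring])) q h

include hπ hφ in
/-- **`O(t L' - e₀)` is acyclic.** -/
theorem diag_all (hm : 1 ≤ m) : ∀ (i q : ℕ),
    Subsingleton (Coh.HH X (bd π φ ((i : ℤ) - m - 1) ((i : ℤ) - m)) q) := by
  intro i
  induction i using Nat.strong_induction_on with
  | _ i ih =>
    intro q
    by_cases hi : i ≤ m
    · have h := diag_low hp hπ φ hφ hm (m - i) q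
      rwa [show -((m - i : ℕ) : ℤ) = (i : ℤ) - m by omega] at h
    · have hM := AmpleDevLib.isFinLocFree_of_isInvertible (isInvertible_pO (π := π) (-1))
      obtain ⟨e⟩ := nonempty_fTw_bd (π := π) φ (-1) ((i : ℤ) - m)
      refine HdgLefLib.sub_iso (e ≪≫ eqToIso (by rw [neg_add_eq_sub])) q (kosz_up φ hM _ q fun j hj => ?_)
      obtain ⟨e'⟩ := nonempty_fTw_bd (π := π) φ (-1) ((i : ℤ) - m - ((j + 1 : ℕ) : ℤ))
      refine HdgLefLib.sub_iso (eqToIso ?_ ≪≫ e'.symm) (q + j) (ih (i - (j + 1)) (by omega) (q + j))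
      rw [neg_add_eq_sub, show ((i - (j + 1) : ℕ) : ℤ) - m = (i : ℤ) - m - ((j + 1 : ℕ) : ℤ) by omega]

include hπ hφ in
/-- `O(c e₀ - (c + 1) e₁)` is acyclic. -/
theorem diag (hm : 1 ≤ m) (c : ℤ) (q : ℕ) : Subsingleton (Coh.HH X (bd π φ c (c + 1)) q) := by
  rcases le_or_gt (-1 : ℤ) c with h | h
  · obtain ⟨i, hi⟩ : ∃ i : ℕ, c + 1 + m = i := ⟨(c + 1 + m).toNat, by omega⟩
    have := diag_all hp hπ φ hφ hm i q
    rwa [show ((i : ℤ) - m - 1) = c by omega, show ((i : ℤ) - m) = c + 1 by omega] at this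
  · obtain ⟨j, hj⟩ : ∃ j : ℕ, -(c + 1) = j := ⟨(-(c + 1)).toNat, by omega⟩
    have := diag_low hp hπ φ hφ hm j q
    rwa [show (-(j : ℤ) - 1) = c by omega, show (-(j : ℤ)) = c + 1 by omega] at this

include hπ hφ in
/-- Raising the exceptional coefficient. -/
theorem bd_raise (c e : ℤ) (q : ℕ) (h : Subsingleton (Coh.HH X (bd π φ c e) q))
    (hH : ∀ q', q = q' + 1 → Subsingleton (Coh.HH (CohB1.ProjSpace m k) (Twist.twistProjSpace m k e) q')) :
    Subsingleton (Coh.HH X (bd π φ c (e + 1)) q) := by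
  obtain ⟨T, hT, ⟨e₁⟩, ⟨e₂⟩, h₃⟩ := exists_bd_seq hp hπ φ hφ c e
  cases q with
  | zero => exact HdgLefLib.sub_iso e₁ 0 (HodgePnLib.sub₁_zero hT (HdgLefLib.sub_iso e₂.symm 0 h))
  | succ q =>
    exact HdgLefLib.sub_iso e₁ _ (HodgePnLib.sub₁_succ hT (h₃ q (hH q rfl)) (HdgLefLib.sub_iso e₂.symm _ h))

include hπ hφ in
/-- Lowering the exceptional coefficient. -/
theorem bd_lower (c e : ℤ) (q : ℕ) (h : Subsingleton (Coh.HH X (bd π φ c (e + 1)) q))
    (hH : Subsingleton (Coh.HH (CohB1.ProjSpace m k) (Twist.twistProjSpace m k e) q)) :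
    Subsingleton (Coh.HH X (bd π φ c e) q) := by
  obtain ⟨T, hT, ⟨e₁⟩, ⟨e₂⟩, h₃⟩ := exists_bd_seq hp hπ φ hφ c e
  exact HdgLefLib.sub_iso e₂ q (HdgLefLib.sub₂ hT (HdgLefLib.sub_iso e₁.symm q h) (h₃ q hH))

end All

section Plane

variable {k : Type u} [Field k] [IsAlgClosed k] {p : ↥(CohB1.ProjSpace (1 + 1) k)}
  (hp : IsClosed ({p} : Set ↥(CohB1.ProjSpace (1 + 1) k))) {X : Scheme.{u}}
  {π : X ⟶ CohB1.ProjSpace (1 + 1) k}
  (hπ : BlowUp.IsBlowUp π (Scheme.IdealSheafData.vanishingIdeal ⟨{p}, hp⟩))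
  (φ : X ⟶ CohB1.ProjSpace 1 k) (hφ : Nonempty (pb φ (Twist.twistProjSpace 1 k 1) ≅ lnL hp π))

include hπ hφ in
theorem plane_high (c e : ℤ) (q : ℕ) (hq : 3 ≤ q) : Subsingleton (Coh.HH X (bd π φ c e) q) := by
  have hd := diag hp hπ φ hφ le_rfl c q
  have hP : ∀ (t : ℤ) (q' : ℕ), 2 ≤ q' →
      Subsingleton (Coh.HH (CohB1.ProjSpace 1 k) (Twist.twistProjSpace 1 k t) q') := fun t q' h =>
    PnCohLib.subsingleton_HH_twist t q' (fun x => by omega) (fun x => by omega)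
  rcases le_total (c + 1) e with h | h
  · obtain ⟨n, rfl⟩ : ∃ n : ℕ, e = c + 1 + n := ⟨(e - (c + 1)).toNat, by omega⟩
    induction n with
    | zero => simpa using hd
    | succ n ih =>
      rw [show c + 1 + ((n + 1 : ℕ) : ℤ) = c + 1 + n + 1 by push_cast; ring]
      exact bd_raise hp hπ φ hφ c _ q (ih (by omega)) fun q' h' => hP _ q' (by omega)
  · obtain ⟨n, rfl⟩ : ∃ n : ℕ, e = c + 1 - n := ⟨((c + 1) - e).toNat, by omega⟩
    induction n with
    | zero => simpa using hd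
    | succ n ih =>
      refine bd_lower hp hπ φ hφ c _ q ?_ (hP _ q (by omega))
      rw [show c + 1 - ((n + 1 : ℕ) : ℤ) + 1 = c + 1 - n by push_cast; ring]
      exact ih (by omega)

include hπ hφ in
theorem plane_h0 (c e : ℤ) (h : c < 0 ∨ c + 1 ≤ e) : Subsingleton (Coh.HH X (bd π φ c e) 0) := by
  have hd := diag hp hπ φ hφ le_rfl c 0
  rcases le_total (c + 1) e with he | he
  · obtain ⟨n, rfl⟩ : ∃ n : ℕ, e = c + 1 + n := ⟨(e - (c + 1)).toNat, by omega⟩
    clear h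
    induction n with
    | zero => simpa using hd
    | succ n ih =>
      rw [show c + 1 + ((n + 1 : ℕ) : ℤ) = c + 1 + n + 1 by push_cast; ring]
      exact bd_raise hp hπ φ hφ c _ 0 (ih (by omega)) fun q' h' => by omega
  · obtain ⟨n, rfl⟩ : ∃ n : ℕ, e = c + 1 - n := ⟨((c + 1) - e).toNat, by omega⟩
    induction n with
    | zero => simpa using hd
    | succ n ih =>
      refine bd_lower hp hπ φ hφ c _ 0 ?_ (PnCohLib.subsingleton_HH_twist _ 0 (fun x => by omega) (fun x => by omega))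
      rw [show c + 1 - ((n + 1 : ℕ) : ℤ) + 1 = c + 1 - n by push_cast; ring]
      exact ih (by omega) (by omega)

include hπ hφ in
theorem plane_h1 (c e : ℤ) (h : c + 1 ≤ e) (he : e ≤ 0) : Subsingleton (Coh.HH X (bd π φ c e) 1) := by
  obtain ⟨n, rfl⟩ : ∃ n : ℕ, e = c + 1 + n := ⟨(e - (c + 1)).toNat, by omega⟩
  induction n with
  | zero => simpa using diag hp hπ φ hφ le_rfl c 1
  | succ n ih =>
    rw [show c + 1 + ((n + 1 : ℕ) : ℤ) = c + 1 + n + 1 by push_cast; ring]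
    refine bd_raise hp hπ φ hφ c _ 1 (ih (by omega) (by omega)) fun q' h' => ?_
    exact PnCohLib.subsingleton_HH_twist _ q' (fun x => by omega) (fun x => by omega)

include hπ hφ in
theorem plane_h2 (c e : ℤ) (h : e ≤ c + 1) : Subsingleton (Coh.HH X (bd π φ c e) 2) := by
  obtain ⟨n, rfl⟩ : ∃ n : ℕ, e = c + 1 - n := ⟨((c + 1) - e).toNat, by omega⟩
  induction n with
  | zero => simpa using diag hp hπ φ hφ le_rfl c 2
  | succ n ih =>
    refine bd_lower hp hπ φ hφ c _ 2 ?_ (PnCohLib.subsingleton_HH_twist _ 2 (fun x => by omega) (fun x => by omega))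
    rw [show c + 1 - ((n + 1 : ℕ) : ℤ) + 1 = c + 1 - n by push_cast; ring]
    exact ih (by omega)

variable [X.Over (Spec (CommRingCat.of k))]
  (hσk : π ≫ CohB1.ProjSpace.toSpec (1 + 1) k = X ↘ Spec (CommRingCat.of k))

include hπ hσk in
theorem isProper_over : IsProper (X ↘ Spec (CommRingCat.of k)) := by
  haveI := isProper_π (P := fun _ : Fin 1 => p) (isClosed_range_const hp) (isBlowUp_const hp hπ)
  haveI : IsProper (CohB1.ProjSpace.toSpec (1 + 1) k) := ProjDegLib.toSpec_isProper k (1 + 1)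
  rw [← hσk]
  infer_instance

include hπ hσk in
/-- Additivity with a pushed forward last term. -/
theorem euler_split {T : ShortComplex X.Modules} (hT : T.ShortExact) {A B : X.Modules} (hA : PicF.IsInvertible A)
    (hB : PicF.IsInvertible B) (e₁ : T.X₁ ≅ A) (e₂ : T.X₂ ≅ B) {Z : Scheme.{u}} (i : Z ⟶ X) [IsClosedImmersion i]
    [Z.Over (Spec (CommRingCat.of k))] (hi : i ≫ (X ↘ Spec (CommRingCat.of k)) = Z ↘ Spec (CommRingCat.of k))
    {G : Z.Modules} (hG : PicF.IsInvertible G) (e₃ : T.X₃ ≅ (Coh.push i).obj G) :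
    Curv2.euler k X B = Curv2.euler k X A + Curv2.euler k Z G := by
  haveI := isProper_over hp hπ hσk
  haveI := CurvLib.isNoetherian k (X := X)
  haveI : IsLocallyNoetherian Z := LocallyOfFiniteType.isLocallyNoetherian i
  have hGc : Coh.IsCoh G := CurvLib.isCoh_of_isInvertible hG
  haveI : Coh.IsQCoh G := hGc.1
  have h := CurvLib.euler_add_of_isCoh (k := k) hT
    (QCohLib.isCoh_of_iso e₁.symm (CurvLib.isCoh_of_isInvertible hA))
    (QCohLib.isCoh_of_iso e₂.symm (CurvLib.isCoh_of_isInvertible hB))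
    (QCohLib.isCoh_of_iso e₃.symm (QCohLib.isCoh_push_finite i G hGc))
  rw [CurvLib.euler_congr e₁, CurvLib.euler_congr e₂, CurvLib.euler_congr e₃,
    ← (PushLinLib.euler_push k i hi G).2] at h
  exact h

/-- Euler characteristics of the twists of the line. -/
theorem euler_twist_line [(CohB1.ProjSpace 1 k).Over (Spec (CommRingCat.of k))]
    (hP : CohB1.ProjSpace 1 k ↘ Spec (CommRingCat.of k) = CohB1.ProjSpace.toSpec 1 k) (n : ℤ) :
    Curv2.euler k (CohB1.ProjSpace 1 k) (Twist.twistProjSpace 1 k n) = n + 1 := by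
  rename_i inst
  obtain rfl : inst = ⟨CohB1.ProjSpace.toSpec 1 k⟩ := by
    cases inst; cases hP; rfl
  rw [CurvLib.euler_eq_sum (k := k) (d := 2) fun q hq =>
    PnCohLib.subsingleton_HH_twist (n := 1) (R := k) n q (by omega) (by omega),
    Groth.Agent.S4466.result k 1 one_pos n, ring_choose_one]
  norm_num

include hπ hφ hσk in
/-- One step in the exceptional coefficient. -/
theorem euler_step (c e : ℤ) :
    Curv2.euler k X (bd π φ c e) = Curv2.euler k X (bd π φ c (e + 1)) + (e + 1) := by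
  obtain ⟨T, hT, ⟨e₁⟩, ⟨e₂⟩, φE, hE, hEk, ⟨e₃⟩⟩ := exists_bd_seq_iso hp hπ φ hφ c e
  haveI := hE
  let Z := (exJ hp π).subscheme
  letI : Z.Over (Spec (CommRingCat.of k)) := ⟨(exJ hp π).subschemeι ≫ (X ↘ Spec (CommRingCat.of k))⟩
  letI : (CohB1.ProjSpace 1 k).Over (Spec (CommRingCat.of k)) := ⟨CohB1.ProjSpace.toSpec 1 k⟩
  haveI := isProper_over hp hπ hσk
  haveI : IsProper (Z ↘ Spec (CommRingCat.of k)) :=
    inferInstanceAs (IsProper ((exJ hp π).subschemeι ≫ (X ↘ Spec (CommRingCat.of k))))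
  haveI : Coh.IsQCoh (Twist.twistProjSpace 1 k e) :=
    FinLFAnn.isQCoh_of_isFinLocFree (AmpleDevLib.isFinLocFree_of_isInvertible (PicPnLib.twist_inv 1 k e))
  rw [euler_split hp hπ hσk hT (isInvertible_bd φ c (e + 1)) (isInvertible_bd φ c e) e₁ e₂ (exJ hp π).subschemeι
    rfl (AmpleDevLib.isInvertible_pb φE (PicPnLib.twist_inv 1 k e)) e₃,
    euler_pb_iso φE (hEk.trans (congrArg (_ ≫ ·) hσk)) (Twist.twistProjSpace 1 k e), euler_twist_line rfl]

include hπ hσk in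
/-- One step in the degree. -/
theorem euler_hyp (c : ℤ) :
    Curv2.euler k X (pO π c) = Curv2.euler k X (pO π (c - 1)) + (c + 1) := by
  obtain ⟨K, G, hG, σ, hσ, hw, hK, -⟩ :=
    exists_hyp_data (P := fun _ : Fin 1 => p) (isClosed_range_const hp) (isBlowUp_const hp hπ)
  haveI := hσ
  obtain ⟨eK⟩ := hK c
  obtain ⟨T, hT, ⟨e₁⟩, ⟨e₂⟩, ⟨e₃⟩⟩ := HdgLefLib.exists_restrict_seq K
    (AmpleDevLib.isFinLocFree_of_isInvertible (isInvertible_pO (π := π) c))
  let P := CohB1.ProjSpace (1 + 1) k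
  let I := LefPen.hypIdeal G
  letI : P.Over (Spec (CommRingCat.of k)) := ⟨CohB1.ProjSpace.toSpec (1 + 1) k⟩
  haveI : IsProper (P ↘ Spec (CommRingCat.of k)) := ProjDegLib.toSpec_isProper k (1 + 1)
  letI : K.subscheme.Over (Spec (CommRingCat.of k)) := ⟨K.subschemeι ≫ (X ↘ Spec (CommRingCat.of k))⟩
  letI : I.subscheme.Over (Spec (CommRingCat.of k)) := ⟨I.subschemeι ≫ (P ↘ Spec (CommRingCat.of k))⟩
  haveI := isProper_over hp hπ hσk
  haveI : IsProper (K.subscheme ↘ Spec (CommRingCat.of k)) :=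
    inferInstanceAs (IsProper (K.subschemeι ≫ (X ↘ Spec (CommRingCat.of k))))
  haveI : IsNoetherian P := CurvLib.isNoetherian k
  haveI : IsLocallyNoetherian I.subscheme := LocallyOfFiniteType.isLocallyNoetherian I.subschemeι
  have hF := PicPnLib.twist_inv (1 + 1) k c
  have hGc := CurvLib.isCoh_of_isInvertible (AmpleDevLib.isInvertible_pb I.subschemeι hF)
  haveI := hGc.1
  rw [euler_split hp hπ hσk hT (isInvertible_pO (c - 1)) (isInvertible_pO c) (e₁ ≪≫ eK) e₂ K.subschemeι rfl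
    (AmpleDevLib.isInvertible_pb _ (isInvertible_pO c)) e₃,
    CurvLib.euler_congr ((Scheme.Modules.pullbackComp _ _).app _ ≪≫ (Scheme.Modules.pullbackCongr hw.symm).app _ ≪≫
      ((Scheme.Modules.pullbackComp σ I.subschemeι).app _).symm :
        (Scheme.Modules.pullback K.subschemeι).obj (pO π c) ≅
          pb σ ((Scheme.Modules.pullback I.subschemeι).obj (Twist.twistProjSpace (1 + 1) k c))),
    euler_pb_iso σ (show σ ≫ I.subschemeι ≫ CohB1.ProjSpace.toSpec (1 + 1) k = K.subschemeι ≫ _ by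
      rw [reassoc_of% hw, hσk])]
  obtain ⟨S, hS, ⟨s₁⟩, ⟨s₂⟩, ⟨s₃⟩⟩ := HdgLefLib.exists_restrict_seq I (AmpleDevLib.isFinLocFree_of_isInvertible hF)
  obtain ⟨eI⟩ := PlaneCurveLib.nonempty_idealMod_iso G hG
  obtain ⟨ea⟩ := PicPnLib.twist_add (1 + 1) k c (-((1 : ℕ) : ℤ))
  have h := CurvLib.euler_add_of_isCoh (k := k) hS
    (QCohLib.isCoh_of_iso (s₁ ≪≫ congrRight _ eI ≪≫ ea).symm (CurvLib.isCoh_of_isInvertible (PicPnLib.twist_inv _ k _)))
    (QCohLib.isCoh_of_iso s₂.symm (CurvLib.isCoh_of_isInvertible hF))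
    (QCohLib.isCoh_of_iso s₃.symm (QCohLib.isCoh_push_finite _ _ hGc))
  rw [CurvLib.euler_congr (s₁ ≪≫ congrRight _ eI ≪≫ ea), CurvLib.euler_congr s₂, CurvLib.euler_congr s₃,
    ← (PushLinLib.euler_push k I.subschemeι rfl _).2, PlaneCurveLib.euler_twist_plane rfl,
    PlaneCurveLib.euler_twist_plane rfl] at h
  have h1 := two_mul_ring_choose_two (c + 2)
  have h2 := two_mul_ring_choose_two (c + -((1 : ℕ) : ℤ) + 2)
  push_cast at h h1 h2
  linarith

include hπ hσk in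
theorem euler_pO (c : ℤ) : 2 * Curv2.euler k X (pO π c) = (c + 1) * (c + 2) := by
  haveI := isProper_over hp hπ hσk
  have h0 : Curv2.euler k X (pO π (-1)) = 0 := by
    rw [CurvLib.euler_eq_sum (d := 0) fun q _ => ?_]
    · simp
    · rcases Nat.eq_zero_or_pos q with rfl | hq
      · exact subsingleton_pO_zero (P := fun _ : Fin 1 => p) (isClosed_range_const hp) (isBlowUp_const hp hπ)
          le_rfl _ (by omega)
      · exact subsingleton_pO_all hp hπ le_rfl _ q hq (by omega)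
  induction c using Int.inductionOn' (b := -1) with
  | zero => rw [h0]; norm_num
  | succ c hc ih => rw [euler_hyp hp hπ hσk (c + 1), add_sub_cancel_right]; linarith
  | pred c hc ih => have := euler_hyp hp hπ hσk c; linarith

include hπ hφ hσk in
/-- **Euler characteristics of all line bundles.** -/
theorem euler_bd (c e : ℤ) : 2 * Curv2.euler k X (bd π φ c e) = (c + 1) * (c + 2) - e * (e + 1) := by
  induction e using Int.inductionOn' (b := 0) with
  | zero =>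
    obtain ⟨z⟩ := nonempty_bd_zero (π := π) φ c
    rw [CurvLib.euler_congr z, euler_pO hp hπ hσk]; ring
  | succ e he ih => have := euler_step hp hπ φ hφ hσk c e; linarith
  | pred e he ih =>
    rw [euler_step hp hπ φ hφ hσk c (e - 1), sub_add_cancel]; linarith

/-- Dimension of the cohomology. -/
abbrev hb (π : X ⟶ CohB1.ProjSpace (1 + 1) k) (φ : X ⟶ CohB1.ProjSpace 1 k) (c e : ℤ) (q : ℕ) : ℕ :=
  Module.finrank k (Coh.HH X (bd π φ c e) q)

include hπ hφ hσk in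
theorem euler_hb (c e : ℤ) :
    2 * ((hb π φ c e 0 : ℤ) - hb π φ c e 1 + hb π φ c e 2) = (c + 1) * (c + 2) - e * (e + 1) := by
  rw [← euler_bd hp hπ φ hφ hσk c e, CurvLib.euler_eq_sum (d := 3) fun q hq => plane_high hp hπ φ hφ c e q hq,
    Finset.sum_range_succ, Finset.sum_range_succ, Finset.sum_range_one]
  ring

theorem hb_eq_zero {c e : ℤ} {q : ℕ} (h : Subsingleton (Coh.HH X (bd π φ c e) q)) : hb π φ c e q = 0 :=
  Module.finrank_zero_of_subsingleton

include hπ hφ in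
theorem hb_zero_neg (c : ℤ) (b : ℕ) : hb π φ c (-(b : ℤ)) 0 = hb π φ c 0 0 := by
  induction b with
  | zero => simp
  | succ b ih =>
    rw [← ih]
    obtain ⟨T, hT, ⟨e₁⟩, ⟨e₂⟩, h₃⟩ := exists_bd_seq hp hπ φ hφ c (-((b + 1 : ℕ) : ℤ))
    have h := finrank_zero_eq (k := k) hT (h₃ 0 (PnCohLib.subsingleton_HH_twist _ 0 (fun x => by omega) (fun x => by omega)))
    rw [(CurvLib.hIso (k := k) e₁ 0).finrank_eq, (CurvLib.hIso (k := k) e₂ 0).finrank_eq] at h
    rw [show -((b + 1 : ℕ) : ℤ) + 1 = -(b : ℤ) by push_cast; ring] at h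
    exact h.symm

include hπ hφ in
theorem hb_two_pos (c : ℤ) (b : ℕ) : hb π φ c (b : ℤ) 2 = hb π φ c 0 2 := by
  induction b with
  | zero => simp
  | succ b ih =>
    rw [← ih]
    obtain ⟨T, hT, ⟨e₁⟩, ⟨e₂⟩, h₃⟩ := exists_bd_seq hp hπ φ hφ c (b : ℤ)
    have h := finrank_succ_eq (k := k) hT 1
      (h₃ 1 (PnCohLib.subsingleton_HH_twist _ 1 (fun x => by omega) (fun x => by omega)))
      (h₃ 2 (PnCohLib.subsingleton_HH_twist _ 2 (fun x => by omega) (fun x => by omega)))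
    rw [(CurvLib.hIso (k := k) e₁ (1 + 1)).finrank_eq, (CurvLib.hIso (k := k) e₂ (1 + 1)).finrank_eq] at h
    rwa [Nat.cast_succ]

include hπ hφ hσk in
theorem hb_pO_zero (c : ℤ) : hb π φ c 0 0 = (c + 2).toNat.choose 2 := by
  rcases lt_or_ge c 0 with h | h
  · rw [hb_eq_zero φ (plane_h0 hp hπ φ hφ c 0 (Or.inl h)), Nat.choose_eq_zero_of_lt (by omega)]
  · have h1 := hb_eq_zero φ (bd_pos hp hπ φ hφ le_rfl c 0 1 (by simpa using h) le_rfl)
    have h2 := hb_eq_zero φ (bd_pos hp hπ φ hφ le_rfl c 0 2 (by simpa using h) (by norm_num))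
    have hE := euler_hb hp hπ φ hφ hσk c 0
    simp only [Nat.cast_zero] at h1 h2
    rw [h1, h2] at hE
    have hC := two_mul_choose_two (c + 2).toNat
    rw [show (((c + 2).toNat : ℕ) : ℤ) = c + 2 by omega] at hC
    push_cast at hE
    have : ((hb π φ c 0 0 : ℕ) : ℤ) = (((c + 2).toNat.choose 2 : ℕ) : ℤ) := by linarith
    exact_mod_cast this

include hπ hφ hσk in
theorem hb_pO_two (c : ℤ) : hb π φ c 0 2 = (-c - 1).toNat.choose 2 := by
  rcases le_or_gt (-1 : ℤ) c with h | h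
  · rw [hb_eq_zero φ (plane_h2 hp hπ φ hφ c 0 (by omega)), Nat.choose_eq_zero_of_lt (by omega)]
  · have h0 := hb_eq_zero φ (plane_h0 hp hπ φ hφ c 0 (Or.inl (by omega)))
    have h1 := hb_eq_zero φ (plane_h1 hp hπ φ hφ c 0 (by omega) le_rfl)
    have hE := euler_hb hp hπ φ hφ hσk c 0
    rw [h0, h1] at hE
    have hC := two_mul_choose_two (-c - 1).toNat
    rw [show (((-c - 1).toNat : ℕ) : ℤ) = -c - 1 by omega] at hC
    push_cast at hE
    have : ((hb π φ c 0 2 : ℕ) : ℤ) = (((-c - 1).toNat.choose 2 : ℕ) : ℤ) := by linarith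
    exact_mod_cast this

include hπ hφ hσk in
/-- **Cohomology of `pH - bE`.** -/
theorem cases_neg (c : ℤ) (b : ℕ) :
    ((b : ℤ) ≤ c → (hb π φ c b 0 : ℤ) = ((c + 2).toNat.choose 2 : ℤ) - ((b + 1).choose 2 : ℤ) ∧
      hb π φ c b 1 = 0 ∧ hb π φ c b 2 = 0) ∧
    (c = (b : ℤ) - 1 → hb π φ c b 0 = 0 ∧ hb π φ c b 1 = 0 ∧ hb π φ c b 2 = 0) ∧
    (c ≤ (b : ℤ) - 2 → hb π φ c b 0 = 0 ∧
      (hb π φ c b 1 : ℤ) = ((b + 1).choose 2 : ℤ) - ((c + 2).toNat.choose 2 : ℤ) ∧
      hb π φ c b 2 = (-c - 1).toNat.choose 2) := by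
  have hE := euler_hb hp hπ φ hφ hσk c b
  have hB := two_mul_choose_two (b + 1)
  push_cast at hB
  refine ⟨fun h => ?_, fun h => ?_, fun h => ?_⟩
  · have h1 := hb_eq_zero φ (bd_pos hp hπ φ hφ le_rfl c b 1 h le_rfl)
    have h2 := hb_eq_zero φ (bd_pos hp hπ φ hφ le_rfl c b 2 h (by norm_num))
    have hC := two_mul_choose_two (c + 2).toNat
    rw [show (((c + 2).toNat : ℕ) : ℤ) = c + 2 by omega] at hC
    rw [h1, h2] at hE
    push_cast at hE
    exact ⟨by linarith, h1, h2⟩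
  · subst h
    have hd := fun q => diag hp hπ φ hφ le_rfl ((b : ℤ) - 1) q
    simp only [sub_add_cancel] at hd
    exact ⟨hb_eq_zero φ (hd 0), hb_eq_zero φ (hd 1), hb_eq_zero φ (hd 2)⟩
  · have h0 := hb_eq_zero φ (plane_h0 hp hπ φ hφ c b (Or.inr (by omega)))
    have h2 := (hb_two_pos hp hπ φ hφ c b).trans (hb_pO_two hp hπ φ hφ hσk c)
    refine ⟨h0, ?_, h2⟩
    rw [h0, h2] at hE
    push_cast at hE
    rcases le_or_gt (-1 : ℤ) c with hc | hc
    · rw [Nat.choose_eq_zero_of_lt (show (-c - 1).toNat < 2 by omega)] at hE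
      have hC := two_mul_choose_two (c + 2).toNat
      rw [show (((c + 2).toNat : ℕ) : ℤ) = c + 2 by omega] at hC
      push_cast at hE
      linarith
    · rw [Nat.choose_eq_zero_of_lt (show (c + 2).toNat < 2 by omega)]
      have hC := two_mul_choose_two (-c - 1).toNat
      rw [show (((-c - 1).toNat : ℕ) : ℤ) = -c - 1 by omega] at hC
      push_cast
      linarith

include hπ hφ hσk in
/-- **Cohomology of `pH + bE`.** -/
theorem cases_pos (c : ℤ) (b : ℕ) :
    (0 ≤ c + b → hb π φ c (-(b : ℤ)) 0 = (c + 2).toNat.choose 2 ∧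
      (hb π φ c (-(b : ℤ)) 1 : ℤ) = (b.choose 2 : ℤ) - ((-c - 1).toNat.choose 2 : ℤ) ∧
      hb π φ c (-(b : ℤ)) 2 = 0) ∧
    (c + b = -1 → hb π φ c (-(b : ℤ)) 0 = 0 ∧ hb π φ c (-(b : ℤ)) 1 = 0 ∧ hb π φ c (-(b : ℤ)) 2 = 0) ∧
    (c + b ≤ -2 → hb π φ c (-(b : ℤ)) 0 = 0 ∧ hb π φ c (-(b : ℤ)) 1 = 0 ∧
      (hb π φ c (-(b : ℤ)) 2 : ℤ) = ((-c - 1).toNat.choose 2 : ℤ) - (b.choose 2 : ℤ)) := by
  have hE := euler_hb hp hπ φ hφ hσk c (-(b : ℤ))
  have hB := two_mul_choose_two b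
  refine ⟨fun h => ?_, fun h => ?_, fun h => ?_⟩
  · have h0 := (hb_zero_neg hp hπ φ hφ c b).trans (hb_pO_zero hp hπ φ hφ hσk c)
    have h2 := hb_eq_zero φ (plane_h2 hp hπ φ hφ c (-(b : ℤ)) (by omega))
    refine ⟨h0, ?_, h2⟩
    rw [h0, h2] at hE
    push_cast at hE
    rcases le_or_gt (-1 : ℤ) c with hc | hc
    · rw [Nat.choose_eq_zero_of_lt (show (-c - 1).toNat < 2 by omega)]
      have hC := two_mul_choose_two (c + 2).toNat
      rw [show (((c + 2).toNat : ℕ) : ℤ) = c + 2 by omega] at hC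
      push_cast
      linarith
    · rw [Nat.choose_eq_zero_of_lt (show (c + 2).toNat < 2 by omega)] at hE
      have hC := two_mul_choose_two (-c - 1).toNat
      rw [show (((-c - 1).toNat : ℕ) : ℤ) = -c - 1 by omega] at hC
      push_cast at hE
      linarith
  · obtain rfl : c = -(b : ℤ) - 1 := by omega
    have hd := fun q => diag hp hπ φ hφ le_rfl (-(b : ℤ) - 1) q
    simp only [sub_add_cancel] at hd
    exact ⟨hb_eq_zero φ (hd 0), hb_eq_zero φ (hd 1), hb_eq_zero φ (hd 2)⟩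
  · have h0 := hb_eq_zero φ (plane_h0 hp hπ φ hφ c (-(b : ℤ)) (Or.inl (by omega)))
    have h1 := hb_eq_zero φ (plane_h1 hp hπ φ hφ c (-(b : ℤ)) (by omega) (by omega))
    refine ⟨h0, h1, ?_⟩
    rw [h0, h1] at hE
    have hC := two_mul_choose_two (-c - 1).toNat
    rw [show (((-c - 1).toNat : ℕ) : ℤ) = -c - 1 by omega] at hC
    push_cast at hE
    linarith

end Plane

/-- Powers of an effective Cartier ideal. -/
theorem nonempty_idealMod_pow {X : Scheme.{u}} (I : X.IdealSheafData) (hI : BlowUp.IsEffCartierIdeal I) :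
    ∀ b : ℕ, BlowUp.IsEffCartierIdeal (I ^ b) ∧
      Nonempty (CohB1.tensorPow (ClSub.idealMod I) b ≅ ClSub.idealMod (I ^ b))
  | 0 => by
    obtain ⟨e⟩ := nonempty_idealMod_top X
    rw [pow_zero, Scheme.IdealSheafData.one_eq_top]
    exact ⟨IntMultLib.isEffCartier_of_isInvertible _
      (HilbPolyLib.isInvertible_of_iso e.symm CurvLib.isInvertible_structureModule), ⟨e.symm⟩⟩
  | b + 1 => by
    obtain ⟨h, ⟨e⟩⟩ := nonempty_idealMod_pow I hI b
    obtain ⟨m⟩ := SurfNumLib.nonempty_idealMod_mul h hI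
    rw [pow_succ]
    exact ⟨SDivLib.isEffCartier_mul h hI, ⟨congrLeft e _ ≪≫ m⟩⟩

section Ideal

variable {k : Type u} [Field k] [IsAlgClosed k] {m : ℕ} {p : ↥(CohB1.ProjSpace (m + 1) k)}
  (hp : IsClosed ({p} : Set ↥(CohB1.ProjSpace (m + 1) k))) {X : Scheme.{u}}
  {π : X ⟶ CohB1.ProjSpace (m + 1) k}
  (hπ : BlowUp.IsBlowUp π (Scheme.IdealSheafData.vanishingIdeal ⟨{p}, hp⟩))
  (φ : X ⟶ CohB1.ProjSpace m k) (hφ : Nonempty (pb φ (Twist.twistProjSpace m k 1) ≅ lnL hp π))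

include hπ hφ in
theorem nonempty_idealPow_bd (c : ℤ) (b : ℕ) :
    Nonempty (CohB1.tensorMod (pO π c) (ClSub.idealMod (exJ hp π ^ b)) ≅ bd π φ c b) := by
  obtain ⟨-, ⟨e⟩⟩ := nonempty_idealMod_pow (exJ hp π) hπ.1 b
  obtain ⟨f⟩ := nonempty_exJ_pow hp φ hφ c b
  exact ⟨congrRight _ e.symm ≪≫ f⟩

include hφ in
theorem nonempty_inversePow_bd (L : X.Modules) (hL : ClSub.IsInverseOf L (ClSub.idealMod (exJ hp π))) (c : ℤ) (b : ℕ) :
    Nonempty (CohB1.tensorMod (pO π c) (CohB1.tensorPow L b) ≅ bd π φ c (-(b : ℤ))) := by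
  obtain ⟨z⟩ := hL
  obtain ⟨j⟩ := nonempty_exJ_bd hp φ hφ
  obtain ⟨w⟩ := nonempty_bd_zero (π := π) φ (0 : ℤ)
  obtain ⟨w'⟩ := nonempty_pb_twist_zero π
  obtain ⟨a⟩ := nonempty_bd_add (π := π) φ 0 0 1 (-1)
  have hB : CohB1.tensorMod (bd π φ 0 1) (bd π φ 0 (-1)) ≅ Coh.structureModule X :=
    a ≪≫ eqToIso (by rw [add_zero, show (1 : ℤ) + -1 = 0 by norm_num]) ≪≫ w ≪≫ w'
  obtain ⟨l⟩ := nonempty_inverse_congr z hB j
  obtain ⟨lb⟩ := CurveDualLib.nonempty_tensorPow_congr l b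
  obtain ⟨f⟩ := nonempty_bd_pow (π := π) φ 0 (-1) b
  obtain ⟨y⟩ := nonempty_bd_zero (π := π) φ c
  obtain ⟨a'⟩ := nonempty_bd_add (π := π) φ c (0 * b) 0 (-1 * b)
  exact ⟨congrLeft y.symm _ ≪≫ congrRight _ (lb ≪≫ f) ≪≫ a' ≪≫ eqToIso (by simp)⟩

end Ideal

end BlowPtLib
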