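import Groth.Agent.BlowPtLib.Zero
import Groth.Agent.SurfNumLib.IdealMul
import Groth.Agent.MeroLib.RegSec
import Groth.Agent.EllLawLib.Point
import Groth.Agent.GenusZeroLib.Embed

/-!
# The projection from the blown-up point
-/

set_option autoImplicit false
set_option linter.style.haveILetI false
set_option linter.unusedSectionVars false
set_option maxHeartbeats 1000000
set_option backward.isDefEq.respectTransparency false
set_option backward.isDefEq.respectTransparency.types false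

universe u

open CategoryTheory CategoryTheory.Limits AlgebraicGeometry TopologicalSpace Opposite
open HilbPolyLib (congrLeft congrRight assocIso swapIso unitLeft)
open KFlatLib (pb puSec)

noncomputable section

namespace BlowPtLib

/-- Two generators give the same generation test. -/
theorem genAt_of_unit {X : Scheme.{u}} {M N : X.Modules} (φ : M ⟶ N) {W : X.Opens} {x : X} (hx : x ∈ W)
    {σ τ : Γ(M, W)} (hσ : AmpleLib.GenOn M σ) (hτ : AmpleLib.GenOn M τ)
    (h : AmpleLib.GenAt N (φ.app W σ) hx) : AmpleLib.GenAt N (φ.app W τ) hx := by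
  obtain ⟨r, hr⟩ := (hσ W le_rfl).2 τ
  simp only [AmpleLib.res_refl] at hr
  have hu : x ∈ X.basicOpen r :=
    (AmpleLib.genAt_smul_iff r σ hx (hσ.genAt hx)).1 (by rw [hr]; exact hτ.genAt hx)
  rw [← hr, show φ.app W (r • σ) = r • φ.app W σ from QCohLib.app_smul φ W r σ]
  exact (AmpleLib.genAt_smul_iff r _ hx h).2 hu

/-- Tensoring on the left. -/
def tensL {X : Scheme.{u}} (A : X.Modules) {B C : X.Modules} (u : B ⟶ C) :
    CohB1.tensorMod A B ⟶ CohB1.tensorMod A C :=
  ((DCoh.tensorBi (X := X)).map (𝟙 A)).app B ≫ ((DCoh.tensorBi (X := X)).obj A).map u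

theorem tensL_shT {X : Scheme.{u}} (A : X.Modules) {B C : X.Modules} (u : B ⟶ C) {W : X.Opens}
    (a : Γ(A, W)) (b : Γ(B, W)) :
    (tensL A u).app W (AmpleLib.shT a b) = AmpleLib.shT a (u.app W b) :=
  KFlatLib.tensorBi_map_shApp (𝟙 A) u W a b

/-- The generator of a trivial tensor product, pushed along a map generating at a point. -/
theorem genAt_tensL {X : Scheme.{u}} {A B C : X.Modules} (i : Coh.structureModule X ≅ CohB1.tensorMod A B)
    (u : B ⟶ C) (x : X) {W : X.Opens} (hx : x ∈ W) {a : Γ(A, W)} {b : Γ(B, W)}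
    (ha : AmpleLib.GenOn A a) (hb : AmpleLib.GenOn B b) (hc : AmpleLib.GenAt C (u.app W b) hx) :
    AmpleLib.GenAt (CohB1.tensorMod A C) ((i.hom ≫ tensL A u).app ⊤ (1 : Γ(X, ⊤)))
      (show x ∈ (⊤ : X.Opens) from trivial) := by
  have h1 : AmpleLib.GenAt (CohB1.tensorMod A C) ((tensL A u).app W (AmpleLib.shT a b)) hx := by
    rw [tensL_shT]
    exact (ha.genAt hx).tensor hc
  have hab : AmpleLib.GenOn (CohB1.tensorMod A B) (AmpleLib.shT a b) :=
    TwistLib.genOn_of_genAt fun y hy => (ha.genAt hy).tensor (hb.genAt hy)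
  have h2 : AmpleLib.GenOn (CohB1.tensorMod A B) (i.hom.app W (1 : Γ(X, W))) :=
    MeroLib.genOn_iso i.hom (AmpleLib.one_genOn W)
  have h3 := genAt_of_unit (tensL A u) hx hab h2 h1
  refine (AmpleLib.genAt_res (le_top : W ≤ ⊤) _ hx).1 ?_
  have e1 := MeroLib.app_res' (i.hom ≫ tensL A u) (le_top : W ≤ ⊤) (1 : Γ(X, ⊤))
  rw [show AmpleLib.res (Coh.structureModule X) (le_top : W ≤ ⊤) (1 : Γ(X, ⊤)) = (1 : Γ(X, W)) from
    map_one (X.presheaf.map (homOfLE (le_top : W ≤ ⊤)).op).hom] at e1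
  rw [← e1]
  exact h3

variable {k : Type u} [Field k] [IsAlgClosed k] {m : ℕ} {p : ↥(CohB1.ProjSpace (m + 1) k)}
  (hp : IsClosed ({p} : Set ↥(CohB1.ProjSpace (m + 1) k))) {X : Scheme.{u}}
  {π : X ⟶ CohB1.ProjSpace (m + 1) k}
  (hπ : BlowUp.IsBlowUp π (Scheme.IdealSheafData.vanishingIdeal ⟨{p}, hp⟩))

/-- The exceptional ideal of the single point. -/
abbrev exJ (π : X ⟶ CohB1.ProjSpace (m + 1) k) : X.IdealSheafData :=
  (Scheme.IdealSheafData.vanishingIdeal ⟨{p}, hp⟩).comap π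

/-- `π^*O(1) ⊗ I_E` -/
abbrev lnL (π : X ⟶ CohB1.ProjSpace (m + 1) k) : X.Modules :=
  CohB1.tensorMod (pO π 1) (ClSub.idealMod (exJ hp π))

include hπ in
/-- **Projection from the point.** -/
theorem exists_projection :
    ∃ φ : X ⟶ CohB1.ProjSpace m k, φ ≫ CohB1.ProjSpace.toSpec m k = π ≫ CohB1.ProjSpace.toSpec (m + 1) k ∧
      Nonempty (pb φ (Twist.twistProjSpace m k 1) ≅ lnL hp π) := by
  classical
  let Q := CohB1.ProjSpace (m + 1) k
  obtain ⟨C, hvan, hne, hcut⟩ := exists_cut_forms (m + 1) k hp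
  let G : Fin (m + 1) → LefPen.Form (m + 1) k 1 := fun l => ⟨ProjDegLib.form (m + 1) k (C l), sum_mem fun i _ => by
    rw [MvPolynomial.mem_homogeneousSubmodule]
    simpa using (MvPolynomial.isHomogeneous_C _ (C l i)).mul (MvPolynomial.isHomogeneous_X k i)⟩
  have hG : ∀ l, G l ≠ 0 := fun l h => hne l (funext fun i => by
    have h1 := congrArg (MvPolynomial.coeff (Finsupp.single i 1)) (congrArg Subtype.val h)
    simpa [G, ProjDegLib.form, MvPolynomial.coeff_sum, MvPolynomial.coeff_C_mul, MvPolynomial.coeff_X',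
      Finsupp.single_left_inj] using h1)
  let Ip := Scheme.IdealSheafData.vanishingIdeal (⟨{p}, hp⟩ : Closeds Q)
  let D : Fin (m + 2) → Q.affineOpens := fun a => ⟨LefPen.chart (m + 1) k a, CIGen.chart_affine a⟩
  have hle : ∀ l, LefPen.hypIdeal (G l) ≤ Ip := fun l => by
    refine Scheme.IdealSheafData.le_support_iff_le_vanishingIdeal.1 ?_
    intro x hx
    obtain rfl : x = p := hx
    obtain ⟨a, ha⟩ := ProjDegLib.exists_chart (m + 1) k x
    refine ((LefPen.hypIdeal (G l)).mem_support_iff_of_mem (U := D a) ha).2 ?_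
    rw [CIGen.hypIdeal_chart, Scheme.zeroLocus_span, Scheme.mem_zeroLocus_iff]
    rintro _ rfl hx'
    exact (IsLocalRing.mem_maximalIdeal _).1 ((ProjDegLib.van_iff _ _ ha (C l)).1 (hvan l))
      ((Scheme.mem_basicOpen _ _ _ ha).1 hx')
  choose inc hinc using fun l => EllLawLib.exists_idealIncl
    (Scheme.IdealSheafData.comap_mono π (hle l))
  obtain ⟨eO⟩ := PicPnLib.twist_add (m + 1) k 1 (-((1 : ℕ) : ℤ))
  obtain ⟨z⟩ := PicPnLib.twist_zero (m + 1) k
  have hiso : ∀ l, Nonempty (Coh.structureModule X ≅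
      CohB1.tensorMod (pO π 1) (pb π (ClSub.idealMod (LefPen.hypIdeal (G l))))) := fun l => by
    obtain ⟨eI⟩ := PlaneCurveLib.nonempty_idealMod_iso (G l) (hG l)
    obtain ⟨q⟩ := nonempty_pb_tensor π (Twist.twistProjSpace (m + 1) k 1) (ClSub.idealMod (LefPen.hypIdeal (G l)))
    exact ⟨(KFlatLib.pullUnitIso π).symm ≪≫ (Scheme.Modules.pullback π).mapIso (z.symm ≪≫
      eqToIso (congrArg (Twist.twistProjSpace (m + 1) k) (by simp : (0 : ℤ) = 1 + -((1 : ℕ) : ℤ))) ≪≫ eO.symm ≪≫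
      congrRight _ eI.symm) ≪≫ q⟩
  let u : ∀ l, pb π (ClSub.idealMod (LefPen.hypIdeal (G l))) ⟶ ClSub.idealMod (exJ hp π) :=
    fun l => PicH1Lib.toComap π (LefPen.hypIdeal (G l)) ≫ inc l
  let v : Fin (m + 1) → Γ(lnL hp π, ⊤) := fun l =>
    ((hiso l).some.hom ≫ tensL (pO π 1) (u l)).app ⊤ (1 : Γ(X, ⊤))
  have hcart : BlowUp.IsEffCartierIdeal (exJ hp π) := hπ.1
  have hL : PicF.IsInvertible (lnL hp π) :=
    HilbPolyLib.isInvertible_tensor (isInvertible_pO 1) (IntMultLib.isInvertible_idealMod _ hcart)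
  have hgen : ∀ y : X, ∃ l, y ∈ TwistLib.genSet hL (v l) := fun y => by
    obtain ⟨T₀, hyT₀, g, hg, hJ⟩ := hcart y
    obtain ⟨a, ha⟩ := ProjDegLib.exists_chart (m + 1) k (π y)
    obtain ⟨T, hT, hyT, hTle⟩ := exists_isAffineOpen_mem_and_subset (x := y) (U := T₀.1 ⊓ π ⁻¹ᵁ (D a).1) ⟨hyT₀, ha⟩
    let Ta : X.affineOpens := ⟨T, hT⟩
    have hTD : T ≤ π ⁻¹ᵁ (D a).1 := fun z hz => (hTle hz).2
    have hT0 : T ≤ T₀.1 := fun z hz => (hTle hz).1
    let g' : Γ(X, T) := X.presheaf.map (homOfLE hT0).op g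
    have hJT : (exJ hp π).ideal Ta = Ideal.span {g'} := by
      rw [← (exJ hp π).map_ideal (U := Ta) (V := T₀) hT0, hJ, Ideal.map_span, Set.image_singleton]
      rfl
    let κ := (π.appLE (D a).1 T hTD).hom
    let f : Fin (m + 1) → Γ(X, T) := fun l => κ (ProjDegLib.L (m + 1) k a (C l))
    have hspan : Ideal.span (Set.range f) = Ideal.span {g'} := by
      rw [← hJT, Groth.Agent.S4666.ideal_comap_eq Ip π (D a) Ta hTD, show Ip.ideal (D a) = _ from hcut a,
        Ideal.map_span, ← Set.range_comp]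
      rfl
    have hf : ∀ l, ∃ h, h * g' = f l := fun l => Ideal.mem_span_singleton'.1 (hspan ▸ Ideal.subset_span ⟨l, rfl⟩)
    choose h hh using hf
    have hg' : X.presheaf.germ T y hyT g' ∈ nonZeroDivisors (X.presheaf.stalk y) := by
      rw [show g' = X.presheaf.map (homOfLE hT0).op g from rfl, TopCat.Presheaf.germ_res_apply]
      letI := TopCat.Presheaf.algebra_section_stalk X.presheaf ⟨y, hyT₀⟩
      haveI := T₀.2.isLocalization_stalk ⟨y, hyT₀⟩
      exact IsLocalization.map_nonZeroDivisors_le (T₀.2.primeIdealOf ⟨y, hyT₀⟩).asIdeal.primeCompl _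
        (Submonoid.mem_map_of_mem (algebraMap Γ(X, T₀.1) (X.presheaf.stalk y)).toMonoidHom hg)
    obtain ⟨c, hc⟩ := Ideal.mem_span_range_iff_exists_fun.1
      (hspan.ge (Ideal.mem_span_singleton_self g'))
    have h1 : X.presheaf.germ T y hyT (∑ l, c l * h l) = 1 := by
      refine (mul_cancel_right_mem_nonZeroDivisors hg').1 ?_
      rw [one_mul, ← map_mul, Finset.sum_mul]
      refine congrArg (X.presheaf.germ T y hyT) ?_
      refine Eq.trans ?_ hc
      exact Finset.sum_congr rfl fun l _ => by rw [mul_assoc, hh]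
    obtain ⟨l, hl⟩ : ∃ l, IsUnit (X.presheaf.germ T y hyT (h l)) := by
      by_contra! hall
      refine (IsLocalRing.maximalIdeal.isMaximal (X.presheaf.stalk y)).ne_top ((Ideal.eq_top_iff_one _).2 ?_)
      rw [← h1, map_sum]
      refine sum_mem fun l _ => ?_
      rw [map_mul]
      exact Ideal.mul_mem_left _ _ ((IsLocalRing.mem_maximalIdeal _).2 (hall l))
    refine ⟨l, ?_⟩
    obtain ⟨τ, hτ⟩ := IntMultLib.exists_section (LefPen.hypIdeal (G l)) (D a)
      (a := ProjDegLib.L (m + 1) k a (C l)) (by rw [CIGen.hypIdeal_chart]; exact Ideal.subset_span rfl)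
    haveI : IsIntegral Q := GenusZeroLib.isIntegral_projSpace k (m + 1)
    have hL0 : ProjDegLib.L (m + 1) k a (C l) ≠ 0 := by
      intro h0
      have hI : (LefPen.hypIdeal (G l)).ideal (D a) = ⊥ := by
        rw [CIGen.hypIdeal_chart]
        exact Ideal.span_singleton_eq_bot.2 h0
      obtain ⟨eI⟩ := PlaneCurveLib.nonempty_idealMod_iso (G l) (hG l)
      obtain ⟨U, hU, r, hr, hIU⟩ := IntMultLib.isEffCartier_of_isInvertible _
        (HilbPolyLib.isInvertible_of_iso eI.symm (PicPnLib.twist_inv _ k _)) (π y)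
      obtain ⟨V, hV, hyV, hVle⟩ := exists_isAffineOpen_mem_and_subset (x := π y) (U := U.1 ⊓ (D a).1) ⟨hU, ha⟩
      haveI : Nonempty V := ⟨⟨π y, hyV⟩⟩
      have e1 := (LefPen.hypIdeal (G l)).map_ideal (U := ⟨V, hV⟩) (V := D a) (fun z hz => (hVle hz).2)
      have e2 := (LefPen.hypIdeal (G l)).map_ideal (U := ⟨V, hV⟩) (V := U) (fun z hz => (hVle hz).1)
      rw [hI, Ideal.map_bot] at e1
      rw [hIU, ← e1, Ideal.map_span, Set.image_singleton, Ideal.span_singleton_eq_bot] at e2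
      haveI : Nonempty U.1 := ⟨⟨π y, hU⟩⟩
      have h00 : r = 0 := map_injective_of_isIntegral Q (homOfLE fun z hz => (hVle hz).1) (e2.trans (map_zero _).symm)
      exact nonZeroDivisors.ne_zero hr h00
    haveI : Nonempty (D a).1 := ⟨⟨π y, ha⟩⟩
    have hτg : AmpleLib.GenOn (ClSub.idealMod (LefPen.hypIdeal (G l))) τ :=
      SurfNumLib.genOn_of_generator _ (D a) (mem_nonZeroDivisors_of_ne_zero hL0) (CIGen.hypIdeal_chart (G l) a) hτ
    have hb : AmpleLib.GenOn (pb π (ClSub.idealMod (LefPen.hypIdeal (G l))))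
        (AmpleLib.res _ hTD (puSec π τ)) :=
      TwistLib.genOn_of_genAt fun z hz => (AmpleLib.genAt_res hTD _ hz).2 (TwistLib.GenAt.puSec π (hτg.genAt (hTD hz)))
    have ha' : AmpleLib.GenOn (pO π 1) (AmpleLib.res _ hTD (puSec π
        (AmpleLib.res (Twist.twistProjSpace (m + 1) k 1) (le_top : (D a).1 ≤ ⊤) (ProjUP.coord (m + 1) k a)))) :=
      TwistLib.genOn_of_genAt fun z hz => (AmpleLib.genAt_res hTD _ hz).2
        (TwistLib.GenAt.puSec π (ProjDegLib.genAt_coord (m + 1) k (hTD hz)))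
    have hval : SurfNumLib.val (exJ hp π) ((u l).app T (AmpleLib.res _ hTD (puSec π τ))) = f l := by
      show (ClSub.idealModι (exJ hp π)).app T ((u l).app T _) = _
      rw [← ConcreteCategory.comp_apply, ← Scheme.Modules.Hom.comp_app, Category.assoc, hinc l,
        PicH1Lib.toComap_ι]
      refine (MeroLib.app_res' (PicH1Lib.pullIdeal π (LefPen.hypIdeal (G l))) hTD (puSec π τ)).trans ?_
      rw [PicH1Lib.pullIdeal_puSec]
      refine (congrArg (X.presheaf.map (homOfLE hTD).op) (congrArg (π.app (D a).1) hτ)).trans ?_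
      rfl
    obtain ⟨σ, hσ⟩ := IntMultLib.exists_section (exJ hp π) Ta (a := g') (hJT.ge (Ideal.mem_span_singleton_self g'))
    have hσg : AmpleLib.GenAt (ClSub.idealMod (exJ hp π)) σ hyT := by
      have hg2 : g' ∈ nonZeroDivisors Γ(X, T) := by
        haveI := isIntegral_X (P := fun _ : Fin 1 => p) (by rw [Set.range_const]; exact hp) (π := π) (by
          have e : (⟨Set.range fun _ : Fin 1 => p, by rw [Set.range_const]; exact hp⟩ : Closeds Q) = ⟨{p}, hp⟩ :=
            Closeds.ext Set.range_const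
          rw [e]; exact hπ)
        haveI : Nonempty T := ⟨⟨y, hyT⟩⟩
        refine mem_nonZeroDivisors_of_ne_zero fun h0 => nonZeroDivisors.ne_zero hg' ?_
        rw [h0, map_zero]
      exact (SurfNumLib.genOn_of_generator _ Ta hg2 hJT hσ).genAt hyT
    have hu' : (u l).app T (AmpleLib.res _ hTD (puSec π τ)) = h l • σ := by
      refine IntMultLib.idealModι_app_injective (exJ hp π) T (hval.trans ?_)
      rw [← hh l]
      exact ((IntMultLib.idealModι_smul (exJ hp π) T (h l) σ).trans (congrArg (h l * ·) hσ)).symm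
    refine genAt_tensL (hiso l).some (u l) y hyT ha' hb ?_
    rw [hu', AmpleLib.genAt_smul_iff _ _ hyT hσg, Scheme.mem_basicOpen _ _ _ hyT]
    exact hl
  obtain ⟨r, hr, -, -, ⟨er⟩⟩ := GenusZeroLib.exists_toPA_iso (π ≫ CohB1.ProjSpace.toSpec (m + 1) k) hL v hgen
  exact ⟨r, hr, ⟨eqToIso (by rw [Nat.cast_one]; rfl) ≪≫ er⟩⟩

end BlowPtLib
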