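import Groth.Agent.BlowPtLib.Exceptional
import Groth.Agent.HdgLefLib.Main
import Groth.Agent.HodgePnLib.Vanish
import Groth.Agent.PnCohLib.Twist
import Groth.Agent.PlaneCurveLib.Coh
import Groth.Agent.CurveDualLib.Family
import Groth.Agent.QuotSchLib.Fibre
import Groth.Agent.HilbPolyLib.Twist

/-!
# The restriction sequences on the blow-up of projective space at points
-/

set_option autoImplicit false
set_option linter.style.haveILetI false
set_option linter.unusedSectionVars false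
set_option maxHeartbeats 1000000
set_option backward.isDefEq.respectTransparency false
set_option backward.isDefEq.respectTransparency.types false

universe u

open CategoryTheory CategoryTheory.Limits AlgebraicGeometry TopologicalSpace Opposite
open HilbPolyLib (congrLeft congrRight assocIso swapIso unitLeft)

noncomputable section

namespace BlowPtLib

theorem nonempty_pb_tensor {Z Y : Scheme.{u}} (g : Z ⟶ Y) (A B : Y.Modules) :
    Nonempty ((Scheme.Modules.pullback g).obj (CohB1.tensorMod A B) ≅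
      CohB1.tensorMod ((Scheme.Modules.pullback g).obj A) ((Scheme.Modules.pullback g).obj B)) := by
  haveI := KFlatLib.isIso_pullθ g A B
  exact ⟨@asIso _ _ _ _ (KFlatLib.pullθ g A B) this⟩

/-- Powers of the twist. -/
theorem nonempty_twist_tensorPow (m : ℕ) (k : Type u) [Field k] : ∀ d : ℕ,
    Nonempty (CohB1.tensorPow (Twist.twistProjSpace m k 1) d ≅ Twist.twistProjSpace m k (d : ℤ))
  | 0 => by
    obtain ⟨e⟩ := PicPnLib.twist_zero m k
    exact ⟨e.symm⟩
  | d + 1 => by
    obtain ⟨e⟩ := nonempty_twist_tensorPow m k d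
    obtain ⟨f⟩ := PicPnLib.twist_add m k (d : ℤ) 1
    exact ⟨congrLeft e _ ≪≫ f⟩

/-- Push forward from a closed subscheme and a transported twist. -/
theorem sub_push_twist {X : Scheme.{u}} {I : X.IdealSheafData} {k : Type u} [Field k] {m : ℕ}
    (φ : I.subscheme ⟶ CohB1.ProjSpace m k) [IsIso φ] {G : I.subscheme.Modules} {j : ℤ}
    (e : G ≅ (Scheme.Modules.pullback φ).obj (Twist.twistProjSpace m k j)) (q : ℕ)
    (h : Subsingleton (Coh.HH (CohB1.ProjSpace m k) (Twist.twistProjSpace m k j) q)) :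
    Subsingleton (Coh.HH X ((Coh.push I.subschemeι).obj G) q) := by
  haveI hq : Coh.IsQCoh (Twist.twistProjSpace m k j) :=
    FinLFAnn.isQCoh_of_isFinLocFree (AmpleDevLib.isFinLocFree_of_isInvertible (PicPnLib.twist_inv m k j))
  haveI : Coh.IsQCoh G := FinLFAnn.isQCoh_of_isFinLocFree (AmpleDevLib.isFinLocFree_of_isInvertible
    (HilbPolyLib.isInvertible_of_iso e.symm (AmpleDevLib.isInvertible_pb φ (PicPnLib.twist_inv m k j))))
  obtain ⟨E⟩ := QCohLib.nonempty_HH_push I.subschemeι G q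
  have h2 : Subsingleton (Coh.HH I.subscheme G q) :=
    HdgLefLib.sub_iso e.symm q ((QuotSchLib.subsingleton_HH_pullback_iso (asIso φ) _ q).2 h)
  exact E.symm.toEquiv.subsingleton

variable {k : Type u} [Field k] [IsAlgClosed k] {m s : ℕ} {P : Fin s → ↥(CohB1.ProjSpace (m + 1) k)}
  (hP : Function.Injective P) (hPc : ∀ i, IsClosed ({P i} : Set ↥(CohB1.ProjSpace (m + 1) k)))
  (hZ : IsClosed (Set.range P)) {X : Scheme.{u}} {π : X ⟶ CohB1.ProjSpace (m + 1) k}
  (hπ : BlowUp.IsBlowUp π (Scheme.IdealSheafData.vanishingIdeal ⟨Set.range P, hZ⟩))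

/-- `π^*O(c)` -/
abbrev pO (π : X ⟶ CohB1.ProjSpace (m + 1) k) (c : ℤ) : X.Modules :=
  (Scheme.Modules.pullback π).obj (Twist.twistProjSpace (m + 1) k c)

/-- `O(c e₀ - Σ d_t e_t)` -/
abbrev ln (π : X ⟶ CohB1.ProjSpace (m + 1) k) (c : ℤ) (d : Fin s → ℕ) : X.Modules :=
  CohB1.tensorMod (pO π c) (FGA.multiTwist (fun t : Fin s => ClSub.idealMod (excI hPc π t)) d)

theorem isInvertible_pO (c : ℤ) : PicF.IsInvertible (pO π c) :=
  AmpleDevLib.isInvertible_pb π (PicPnLib.twist_inv (m + 1) k c)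

include hP hπ in
theorem isInvertible_excI (t : Fin s) : PicF.IsInvertible (ClSub.idealMod (excI hPc π t)) :=
  IntMultLib.isInvertible_idealMod _ (exists_exceptional hP hPc hZ hπ t).1

include hP hπ in
theorem isInvertible_ln (c : ℤ) (d : Fin s → ℕ) : PicF.IsInvertible (ln hPc π c d) :=
  HilbPolyLib.isInvertible_tensor (isInvertible_pO c)
    (HilbPolyLib.isInvertible_multiTwist _ (isInvertible_excI hP hPc hZ hπ) d)

include hP hπ in
/-- **The restriction of `O(c e₀ - Σ d e)` to an exceptional divisor.** -/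
theorem nonempty_ln_restrict (c : ℤ) (d : Fin s → ℕ) (t : Fin s)
    (φ : (excI hPc π t).subscheme ⟶ CohB1.ProjSpace m k)
    (eφ : (Scheme.Modules.pullback φ).obj (Twist.twistProjSpace m k 1) ≅
      (Scheme.Modules.pullback (excI hPc π t).subschemeι).obj (ClSub.idealMod (excI hPc π t))) :
    Nonempty ((Scheme.Modules.pullback (excI hPc π t).subschemeι).obj (ln hPc π c d) ≅
      (Scheme.Modules.pullback φ).obj (Twist.twistProjSpace m k (d t : ℤ))) := by
  classical
  let ι := (excI hPc π t).subschemeι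
  have hs : ∀ (t' : Fin s) (e : ℕ), t ≠ t' →
      Nonempty ((Scheme.Modules.pullback ι).obj (CohB1.tensorPow (ClSub.idealMod (excI hPc π t')) e) ≅
        Coh.structureModule (excI hPc π t).subscheme) := fun t' e he => by
    obtain ⟨f⟩ := nonempty_excI_disjoint hP hPc he (exists_exceptional hP hPc hZ hπ t').1
    induction e with
    | zero => exact ⟨KFlatLib.pullUnitIso ι⟩
    | succ e ih =>
      obtain ⟨h'⟩ := ih
      obtain ⟨p⟩ := nonempty_pb_tensor ι (CohB1.tensorPow (ClSub.idealMod (excI hPc π t')) e) (ClSub.idealMod (excI hPc π t'))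
      exact ⟨p ≪≫ congrLeft h' _ ≪≫ congrRight _ f ≪≫ unitLeft _⟩
  have hl : ∀ l : List (Fin s), l.Nodup →
      Nonempty ((Scheme.Modules.pullback ι).obj
          (FGA.tensorList (l.map fun i => CohB1.tensorPow (ClSub.idealMod (excI hPc π i)) (d i))) ≅
        (Scheme.Modules.pullback φ).obj (Twist.twistProjSpace m k (if t ∈ l then (d t : ℤ) else 0))) := by
    intro l hl
    induction l with
    | nil =>
      obtain ⟨z⟩ := PicPnLib.twist_zero m k
      simp only [List.not_mem_nil, if_false]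
      exact ⟨KFlatLib.pullUnitIso ι ≪≫ (KFlatLib.pullUnitIso φ).symm ≪≫ (Scheme.Modules.pullback φ).mapIso z.symm⟩
    | cons i l ih =>
      obtain ⟨hi, hl'⟩ := List.nodup_cons.1 hl
      obtain ⟨f⟩ := ih hl'
      simp only [List.map_cons, FGA.tensorList]
      obtain ⟨p⟩ := nonempty_pb_tensor ι (CohB1.tensorPow (ClSub.idealMod (excI hPc π i)) (d i))
        (FGA.tensorList (l.map fun i => CohB1.tensorPow (ClSub.idealMod (excI hPc π i)) (d i)))
      by_cases hit : t = i
      · subst hit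
        rw [if_neg hi] at f
        rw [if_pos List.mem_cons_self]
        obtain ⟨g⟩ := CurveDualLib.nonempty_pb_tensorPow ι (ClSub.idealMod (excI hPc π t)) (d t)
        obtain ⟨g'⟩ := CurveDualLib.nonempty_pb_tensorPow φ (Twist.twistProjSpace m k 1) (d t)
        obtain ⟨w⟩ := CurveDualLib.nonempty_tensorPow_congr eφ (d t)
        obtain ⟨w'⟩ := nonempty_twist_tensorPow m k (d t)
        obtain ⟨z⟩ := PicPnLib.twist_zero m k
        exact ⟨p ≪≫ congrRight _ (f ≪≫ (Scheme.Modules.pullback φ).mapIso z ≪≫ KFlatLib.pullUnitIso φ) ≪≫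
          swapIso _ _ ≪≫ unitLeft _ ≪≫ g ≪≫ w.symm ≪≫ g'.symm ≪≫ (Scheme.Modules.pullback φ).mapIso w'⟩
      · obtain ⟨g⟩ := hs i (d i) hit
        simp only [List.mem_cons, hit, false_or]
        exact ⟨p ≪≫ congrLeft g _ ≪≫ unitLeft _ ≪≫ f⟩
  obtain ⟨f⟩ := hl _ (List.nodup_finRange s)
  rw [if_pos (List.mem_finRange t)] at f
  obtain ⟨e⟩ := (exists_exceptional hP hPc hZ hπ t).2.1 c
  obtain ⟨p⟩ := nonempty_pb_tensor ι (pO π c) (FGA.multiTwist (fun t : Fin s => ClSub.idealMod (excI hPc π t)) d)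
  exact ⟨p ≪≫ congrLeft e _ ≪≫ unitLeft _ ≪≫ f⟩

/-- Raise one exponent. -/
abbrev bump (d : Fin s → ℕ) (t : Fin s) : Fin s → ℕ := Function.update d t (d t + 1)

include hP hπ in
/-- **The restriction sequence at one exceptional divisor.** -/
theorem exists_seq (c : ℤ) (d : Fin s → ℕ) (t : Fin s) :
    ∃ T : ShortComplex X.Modules, T.ShortExact ∧ Nonempty (T.X₁ ≅ ln hPc π c (bump d t)) ∧
      Nonempty (T.X₂ ≅ ln hPc π c d) ∧
      ∀ q, Subsingleton (Coh.HH (CohB1.ProjSpace m k) (Twist.twistProjSpace m k (d t : ℤ)) q) →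
        Subsingleton (Coh.HH X T.X₃ q) := by
  obtain ⟨-, -, φ, hφ, -, ⟨eφ⟩⟩ := exists_exceptional hP hPc hZ hπ t
  haveI := hφ
  obtain ⟨eR⟩ := nonempty_ln_restrict hP hPc hZ hπ c d t φ eφ
  obtain ⟨T, hT, ⟨e₁⟩, ⟨e₂⟩, ⟨e₃⟩⟩ := HdgLefLib.exists_restrict_seq (excI hPc π t)
    (AmpleDevLib.isFinLocFree_of_isInvertible (isInvertible_ln hP hPc hZ hπ c d))
  obtain ⟨st⟩ := HilbPolyLib.nonempty_multiTwist_step (fun t : Fin s => ClSub.idealMod (excI hPc π t)) d t
  exact ⟨T, hT, ⟨e₁ ≪≫ assocIso _ _ _ ≪≫ congrRight _ (swapIso _ _ ≪≫ st.symm)⟩, ⟨e₂⟩,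
    fun q h => HdgLefLib.sub_iso e₃.symm q (sub_push_twist φ eR q h)⟩

include hP hπ in
/-- Positive-degree vanishing passes down the restriction sequences. -/
theorem down (c : ℤ) (d : Fin s → ℕ) (t : Fin s) (q : ℕ) (hq : 1 ≤ q)
    (h : Subsingleton (Coh.HH X (ln hPc π c (bump d t)) q)) : Subsingleton (Coh.HH X (ln hPc π c d) q) := by
  obtain ⟨T, hT, ⟨e₁⟩, ⟨e₂⟩, h₃⟩ := exists_seq hP hPc hZ hπ c d t
  exact HdgLefLib.sub_iso e₂ q (HdgLefLib.sub₂ hT (HdgLefLib.sub_iso e₁.symm q h)
    (h₃ q (PnCohLib.subsingleton_HH_twist _ q (fun e => by omega) (fun e => by omega))))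

include hP hπ in
/-- Vanishing in degree at least two passes up the restriction sequences. -/
theorem up (c : ℤ) (d : Fin s → ℕ) (t : Fin s) (q : ℕ) (hq : 2 ≤ q)
    (h : Subsingleton (Coh.HH X (ln hPc π c d) q)) : Subsingleton (Coh.HH X (ln hPc π c (bump d t)) q) := by
  obtain ⟨T, hT, ⟨e₁⟩, ⟨e₂⟩, h₃⟩ := exists_seq hP hPc hZ hπ c d t
  obtain ⟨q, rfl⟩ : ∃ q', q = q' + 1 := ⟨q - 1, by omega⟩
  exact HdgLefLib.sub_iso e₁ _ (HodgePnLib.sub₁_succ hT
    (h₃ q (PnCohLib.subsingleton_HH_twist _ q (fun e => by omega) (fun e => by omega)))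
    (HdgLefLib.sub_iso e₂.symm _ h))

include hP hπ in
/-- Absence of sections passes up the restriction sequences. -/
theorem up_zero (c : ℤ) (d : Fin s → ℕ) (t : Fin s)
    (h : Subsingleton (Coh.HH X (ln hPc π c d) 0)) : Subsingleton (Coh.HH X (ln hPc π c (bump d t)) 0) := by
  obtain ⟨T, hT, ⟨e₁⟩, ⟨e₂⟩, h₃⟩ := exists_seq hP hPc hZ hπ c d t
  exact HdgLefLib.sub_iso e₁ _ (HodgePnLib.sub₁_zero hT (HdgLefLib.sub_iso e₂.symm _ h))

/-- Induction on multi-exponents. -/
theorem multi_induction {motive : (Fin s → ℕ) → Prop} (h0 : motive 0)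
    (hstep : ∀ d t, motive d → motive (bump d t)) (d : Fin s → ℕ) : motive d := by
  obtain ⟨N, hN⟩ : ∃ N, ∑ i, d i = N := ⟨_, rfl⟩
  induction N generalizing d with
  | zero =>
    have : d = 0 := funext fun i => Nat.le_zero.1 (hN ▸ Finset.single_le_sum (fun j _ => Nat.zero_le (d j)) (Finset.mem_univ i))
    exact this ▸ h0
  | succ N ih =>
    obtain ⟨t, ht⟩ : ∃ t, 0 < d t := by
      by_contra! h
      rw [Finset.sum_eq_zero fun i _ => Nat.le_zero.1 (h i)] at hN
      omega
    let d' := Function.update d t (d t - 1)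
    have hd' : bump d' t = d := by
      funext i
      by_cases hi : i = t
      · subst hi; simp [d']; omega
      · simp [d', bump, Function.update_of_ne hi]
    have hsum : ∑ i, d' i = N := by
      have h1 := Finset.sum_update_of_mem (Finset.mem_univ t) d (d t - 1)
      have h2 := Finset.sum_update_of_mem (Finset.mem_univ t) d (d t)
      rw [Function.update_eq_self] at h2
      simp only [d'] at *
      omega
    exact hd' ▸ hstep d' t (ih d' hsum)

include hP hπ in
/-- Positive-degree vanishing for any exponents gives it for none. -/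
theorem down_all (c : ℤ) (q : ℕ) (hq : 1 ≤ q) (d : Fin s → ℕ)
    (h : Subsingleton (Coh.HH X (ln hPc π c d) q)) : Subsingleton (Coh.HH X (ln hPc π c 0) q) := by
  induction d using multi_induction with
  | h0 => exact h
  | hstep d t ih => exact ih (down hP hPc hZ hπ c d t q hq h)

include hP hπ in
theorem up_all (c : ℤ) (q : ℕ) (hq : 2 ≤ q) (h : Subsingleton (Coh.HH X (ln hPc π c 0) q)) (d : Fin s → ℕ) :
    Subsingleton (Coh.HH X (ln hPc π c d) q) :=
  multi_induction (motive := fun d => Subsingleton (Coh.HH X (ln hPc π c d) q)) h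
    (fun d t ih => up hP hPc hZ hπ c d t q hq ih) d

include hP hπ in
theorem up_all_zero (c : ℤ) (h : Subsingleton (Coh.HH X (ln hPc π c 0) 0)) (d : Fin s → ℕ) :
    Subsingleton (Coh.HH X (ln hPc π c d) 0) :=
  multi_induction (motive := fun d => Subsingleton (Coh.HH X (ln hPc π c d) 0)) h
    (fun d t ih => up_zero hP hPc hZ hπ c d t ih) d

include hP hπ in
/-- With no exponents the line bundle is `π^*O(c)`. -/
theorem nonempty_ln_zero (c : ℤ) : Nonempty (ln hPc π c 0 ≅ pO π c) := by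
  have : ∀ l : List (Fin s), Nonempty (FGA.tensorList
      (l.map fun i => CohB1.tensorPow (ClSub.idealMod (excI hPc π i)) ((0 : Fin s → ℕ) i)) ≅ Coh.structureModule X) := by
    intro l
    induction l with
    | nil => exact ⟨Iso.refl _⟩
    | cons i l ih =>
      obtain ⟨e⟩ := ih
      exact ⟨congrRight _ e ≪≫ unitLeft _⟩
  obtain ⟨e⟩ := this (List.finRange s)
  exact ⟨congrRight _ e ≪≫ swapIso _ _ ≪≫ unitLeft _⟩

end BlowPtLib
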