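import Groth.Agent.BlowPtLib.Hyp
import Groth.Agent.SurfNumLib.IdealMul
import Groth.Agent.SDivLib.FlatDiv
import Groth.Agent.MiscFlat6.RelAmpleCompPowers
import Groth.Agent.LichtLib.Ample
import Groth.Agent.FormalCohLib.ProjAmple
import Groth.Agent.S0051

/-!
# The cohomology of `π^*O(c)` on the blow-up of projective space at points
-/

set_option autoImplicit false
set_option linter.style.haveILetI false
set_option linter.unusedSectionVars false
set_option maxHeartbeats 1000000
set_option backward.isDefEq.respectTransparency false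
set_option backward.isDefEq.respectTransparency.types false

universe u

open CategoryTheory CategoryTheory.Limits AlgebraicGeometry TopologicalSpace Opposite
open HilbPolyLib (congrLeft congrRight assocIso swapIso unitLeft leftComm)

noncomputable section

namespace BlowPtLib

/-- Powers of a tensor product. -/
theorem nonempty_tensorPow_tensorMod {X : Scheme.{u}} (A B : X.Modules) : ∀ M : ℕ,
    Nonempty (CohB1.tensorPow (CohB1.tensorMod A B) M ≅
      CohB1.tensorMod (CohB1.tensorPow A M) (CohB1.tensorPow B M))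
  | 0 => ⟨(unitLeft _).symm⟩
  | M + 1 => by
    obtain ⟨e⟩ := nonempty_tensorPow_tensorMod A B M
    exact ⟨congrLeft e _ ≪≫ assocIso _ _ _ ≪≫ congrRight _ (leftComm _ _ _) ≪≫ (assocIso _ _ _).symm⟩

/-- Powers of the unit. -/
theorem nonempty_tensorPow_unit {X : Scheme.{u}} : ∀ M : ℕ,
    Nonempty (CohB1.tensorPow (Coh.structureModule X) M ≅ Coh.structureModule X)
  | 0 => ⟨Iso.refl _⟩
  | M + 1 => by
    obtain ⟨e⟩ := nonempty_tensorPow_unit (X := X) M
    exact ⟨congrLeft e _ ≪≫ unitLeft _⟩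

/-- Powers of a product over a list. -/
theorem nonempty_tensorPow_list {X : Scheme.{u}} {ι : Type*} (L : ι → X.Modules) (M : ℕ) : ∀ l : List ι,
    Nonempty (CohB1.tensorPow (FGA.tensorList (l.map L)) M ≅
      FGA.tensorList (l.map fun i => CohB1.tensorPow (L i) M))
  | [] => nonempty_tensorPow_unit M
  | i :: l => by
    obtain ⟨e⟩ := nonempty_tensorPow_list L M l
    obtain ⟨f⟩ := nonempty_tensorPow_tensorMod (L i) (FGA.tensorList (l.map L)) M
    exact ⟨f ≪≫ congrRight _ e⟩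

/-- The ideal of a list product on an affine open. -/
theorem ideal_prod_eq {X : Scheme.{u}} {ι : Type*} [DecidableEq ι] (I : ι → X.IdealSheafData) (T : X.affineOpens) :
    ∀ (l : List ι), l.Nodup → ∀ t ∈ l, (∀ t' ∈ l, t' ≠ t → (I t').ideal T = ⊤) →
      ((l.map I).foldr (· * ·) ⊤).ideal T = (I t).ideal T
  | i :: l, hl, t, ht, h => by
    have hrest : ∀ l' : List ι, (∀ t' ∈ l', (I t').ideal T = ⊤) → ((l'.map I).foldr (· * ·) ⊤).ideal T = ⊤ := by
      intro l' h'
      induction l' with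
      | nil => simp
      | cons j l' ih =>
        rw [List.map_cons, List.foldr_cons, Scheme.IdealSheafData.ideal_mul, Pi.mul_apply]
        rw [h' j List.mem_cons_self, ih fun t' ht' => h' t' (List.mem_cons_of_mem _ ht'), Ideal.top_mul]
    obtain ⟨hi, hl'⟩ := List.nodup_cons.1 hl
    rw [List.map_cons, List.foldr_cons, Scheme.IdealSheafData.ideal_mul, Pi.mul_apply]
    by_cases hit : i = t
    · subst hit
      rw [hrest l fun t' ht' => h t' (List.mem_cons_of_mem _ ht') (fun e => hi (e ▸ ht')), Ideal.mul_top]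
    · rw [h i List.mem_cons_self hit, Ideal.top_mul]
      exact ideal_prod_eq I T l hl' t ((List.mem_cons.1 ht).resolve_left (Ne.symm hit))
        fun t' ht' => h t' (List.mem_cons_of_mem _ ht')

/-- A product of effective Cartier ideals. -/
theorem prod_isEffCartier {X : Scheme.{u}} {ι : Type*} (I : ι → X.IdealSheafData)
    (h : ∀ i, BlowUp.IsEffCartierIdeal (I i)) : ∀ l : List ι,
      BlowUp.IsEffCartierIdeal ((l.map I).foldr (· * ·) ⊤) ∧
        Nonempty (FGA.tensorList (l.map fun i => ClSub.idealMod (I i)) ≅ ClSub.idealMod ((l.map I).foldr (· * ·) ⊤))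
  | [] => by
    obtain ⟨e⟩ := nonempty_idealMod_top X
    exact ⟨IntMultLib.isEffCartier_of_isInvertible _
      (HilbPolyLib.isInvertible_of_iso e.symm CurvLib.isInvertible_structureModule), ⟨e.symm⟩⟩
  | i :: l => by
    obtain ⟨hl, ⟨e⟩⟩ := prod_isEffCartier I h l
    obtain ⟨m⟩ := SurfNumLib.nonempty_idealMod_mul (h i) hl
    exact ⟨SDivLib.isEffCartier_mul (h i) hl, ⟨congrRight _ e ≪≫ m⟩⟩

variable {k : Type u} [Field k] [IsAlgClosed k] {m s : ℕ} {P : Fin s → ↥(CohB1.ProjSpace (m + 1) k)}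
  (hP : Function.Injective P) (hPc : ∀ i, IsClosed ({P i} : Set ↥(CohB1.ProjSpace (m + 1) k)))
  (hZ : IsClosed (Set.range P)) {X : Scheme.{u}} {π : X ⟶ CohB1.ProjSpace (m + 1) k}
  (hπ : BlowUp.IsBlowUp π (Scheme.IdealSheafData.vanishingIdeal ⟨Set.range P, hZ⟩))

include hP hπ in
/-- The total exceptional ideal is the product of the exceptional ideals. -/
theorem comap_vanishingIdeal_range :
    (Scheme.IdealSheafData.vanishingIdeal ⟨Set.range P, hZ⟩).comap π =
      ((List.finRange s).map fun t => excI hPc π t).foldr (· * ·) ⊤ := by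
  classical
  have hloc : ∀ x : X, ∃ T : X.affineOpens, x ∈ T.1 ∧
      ((Scheme.IdealSheafData.vanishingIdeal ⟨Set.range P, hZ⟩).comap π).ideal T =
        (((List.finRange s).map fun t => excI hPc π t).foldr (· * ·) ⊤).ideal T := by
    intro x
    by_cases hx : ∃ t, π x = P t
    · obtain ⟨t, ht⟩ := hx
      obtain ⟨U₀, a, htU, honly, ha, -⟩ := exists_point_chart k P hP hPc t
      obtain ⟨T, hT, hxT, hTU⟩ := exists_isAffineOpen_mem_and_subset (x := x) (U := π ⁻¹ᵁ U₀.1)
        (show π x ∈ U₀.1 from ht.symm ▸ htU)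
      refine ⟨⟨T, hT⟩, hxT, ?_⟩
      rw [ideal_prod_eq (fun t => excI hPc π t) ⟨T, hT⟩ _ (List.nodup_finRange s) t (List.mem_finRange t)
        fun t' _ ht' => CDivRatioLib.ideal_eq_top _ ⟨T, hT⟩ fun y hy hys => ht' (honly t' (support_excI hPc t' y hys ▸ hTU hy))]
      rw [Groth.Agent.S4666.ideal_comap_eq _ π U₀ ⟨T, hT⟩ hTU, Groth.Agent.S4666.ideal_comap_eq _ π U₀ ⟨T, hT⟩ hTU,
        vanishingIdeal_eq_prime (⟨{P t}, hPc t⟩ : Closeds (CohB1.ProjSpace (m + 1) k)) U₀ (P t) htU fun x _ => Iff.rfl,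
        vanishingIdeal_eq_prime (⟨Set.range P, hZ⟩ : Closeds (CohB1.ProjSpace (m + 1) k)) U₀ (P t) htU
          fun y hy => ⟨?_, fun e => ⟨t, e.symm⟩⟩]
      rintro ⟨t', rfl⟩
      rw [honly t' hy]
    · push_neg at hx
      obtain ⟨T, hT, hxT, hTU⟩ := exists_isAffineOpen_mem_and_subset (x := x)
        (U := π ⁻¹ᵁ ⟨(Set.range P)ᶜ, hZ.isOpen_compl⟩) (fun ⟨t, ht⟩ => hx t ht.symm)
      refine ⟨⟨T, hT⟩, hxT, ?_⟩
      rw [CDivRatioLib.ideal_eq_top _ ⟨T, hT⟩ fun y hy hys => hTU hy (by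
        have h : π y ∈ (Scheme.IdealSheafData.vanishingIdeal
            (⟨Set.range P, hZ⟩ : Closeds (CohB1.ProjSpace (m + 1) k))).support :=
          (Scheme.IdealSheafData.support_comap _ π).le hys
        rw [← SetLike.mem_coe, Scheme.IdealSheafData.coe_support_vanishingIdeal] at h
        exact h)]
      refine (?_ : ∀ l : List (Fin s),
        (((l.map fun t => excI hPc π t).foldr (· * ·) ⊤ : X.IdealSheafData)).ideal ⟨T, hT⟩ = ⊤) _ |>.symm
      intro l
      induction l with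
      | nil => simp
      | cons t l ih =>
        rw [List.map_cons, List.foldr_cons, Scheme.IdealSheafData.ideal_mul, Pi.mul_apply]
        rw [ih, CDivRatioLib.ideal_eq_top _ ⟨T, hT⟩ fun y hy hys => hTU hy ⟨t, (support_excI hPc t y hys).symm⟩,
          Ideal.top_mul]
  choose T hxT hT using hloc
  exact Scheme.IdealSheafData.ext_of_iSup_eq_top T
    (top_le_iff.1 fun x _ => Opens.mem_iSup.2 ⟨x, hxT x⟩) hT

include hP hπ in
/-- The total exceptional ideal as a multiple twist. -/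
theorem nonempty_multiTwist_const (M : ℕ) :
    Nonempty (CohB1.tensorPow (ClSub.idealMod ((Scheme.IdealSheafData.vanishingIdeal ⟨Set.range P, hZ⟩).comap π)) M ≅
      FGA.multiTwist (fun t : Fin s => ClSub.idealMod (excI hPc π t)) fun _ => M) := by
  obtain ⟨-, ⟨e⟩⟩ := prod_isEffCartier (fun t => excI hPc π t) (fun t => (exists_exceptional hP hPc hZ hπ t).1)
    (List.finRange s)
  rw [← comap_vanishingIdeal_range hP hPc hZ hπ] at e
  obtain ⟨f⟩ := CurveDualLib.nonempty_tensorPow_congr e.symm M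
  obtain ⟨g⟩ := nonempty_tensorPow_list (fun t : Fin s => ClSub.idealMod (excI hPc π t)) M (List.finRange s)
  exact ⟨f ≪≫ g⟩

/-- Powers of `π^*O(1)`. -/
theorem nonempty_pO_pow (π : X ⟶ CohB1.ProjSpace (m + 1) k) (n M : ℕ) :
    Nonempty (CohB1.tensorPow ((Scheme.Modules.pullback π).obj
      (CohB1.tensorPow (Twist.twistProjSpace (m + 1) k 1) n)) M ≅ pO π ((n * M : ℕ) : ℤ)) := by
  induction M with
  | zero =>
    obtain ⟨z⟩ := PicPnLib.twist_zero (m + 1) k
    exact ⟨(KFlatLib.pullUnitIso π).symm ≪≫ (Scheme.Modules.pullback π).mapIso (z.symm ≪≫ eqToIso (by simp))⟩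
  | succ M ih =>
    obtain ⟨e⟩ := ih
    obtain ⟨w⟩ := nonempty_twist_tensorPow (m + 1) k n
    obtain ⟨p⟩ := nonempty_pb_tensor π (Twist.twistProjSpace (m + 1) k ((n * M : ℕ) : ℤ))
      (Twist.twistProjSpace (m + 1) k (n : ℤ))
    obtain ⟨a⟩ := PicPnLib.twist_add (m + 1) k ((n * M : ℕ) : ℤ) (n : ℤ)
    exact ⟨congrLeft e _ ≪≫ congrRight _ ((Scheme.Modules.pullback π).mapIso w) ≪≫ p.symm ≪≫
      (Scheme.Modules.pullback π).mapIso (a ≪≫ eqToIso (by rw [Nat.mul_succ, Nat.cast_add]))⟩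

include hZ hπ in
theorem isProper_π : IsProper π := by
  haveI : IsLocallyNoetherian (CohB1.ProjSpace (m + 1) k) := PnCohLib.isLocallyNoetherian_projSpace (n := m + 1) k
  exact BlowUpLib.isProper_of_isBlowUp hπ fun U => by
    haveI := IsLocallyNoetherian.component_noetherian U
    exact IsNoetherian.noetherian _

include hP hPc hπ in
/-- **Vanishing for large twists.** -/
theorem exists_large (c : ℤ) : ∃ C : ℤ, c ≤ C ∧ ∀ q, 1 ≤ q → Subsingleton (Coh.HH X (pO π C) q) := by
  haveI := isProper_π hZ hπ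
  haveI : IsProper (CohB1.ProjSpace.toSpec (m + 1) k) := ProjDegLib.toSpec_isProper k (m + 1)
  haveI : IsLocallyNoetherian (CohB1.ProjSpace (m + 1) k) := PnCohLib.isLocallyNoetherian_projSpace (n := m + 1) k
  let f := π ≫ CohB1.ProjSpace.toSpec (m + 1) k
  haveI : IsProper f := inferInstance
  haveI : CompactSpace X := QuasiCompact.compactSpace_of_compactSpace f
  haveI : QuasiSeparatedSpace X := quasiSeparatedSpace_of_quasiSeparated f
  have h𝓘 : BlowUp.IsFiniteTypeIdeal
      (Scheme.IdealSheafData.vanishingIdeal (⟨Set.range P, hZ⟩ : Closeds (CohB1.ProjSpace (m + 1) k))) := fun U => by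
    haveI := IsLocallyNoetherian.component_noetherian U
    exact IsNoetherian.noetherian _
  obtain ⟨n₀, hn₀⟩ := MiscFlat6.exists_isAmple_tensor_pullback π
    (⟨inferInstance, fun V => LichtLib.isAmple_exceptional hπ h𝓘 V⟩ : RelAmple.IsRelAmple π _)
    (FormalCohLib.isAmple_twistProjSpace (m + 1) k)
  have hA := hn₀ (n₀ + 1) (Nat.le_succ _)
  obtain ⟨N, hN⟩ := (Groth.Agent.S0051.result k X f _ hA.1).1 hA (Coh.structureModule X)
    (by
      haveI : IsLocallyNoetherian X := LocallyOfFiniteType.isLocallyNoetherian f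
      exact DevissLib.isCoh_structureModule X)
  let M := max N c.toNat
  refine ⟨(((n₀ + 1) * M : ℕ) : ℤ), ?_, fun q hq => ?_⟩
  · have h1 : c ≤ (c.toNat : ℤ) := Int.self_le_toNat c
    have h2 : c.toNat ≤ (n₀ + 1) * M :=
      le_trans (le_max_right _ _) (Nat.le_mul_of_pos_left _ (Nat.succ_pos _))
    omega
  · obtain ⟨e₁⟩ := nonempty_tensorPow_tensorMod
      (ClSub.idealMod ((Scheme.IdealSheafData.vanishingIdeal
        (⟨Set.range P, hZ⟩ : Closeds (CohB1.ProjSpace (m + 1) k))).comap π))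
      (KFlatLib.pb π (CohB1.tensorPow (Twist.twistProjSpace (m + 1) k 1) (n₀ + 1))) M
    obtain ⟨e₂⟩ := nonempty_multiTwist_const hP hPc hZ hπ M
    obtain ⟨e₃⟩ := nonempty_pO_pow π (n₀ + 1) M
    obtain ⟨z⟩ := nonempty_ln_zero hP hPc hZ hπ (((n₀ + 1) * M : ℕ) : ℤ)
    refine HdgLefLib.sub_iso z q (down_all hP hPc hZ hπ _ q hq (fun _ => M) ?_)
    exact HdgLefLib.sub_iso (unitLeft _ ≪≫ e₁ ≪≫ swapIso _ _ ≪≫ congrLeft e₃ _ ≪≫ congrRight _ e₂) q
      (hN M (le_max_left _ _) q hq)

include hP hPc hπ in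
/-- **`π^*O(c)` has no intermediate cohomology.** -/
theorem subsingleton_pO (hm : 1 ≤ m) (c : ℤ) (q : ℕ) (hq : (1 ≤ q ∧ q ≤ m) ∨ (q = m + 1 ∧ -(m : ℤ) - 1 ≤ c)) :
    Subsingleton (Coh.HH X (pO π c) q) := by
  obtain ⟨C, hC, h⟩ := exists_large hP hPc hZ hπ c
  obtain ⟨d, rfl⟩ : ∃ d : ℕ, c = C - d := ⟨(C - c).toNat, by omega⟩
  induction d with
  | zero => simpa using h q (by omega)
  | succ d ih =>
    have h' := ih (by omega) (by omega)
    rw [show C - ((d + 1 : ℕ) : ℤ) = C - (d : ℤ) - 1 by omega]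
    by_cases h1 : q = 1
    · subst h1
      exact hyp_down_one hZ hπ (by omega) _ h'
    · exact hyp_down hZ hπ (by omega) _ q (by omega) (by omega) h'

end BlowPtLib
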