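import Groth.Agent.BlowPtLib.Van
import Groth.Agent.BlowUpLib.Strict

/-!
# Absence of sections of negative twists on the blow-up
-/

set_option autoImplicit false
set_option linter.style.haveILetI false
set_option linter.unusedSectionVars false
set_option maxHeartbeats 1000000
set_option backward.isDefEq.respectTransparency false
set_option backward.isDefEq.respectTransparency.types false

universe u

open CategoryTheory CategoryTheory.Limits AlgebraicGeometry TopologicalSpace Opposite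
open HilbPolyLib (congrLeft congrRight assocIso swapIso unitLeft)

noncomputable section

namespace BlowPtLib

/-- The zeroth cohomology is the module of global sections. -/
def hhZero {X : Scheme.{u}} (M : X.Modules) : Coh.HH X M 0 ≃ Γ(M, ⊤) :=
  ((QCohLib.hEquiv ((QCohLib.toAbF X).obj M) 0).trans QCohLib.h0).toEquiv

/-- An ideal sheaf with nonempty support has no sections on a proper variety. -/
theorem subsingleton_sections_ideal {X : Scheme.{u}} {k : Type u} [Field k] [IsIntegral X]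
    (f : X ⟶ Spec (CommRingCat.of k)) [IsProper f] (K : X.IdealSheafData) (x : X) (hx : x ∈ K.support) :
    Subsingleton Γ(ClSub.idealMod K, ⊤) := by
  have hfield := isField_of_universallyClosed (K := k) f
  refine subsingleton_of_forall_eq 0 fun t => IntMultLib.idealModι_app_injective K ⊤ ?_
  let a : Γ(X, ⊤) := (ClSub.idealModι K).app ⊤ t
  suffices ha : a = 0 from ha.trans (map_zero ((ClSub.idealModι K).app ⊤).hom).symm
  by_contra ha
  obtain ⟨b, hb⟩ := hfield.mul_inv_cancel ha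
  obtain ⟨V, hV, hxV, -⟩ := exists_isAffineOpen_mem_and_subset (x := x) (U := (⊤ : X.Opens)) trivial
  have h1 : X.presheaf.map (homOfLE (le_top : V ≤ ⊤)).op a ∈ K.ideal ⟨V, hV⟩ := by
    refine (IntMultLib.toSubscheme_app_eq_zero_iff K ⟨V, hV⟩ _).1 ?_
    have h2 : (ClSub.toSubscheme K).app ⊤ ((ClSub.idealModι K).app ⊤ t) = 0 :=
      ConcreteCategory.congr_hom (congrArg (fun φ : ClSub.idealMod K ⟶ ClSub.quotMod K => φ.app ⊤)
        (kernel.condition (ClSub.toSubscheme K))) t
    have h3 := QCohLib.app_map (ClSub.toSubscheme K) (homOfLE (le_top : V ≤ ⊤))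
      ((ClSub.idealModι K).app ⊤ t)
    rw [h2, map_zero] at h3
    exact h3
  have htop : K.ideal ⟨V, hV⟩ = ⊤ := Ideal.eq_top_of_isUnit_mem _ h1
    ((IsUnit.of_mul_eq_one b hb).map (X.presheaf.map (homOfLE (le_top : V ≤ ⊤)).op).hom)
  have hz := (K.mem_support_iff_of_mem (U := ⟨V, hV⟩) hxV).1 hx
  rw [htop] at hz
  refine (Scheme.mem_zeroLocus_iff _ _ _).1 hz 1 trivial ?_
  rw [Scheme.basicOpen_of_isUnit _ isUnit_one]
  exact hxV

variable {k : Type u} [Field k] [IsAlgClosed k] {m s : ℕ} {P : Fin s → ↥(CohB1.ProjSpace (m + 1) k)}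
  (hP : Function.Injective P) (hPc : ∀ i, IsClosed ({P i} : Set ↥(CohB1.ProjSpace (m + 1) k)))
  (hZ : IsClosed (Set.range P)) {X : Scheme.{u}} {π : X ⟶ CohB1.ProjSpace (m + 1) k}
  (hπ : BlowUp.IsBlowUp π (Scheme.IdealSheafData.vanishingIdeal ⟨Set.range P, hZ⟩))

/-- A hyperplane is not empty. -/
theorem exists_mem_hyp (G : LefPen.Form (m + 1) k 1) (hG : G ≠ 0) :
    ∃ x, x ∈ (LefPen.hypIdeal G).support := by
  by_contra! h
  have htop : LefPen.hypIdeal G = ⊤ := (Scheme.IdealSheafData.support_eq_bot_iff _).1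
    (Closeds.ext (Set.eq_empty_iff_forall_notMem.2 h))
  obtain ⟨eI⟩ := PlaneCurveLib.nonempty_idealMod_iso G hG
  rw [htop] at eI
  obtain ⟨e⟩ := nonempty_idealMod_top (CohB1.ProjSpace (m + 1) k)
  have h0 := HdgLefLib.sub_iso (eI.symm ≪≫ e) 0
    (PnCohLib.subsingleton_HH_twist (n := m + 1) (R := k) (-((1 : ℕ) : ℤ)) 0 (fun e => by omega) (fun e => by omega))
  haveI : IsIntegral (CohB1.ProjSpace (m + 1) k) := GenusZeroLib.isIntegral_projSpace k (m + 1)
  haveI : Subsingleton Γ(Coh.structureModule (CohB1.ProjSpace (m + 1) k), ⊤) := (hhZero _).symm.subsingleton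
  exact zero_ne_one (α := Γ(CohB1.ProjSpace (m + 1) k, ⊤))
    (Subsingleton.elim (α := Γ(Coh.structureModule (CohB1.ProjSpace (m + 1) k), ⊤)) _ _)

include hπ in
theorem isIntegral_X : IsIntegral X := by
  haveI : IsIntegral (CohB1.ProjSpace (m + 1) k) := GenusZeroLib.isIntegral_projSpace k (m + 1)
  refine (BlowUpLib.isIntegral_of_isBlowUp hπ fun h => ?_).choose
  obtain ⟨G, hG, hav⟩ := exists_avoiding_hyp P
  obtain ⟨x, hx⟩ := exists_mem_hyp G hG
  refine hav x hx ?_
  have : x ∈ (Scheme.IdealSheafData.vanishingIdeal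
      (⟨Set.range P, hZ⟩ : Closeds (CohB1.ProjSpace (m + 1) k))).support := by
    rw [h, Scheme.IdealSheafData.support_bot]; trivial
  rw [← SetLike.mem_coe, Scheme.IdealSheafData.coe_support_vanishingIdeal] at this
  exact this

include hπ in
/-- **`π^*O(c)` has no sections for negative `c`.** -/
theorem subsingleton_pO_zero (hm : 1 ≤ m) (c : ℤ) (hc : c < 0) : Subsingleton (Coh.HH X (pO π c) 0) := by
  obtain ⟨d, rfl⟩ : ∃ d : ℕ, c = -1 - d := ⟨(-1 - c).toNat, by omega⟩
  induction d with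
  | zero =>
    obtain ⟨K, G, hG, σ, hσ, hw, hK, -⟩ := exists_hyp_data hZ hπ
    obtain ⟨eK⟩ := hK 0
    obtain ⟨x, hx⟩ := exists_mem_hyp G hG
    haveI := hσ
    rw [← SetLike.mem_coe, ← Scheme.IdealSheafData.range_subschemeι] at hx
    obtain ⟨z, rfl⟩ := hx
    haveI := isProper_π hZ hπ
    haveI : IsProper (CohB1.ProjSpace.toSpec (m + 1) k) := ProjDegLib.toSpec_isProper k (m + 1)
    haveI := isIntegral_X hZ hπ
    haveI := subsingleton_sections_ideal (π ≫ CohB1.ProjSpace.toSpec (m + 1) k) K (K.subschemeι (inv σ z))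
      ((Scheme.IdealSheafData.range_subschemeι K).subset ⟨_, rfl⟩)
    obtain ⟨z0⟩ := PicPnLib.twist_zero (m + 1) k
    refine HdgLefLib.sub_iso ((unitLeft (ClSub.idealMod K)).symm ≪≫
      congrLeft ((KFlatLib.pullUnitIso π).symm ≪≫ (Scheme.Modules.pullback π).mapIso z0.symm) _ ≪≫ eK ≪≫
      eqToIso (by simp)) 0 ?_
    exact (hhZero _).subsingleton
  | succ d ih =>
    have h' := ih (by omega)
    obtain ⟨T, hT, ⟨e₁⟩, ⟨e₂⟩, -⟩ := exists_hyp_seq hZ hπ hm (-1 - (d : ℤ))
    exact HdgLefLib.sub_iso (e₁ ≪≫ eqToIso (by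
      rw [show -1 - (d : ℤ) - 1 = -1 - ((d + 1 : ℕ) : ℤ) by omega])) 0
      (HodgePnLib.sub₁_zero hT (HdgLefLib.sub_iso e₂.symm 0 h'))

end BlowPtLib
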